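import Groth.Agent.Lib.StAlg16.QC

/-! Properties of algebraic stacks local for the smooth topology. -/

universe v₃ u₃ v₂ u₂ u

open CategoryTheory CategoryTheory.Functor CategoryTheory.Limits AlgebraicGeometry Opposite Topology

set_option linter.style.haveILetI false
set_option linter.unusedSectionVars false
set_option backward.isDefEq.respectTransparency false
set_option backward.isDefEq.respectTransparency.types false

namespace Groth.Agent.StAlg16

open Groth.Agent.FC16 Groth.Agent.StAlg AlgSt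

variable {S : Scheme.{u}} {𝒳 : AlgSt.Cat S}

/-- `P` is local for the smooth topology -/
abbrev SmoothLocalProp (P : Scheme.{u} → Prop) : Prop :=
  ∀ (U : Scheme.{u}) (R : Presieve U), R ∈ Scheme.precoverage @Smooth U →
    (P U ↔ ∀ ⦃V : Scheme.{u}⦄ (g : V ⟶ U), R g → P V)

theorem SmoothLocalProp.iff_of_surjective {P : Scheme.{u} → Prop} (hP : SmoothLocalProp P) {V U : Scheme.{u}}
    (g : V ⟶ U) [Smooth g] (hs : Function.Surjective g) : P U ↔ P V := by
  rw [hP U (Presieve.singleton g) ((Scheme.singleton_mem_precoverage_iff _ g).2 ⟨hs, inferInstance⟩)]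
  exact ⟨fun h => h g ⟨⟩, fun h _ _ ⟨⟩ => h⟩

theorem SmoothLocalProp.of_smooth {P : Scheme.{u} → Prop} (hP : SmoothLocalProp P) {V U : Scheme.{u}}
    (g : V ⟶ U) [Smooth g] (hU : P U) : P V := by
  let X : Bool → Scheme.{u} := fun b => bif b then V else U
  let f : ∀ b, X b ⟶ U := fun b => match b with
    | true => g
    | false => 𝟙 U
  have hm : Presieve.ofArrows X f ∈ Scheme.precoverage @Smooth U := by
    rw [Scheme.ofArrows_mem_precoverage_iff]
    refine ⟨fun x => ⟨false, x, rfl⟩, fun b => ?_⟩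
    cases b
    · exact (inferInstance : Smooth (𝟙 U))
    · exact (inferInstance : Smooth g)
  exact (hP U _ hm).1 hU g (Presieve.ofArrows.mk true)

theorem smoothLocally_of_chart (h𝒳 : FibCat.IsFibGrpd 𝒳.p) {P : Scheme.{u} → Prop} (hP : SmoothLocalProp P)
    {U : Over S} {x : FibCat.overCat U ⥤ᵇ 𝒳} (hsm : AlgSt.RepByAlgSpWith (AlgSp.LocP @Smooth) x)
    (hs : AlgSt.RepByAlgSpWith AlgSp.IsSurjectiveMor x) (hU : P U.left) : AlgSt.SmoothLocally P 𝒳 := by
  intro V y hy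
  obtain ⟨W, k, h, -, hsq, hk⟩ := exists_chart_square h𝒳 (repByAlgSp1_of_with hsm) V y
  haveI : Smooth k.left := (hk @Smooth).1 hsm
  haveI : Smooth h.left := (hk @Smooth).2 hy
  refine (hP.iff_of_surjective k.left fun v => ?_).2 (hP.of_smooth h.left hU)
  obtain ⟨t, ht⟩ := surjective_ofChart h𝒳 hs (Points.ofChart y v)
  obtain ⟨w, hw, -⟩ := hsq v t ht.symm
  exact ⟨w, hw⟩

theorem smoothLocally_iff_chart (h𝒳 : IsAlgStack Scheme.fppfPrecoverage 𝒳) {P : Scheme.{u} → Prop}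
    (hP : SmoothLocalProp P) :
    AlgSt.SmoothLocally P 𝒳 ↔
      ∃ (U : Over S) (x : FibCat.overCat U ⥤ᵇ 𝒳),
        AlgSt.RepByAlgSpWith (AlgSp.LocP @Smooth) x ∧ AlgSt.RepByAlgSpWith AlgSp.IsSurjectiveMor x ∧ P U.left := by
  refine ⟨fun h => ?_, fun ⟨U, x, hsm, hs, hU⟩ => smoothLocally_of_chart h𝒳.isStack.1 hP hsm hs hU⟩
  obtain ⟨U, x, hsm, hs⟩ := h𝒳.atlas
  exact ⟨U, x, hsm, hs, h U x hsm⟩

/-- the scheme chart of a space over a stack -/
theorem exists_scheme_chart (h𝒳 : FibCat.IsFibGrpd 𝒳.p) {F : AlgSp.Sp S} (hF : AlgSp.IsAlgSpace F) {V : Over S}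
    {p : (AlgSp.yon S).obj V ⟶ F} (hp : AlgSp.RepWith @Etale p) (hps : AlgSp.RepWith @Surjective p)
    {x : AlgSt.ofSp F ⥤ᵇ 𝒳} (hx : AlgSt.RepByAlgSpWith (AlgSp.LocP @Smooth) x) :
    ∃ y : FibCat.overCat V ⥤ᵇ 𝒳, AlgSt.RepByAlgSpWith (AlgSp.LocP @Smooth) y ∧
      (IsSurjective x → AlgSt.RepByAlgSpWith AlgSp.IsSurjectiveMor y) := by
  let q : FibCat.overCat V ⥤ᵇ AlgSt.ofSp F := BasedFunctor.comp (AlgSt.ofOverCat V) (AlgSt.ofSpMap p)
  have hq : AlgSt.RepByAlgSpWith (AlgSp.LocP @Smooth) q :=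
    (with_congr (f := AlgSt.ofSpMap p) (a := AlgSt.ofOverCat V) (b := BasedFunctor.id _) (ofOverCat_isEquivOver V)
      isEquivOver_id (Iso.refl _)).1
      (with_locP_ofSpMap (AlgSp.IsAlgSpace.yon_obj V) hF p
        (AlgSpace.locP_mono AlgSpace.EtaleLocal.etale_le (AlgSpace.locP_of_repWith hF hp)))
  have hy := with_comp goodP_locP (overCat_isFibGrpd V) (isStack_ofSp F).1 hq hx
  refine ⟨_, hy, fun hs => with_surjective_of_isSurjective (overCat_isFibGrpd V) h𝒳 (repByAlgSp1_of_with hy)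
    fun z => ?_⟩
  obtain ⟨a, rfl⟩ := hs z
  obtain ⟨w, rfl⟩ := (surjective_map_ofSpMap p).2 (AlgSpace.surjective_map_of_repWith hps) a
  obtain ⟨v, rfl⟩ := (map_bijective (ofOverCat_isEquivOver V)).2 w
  exact ⟨v, by rw [map_comp_apply, map_comp_apply]⟩

theorem etaleLocally_yon_of {P : Scheme.{u} → Prop} {U : Over S} (hU : P U.left) :
    AlgSp.EtaleLocally P ((AlgSp.yon S).obj U) := by
  refine ⟨U, 𝟙 _, ?_, ?_, hU⟩
  · rw [← (AlgSp.yon S).map_id]; exact (AlgSp.repWith_yon_map_iff _ _).2 (inferInstanceAs (Etale (𝟙 U.left)))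
  · rw [← (AlgSp.yon S).map_id]; exact (AlgSp.repWith_yon_map_iff _ _).2 (inferInstanceAs (Surjective (𝟙 U.left)))

theorem with_toOverCat_comp {Q : MorphismProperty (AlgSp.Sp S)} {U : Over S} {x : FibCat.overCat U ⥤ᵇ 𝒳}
    (h : AlgSt.RepByAlgSpWith Q x) : AlgSt.RepByAlgSpWith Q (BasedFunctor.comp (AlgSt.toOverCat U) x) :=
  (with_congr (f := x) (a := AlgSt.toOverCat U) (b := BasedFunctor.id 𝒳) (toOverCat_isEquivOver U)
    isEquivOver_id (Iso.refl _)).1 h

theorem smoothLocally_iff_forall_space (h𝒳 : IsAlgStack Scheme.fppfPrecoverage 𝒳) {P : Scheme.{u} → Prop}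
    (hP : SmoothLocalProp P) :
    AlgSt.SmoothLocally P 𝒳 ↔
      ∀ (U : AlgSp.Space S) (x : AlgSt.ofSp U.obj ⥤ᵇ 𝒳),
        AlgSt.RepByAlgSpWith (AlgSp.LocP @Smooth) x → AlgSp.EtaleLocally P U.obj := by
  constructor
  · intro h U x hx
    obtain ⟨V, p, hp, hps⟩ := U.property.atlas
    obtain ⟨y, hy, -⟩ := exists_scheme_chart h𝒳.isStack.1 U.property hp hps hx
    exact ⟨V, p, hp, hps, h V y hy⟩
  · intro h U x hx
    obtain ⟨V, p, hp, hps, hV⟩ := h ⟨_, AlgSp.IsAlgSpace.yon_obj U⟩ _ (with_toOverCat_comp hx)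
    obtain ⟨k, rfl⟩ := (AlgSp.yon S).map_surjective p
    haveI : Etale k.left := (AlgSp.repWith_yon_map_iff _ k).1 hp
    haveI : Surjective k.left := (AlgSp.repWith_yon_map_iff _ k).1 hps
    exact (hP.iff_of_surjective k.left k.left.surjective).2 hV

theorem smoothLocally_iff_exists_space (h𝒳 : IsAlgStack Scheme.fppfPrecoverage 𝒳) {P : Scheme.{u} → Prop}
    (hP : SmoothLocalProp P) :
    AlgSt.SmoothLocally P 𝒳 ↔
      ∃ (U : AlgSp.Space S) (x : AlgSt.ofSp U.obj ⥤ᵇ 𝒳),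
        AlgSt.RepByAlgSpWith (AlgSp.LocP @Smooth) x ∧ AlgSt.RepByAlgSpWith AlgSp.IsSurjectiveMor x ∧
          AlgSp.EtaleLocally P U.obj := by
  rw [smoothLocally_iff_chart h𝒳 hP]
  constructor
  · rintro ⟨U, x, hsm, hs, hU⟩
    exact ⟨⟨_, AlgSp.IsAlgSpace.yon_obj U⟩, _, with_toOverCat_comp hsm, with_toOverCat_comp hs,
      etaleLocally_yon_of hU⟩
  · rintro ⟨U, x, hsm, hs, V, p, hp, hps, hV⟩
    obtain ⟨y, hy, hys⟩ := exists_scheme_chart h𝒳.isStack.1 U.property hp hps hsm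
    exact ⟨V, y, hy, hys (isSurjective_of_with h𝒳.isStack.1 hs), hV⟩

theorem smoothLocally_ofSp_iff (X : AlgSp.Space S) {P : Scheme.{u} → Prop} (hP : SmoothLocalProp P) :
    AlgSt.SmoothLocally P (AlgSt.ofSp X.obj) ↔ AlgSp.EtaleLocally P X.obj := by
  have h𝒳 : FibCat.IsFibGrpd (AlgSt.ofSp X.obj).p := (isStack_ofSp X.obj).1
  have hid : AlgSt.RepByAlgSpWith (AlgSp.LocP @Smooth) (BasedFunctor.id (AlgSt.ofSp X.obj)) :=
    with_of_iso (isoMapOf (P := X.obj.obj) (Q := X.obj.obj) (BasedFunctor.id _)).symm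
      ((by
        have h := with_locP_ofSpMap (P := @Smooth) X.property X.property (𝟙 X.obj) (AlgSpace.locP_id X.property)
        rw [show mapOf (BasedFunctor.id (AlgSt.ofSp X.obj)) = (𝟙 X.obj : X.obj ⟶ X.obj).hom by ext T x; simp [mapOf, pval]; exact Functor.map_id_apply (X := T) X.obj.obj x]
        exact h) : AlgSt.RepByAlgSpWith (AlgSp.LocP @Smooth)
          (Stk.ofPshMap (mapOf (BasedFunctor.id (AlgSt.ofSp X.obj)))))
  have hs : IsSurjective (BasedFunctor.id (AlgSt.ofSp X.obj)) :=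
    (map_bijective (isEquivOver_id (𝒳 := AlgSt.ofSp X.obj))).2
  constructor
  · intro h
    obtain ⟨V, p, hp, hps⟩ := X.property.atlas
    obtain ⟨y, hy, -⟩ := exists_scheme_chart h𝒳 X.property hp hps hid
    exact ⟨V, p, hp, hps, h V y hy⟩
  · rintro ⟨V, p, hp, hps, hV⟩
    obtain ⟨y, hy, hys⟩ := exists_scheme_chart h𝒳 X.property hp hps hid
    exact smoothLocally_of_chart h𝒳 hP hy (hys hs) hV

theorem smoothLocally_ofSch_iff' (U : Over S) {P : Scheme.{u} → Prop} (hP : SmoothLocalProp P) :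
    AlgSt.SmoothLocally P (AlgSt.ofSch U) ↔ P U.left := by
  refine (smoothLocally_ofSp_iff ⟨_, AlgSp.IsAlgSpace.yon_obj U⟩ hP).trans
    ⟨fun ⟨V, p, hp, hps, hV⟩ => ?_, etaleLocally_yon_of⟩
  obtain ⟨k, rfl⟩ := (AlgSp.yon S).map_surjective p
  haveI : Etale k.left := (AlgSp.repWith_yon_map_iff _ k).1 hp
  haveI : Surjective k.left := (AlgSp.repWith_yon_map_iff _ k).1 hps
  exact (hP.iff_of_surjective k.left k.left.surjective).2 hV

end Groth.Agent.StAlg16
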