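import Groth.Agent.Lib.StAlg16.LocPInst
import Groth.Agent.Lib.AlgSpDescent.RedNoeth
import Groth.Agent.Lib.LocImm12.Basic
import Groth.Agent.Lib.SchBasic.Basic
import Groth.Agent.Lib.StAlg16.SmoothLocal

/-! Consequences of the theory of squares of charts. -/

universe u

open CategoryTheory CategoryTheory.Functor CategoryTheory.Limits AlgebraicGeometry Opposite

set_option linter.style.haveILetI false
set_option linter.unusedSectionVars false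
set_option backward.isDefEq.respectTransparency false
set_option backward.isDefEq.respectTransparency.types false

namespace Groth.Agent.StAlg16

open Groth.Agent.FC16 Groth.Agent.StAlg AlgSt

variable {S : Scheme.{u}} {P : MorphismProperty (AlgSp.Sp S)} {𝒳 𝒴 𝒵 : AlgSt.Cat S}

/-- `ofOverCat` is natural -/
noncomputable def ofOverMapIso {U V : Over S} (h : U ⟶ V) :
    BasedFunctor.comp (AlgSt.overMap h) (AlgSt.ofOverCat V) ≅
      BasedFunctor.comp (AlgSt.ofOverCat U) (AlgSt.ofSpMap ((AlgSp.yon S).map h)) :=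
  wrIso (eqToIso (ofOver_toOver U).symm) (BasedFunctor.comp (AlgSt.overMap h) (AlgSt.ofOverCat V)) ≪≫
    wlIso (AlgSt.ofOverCat U) (isoMapOf _ ≪≫ eqToIso (congrArg Stk.ofPshMap
      (show mapOf (BasedFunctor.comp (AlgSt.toOverCat U) (BasedFunctor.comp (AlgSt.overMap h) (AlgSt.ofOverCat V))) =
        ((AlgSp.yon S).map h).hom by ext T x; rfl)))

/-- composites of maps of sheaves -/
noncomputable def ofSpMapComp {F G H : AlgSp.Sp S} (a : F ⟶ G) (b : G ⟶ H) :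
    BasedFunctor.comp (AlgSt.ofSpMap a) (AlgSt.ofSpMap b) ≅ AlgSt.ofSpMap (a ≫ b) :=
  isoMapOf _ ≪≫ eqToIso (congrArg Stk.ofPshMap (by rw [mapOf_comp, mapOf_ofPshMap, mapOf_ofPshMap]; rfl))

theorem of_with_spMap {Q : MorphismProperty (AlgSp.Sp S)} (hQ : GoodP Q) {F G : AlgSp.Sp S} (hF : AlgSp.IsAlgSpace F)
    (hG : AlgSp.IsAlgSpace G) {a : F ⟶ G} (h : AlgSt.RepByAlgSpWith Q (AlgSt.ofSpMap a)) : Q a :=
  hQ.desc hF hG a (repBySpWith_of_with hQ.preIso h)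

theorem with_id_ofSp {F : AlgSp.Sp S} (hF : AlgSp.IsAlgSpace F) {R : MorphismProperty Scheme.{u}}
    [AlgSpace.EtaleLocal R] : AlgSt.RepByAlgSpWith (AlgSp.LocP R) (BasedFunctor.id (AlgSt.ofSp F)) := by
  have h : AlgSt.RepByAlgSpWith (AlgSp.LocP R) (AlgSt.ofSpMap (𝟙 F)) :=
    with_locP_ofSpMap hF hF (𝟙 F) (AlgSpace.locP_id hF)
  exact with_of_iso (eqToIso (congrArg Stk.ofPshMap (mapOf_id (P := F.obj)).symm) ≪≫ (isoMapOf _).symm) h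

/-- the chart of a space from a chart of the fibre product -/
theorem exists_space_map {f : 𝒳 ⥤ᵇ 𝒴} {U V : Over S} {y : FibCat.overCat V ⥤ᵇ 𝒴}
    {F : AlgSp.Sp S} (hF : AlgSp.IsAlgSpace F) {a : F ⟶ (AlgSp.yon S).obj V}
    {e : AlgSt.ofSp F ⥤ᵇ FibCat.fp (BasedFunctor.comp (AlgSt.toOverCat V) y) f} (he : FibCat.IsEquivOver e)
    (i : BasedFunctor.comp e (FibCat.fpFst (BasedFunctor.comp (AlgSt.toOverCat V) y) f) ≅ AlgSt.ofSpMap a)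
    {c : FibCat.overCat U ⥤ᵇ FibCat.fp y f} {h : U ⟶ V}
    (j : BasedFunctor.comp c (FibCat.fpFst y f) ≅ AlgSt.overMap h) :
    ∃ r : (AlgSp.yon S).obj U ⟶ F, r ≫ a = (AlgSp.yon S).map h ∧
      ∀ Q : MorphismProperty (AlgSp.Sp S), GoodP Q → AlgSt.RepByAlgSpWith Q c → Q r := by
  haveI := idFun_full (𝒳 := 𝒴)
  haveI := idFun_faithful (𝒳 := 𝒴)
  let M := fpMap (F := BasedFunctor.comp (AlgSt.toOverCat V) y) (G := f) (F' := y) (G' := f)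
    (a := AlgSt.toOverCat V) (b := BasedFunctor.id _) (s := BasedFunctor.id 𝒴) (Iso.refl _) (Iso.refl _)
  obtain ⟨E, hE, -, ⟨β⟩⟩ := exists_inverse (isEquivOver_comp he
    (show FibCat.IsEquivOver M from fpMap_isEquivOver _ _ (toOverCat_isEquivOver V) isEquivOver_id))
  let Φ : AlgSt.ofSch U ⥤ᵇ AlgSt.ofSp F := BasedFunctor.comp (BasedFunctor.comp (AlgSt.toOverCat U) c) E
  let r : (AlgSp.yon S).obj U ⟶ F := ObjectProperty.homMk (mapOf Φ)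
  refine ⟨r, ?_, fun Q hQ hc => ?_⟩
  · let A := BasedFunctor.comp (BasedFunctor.comp (BasedFunctor.comp Φ e)
      (FibCat.fpFst (BasedFunctor.comp (AlgSt.toOverCat V) y) f)) (AlgSt.toOverCat V)
    let i₁ : A ≅ BasedFunctor.comp (BasedFunctor.comp (AlgSt.ofSpMap ((AlgSp.yon S).map h)) (AlgSt.toOverCat V))
        (BasedFunctor.id _) :=
      wlIso (BasedFunctor.comp (AlgSt.toOverCat U) c) (wrIso β (FibCat.fpFst y f)) ≪≫
        wlIso (AlgSt.toOverCat U) j ≪≫ (overMapIso h).symm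
    have e₁ := mapOf_congr (P := ((AlgSp.yon S).obj U).obj) (Q := ((AlgSp.yon S).obj V).obj)
      (wrIso i₁ (AlgSt.ofOverCat V))
    have i₂ : BasedFunctor.comp A (AlgSt.ofOverCat V) ≅ Stk.ofPshMap (mapOf Φ ≫ a.hom) :=
      wlIso (BasedFunctor.comp (BasedFunctor.comp Φ e) (FibCat.fpFst _ f)) (eqToIso (toOver_ofOver V)) ≪≫
        wlIso Φ i ≪≫ isoMapOf _ ≪≫ eqToIso (congrArg Stk.ofPshMap (by rw [mapOf_comp, mapOf_ofPshMap]))
    have i₃ : BasedFunctor.comp (BasedFunctor.comp (BasedFunctor.comp (AlgSt.ofSpMap ((AlgSp.yon S).map h))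
        (AlgSt.toOverCat V)) (BasedFunctor.id _)) (AlgSt.ofOverCat V) ≅
        Stk.ofPshMap ((AlgSp.yon S).map h).hom :=
      wlIso (AlgSt.ofSpMap ((AlgSp.yon S).map h)) (eqToIso (toOver_ofOver V))
    apply ObjectProperty.hom_ext
    have e₂ := ((mapOf_congr i₂).symm.trans e₁).trans (mapOf_congr i₃)
    rw [mapOf_ofPshMap, mapOf_ofPshMap] at e₂
    exact e₂
  · have h1 : AlgSt.RepByAlgSpWith Q Φ :=
      with_equiv_comp hE (with_comp_equiv (toOverCat_isEquivOver U) hc)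
    exact of_with_spMap hQ (AlgSp.IsAlgSpace.yon_obj U) hF (with_of_iso (isoMapOf Φ) h1)

theorem locQ_iff_with (hP : AlgSp.IsSmoothLocalST P) (hPb : PbP P) (hP₂ : AlgSp.IsLocalOnBase AlgSp.IsFppfCover P)
    (h𝒳 : IsAlgStack Scheme.fppfPrecoverage 𝒳) (h𝒴 : IsAlgStack Scheme.fppfPrecoverage 𝒴)
    {f : 𝒳 ⥤ᵇ 𝒴} (hf : AlgSt.RepByAlgSp1 f) : AlgSt.LocQ P f ↔ AlgSt.RepByAlgSpWith P f := by
  obtain ⟨V, y, hy, hys⟩ := h𝒴.atlas
  obtain ⟨U, h, c, ⟨j⟩, hc, hcs⟩ := exists_good h𝒳 h𝒴 f y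
  have hU := AlgSp.IsAlgSpace.yon_obj U
  have hV := AlgSp.IsAlgSpace.yon_obj V
  constructor
  · intro hq
    obtain ⟨G, a, e, he, ⟨i⟩, hra, -⟩ := exists_rep_over h𝒳.isStack.1 h𝒴.isStack.1 hf
      (BasedFunctor.comp (AlgSt.toOverCat V) y)
    obtain ⟨hG, hGA⟩ := AlgSpace.isAlgSpaceP_of_repBySp a hra (AlgSpace.isAlgSpaceP_pyon V)
    obtain ⟨r, hr, hrQ⟩ := exists_space_map (F := ⟨G, hG⟩) hGA (a := ObjectProperty.homMk a) he i j
    have hh := of_locQ hP h𝒳.isStack.1 h𝒴.isStack.1 hq hy j hc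
    have hsm := hrQ _ goodP_locP hc
    have hsu := hrQ _ goodP_surjective hcs
    have ha : P (ObjectProperty.homMk a : (⟨G, hG⟩ : AlgSp.Sp S) ⟶ (AlgSp.yon S).obj V) := by
      refine (hP.locality hGA hV _).2 fun z => ?_
      obtain ⟨t, rfl⟩ := hsu z
      exact ⟨_, _, r, 𝟙 _, (AlgSp.yon S).map h, t, hU, hV, hsm, AlgSpace.locP_id hV,
        by rw [Category.comp_id]; exact hr, rfl, hh⟩
    exact (with_iff_baseChange_cover hPb hP₂ h𝒳.isStack.1 h𝒴.isStack.1 hf ⟨_, hV⟩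
      (BasedFunctor.comp (AlgSt.toOverCat V) y) (with_toOverCat_comp (with_locP_mono smooth_le_flat hy))
      (with_toOverCat_comp (with_locP_mono smooth_le_lfp hy)) (with_toOverCat_comp hys)).2
      ⟨⟨⟨G, hG⟩, hGA⟩, ObjectProperty.homMk (ObjectProperty.homMk a), e, he, ⟨i⟩, ha⟩
  · intro hw
    obtain ⟨F, a, e, he, ⟨i⟩, ha⟩ := exists_baseChange_space hPb hP₂ h𝒳.isStack.1 h𝒴.isStack.1 hw ⟨_, hV⟩
      (BasedFunctor.comp (AlgSt.toOverCat V) y)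
    obtain ⟨r, hr, hrQ⟩ := exists_space_map F.property (a := a.hom) he i j
    refine locQ_of_good h𝒳.isStack.1 h𝒴.isStack.1 hy hys j hc hcs ?_
    rw [← hr]
    exact hP.precomp hU F.property hV _ _ (hrQ _ goodP_locP hc) ha

theorem exists_chart_over (h𝒳 : IsAlgStack Scheme.fppfPrecoverage 𝒳) (h𝒴 : IsAlgStack Scheme.fppfPrecoverage 𝒴)
    (f : 𝒳 ⥤ᵇ 𝒴) {V : Over S} {y : FibCat.overCat V ⥤ᵇ 𝒴}
    (hy : AlgSt.RepByAlgSpWith (AlgSp.LocP @Smooth) y) (hy' : AlgSt.RepByAlgSpWith AlgSp.IsSurjectiveMor y) :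
    ∃ (U : Over S) (a : U ⟶ V) (x : FibCat.overCat U ⥤ᵇ 𝒳),
      AlgSt.RepByAlgSpWith (AlgSp.LocP @Smooth) x ∧ AlgSt.RepByAlgSpWith AlgSp.IsSurjectiveMor x ∧
        Nonempty (BasedFunctor.comp x f ≅ BasedFunctor.comp (AlgSt.overMap a) y) := by
  obtain ⟨U, h, c, ⟨j⟩, hc, hcs⟩ := exists_good h𝒳 h𝒴 f y
  exact ⟨U, h, _, with_fpSnd_chart goodP_locP h𝒳.isStack.1 h𝒴.isStack.1 hc hy,
    with_fpSnd_chart goodP_surjective h𝒳.isStack.1 h𝒴.isStack.1 hcs hy', ⟨squareIso j⟩⟩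

theorem locQ_iff_space_square (hP : AlgSp.IsSmoothLocalST P) (h𝒳 : FibCat.IsFibGrpd 𝒳.p)
    (h𝒴 : FibCat.IsFibGrpd 𝒴.p) (f : 𝒳 ⥤ᵇ 𝒴) :
    AlgSt.LocQ P f ↔
      ∃ (U V : AlgSp.Space S) (x : AlgSt.ofSp U.obj ⥤ᵇ 𝒳) (y : AlgSt.ofSp V.obj ⥤ᵇ 𝒴) (h : U ⟶ V)
        (_ : BasedFunctor.comp x f ≅ BasedFunctor.comp (AlgSt.ofSpMap h.hom) y),
        AlgSt.RepByAlgSpWith (AlgSp.LocP @Smooth) x ∧ AlgSt.RepByAlgSpWith AlgSp.IsSurjectiveMor x ∧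
        AlgSt.RepByAlgSpWith (AlgSp.LocP @Smooth) y ∧ P h.hom := by
  constructor
  · rintro ⟨U, V, x, y, h, α, hx, hxs, hy, hh⟩
    exact ⟨⟨_, AlgSp.IsAlgSpace.yon_obj U⟩, ⟨_, AlgSp.IsAlgSpace.yon_obj V⟩,
      BasedFunctor.comp (AlgSt.toOverCat U) x, BasedFunctor.comp (AlgSt.toOverCat V) y,
      ObjectProperty.homMk ((AlgSp.yon S).map h),
      wlIso (AlgSt.toOverCat U) α ≪≫ wrIso (overMapIso h).symm y,
      with_toOverCat_comp hx, with_toOverCat_comp hxs, with_toOverCat_comp hy, hh⟩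
  · rintro ⟨U, V, x, y, h, α, hx, hxs, hy, hh⟩
    obtain ⟨V₀, q, hq, hqs⟩ := V.property.atlas
    have sq := IsPullback.of_hasPullback h.hom q
    have hV₀ := AlgSp.IsAlgSpace.yon_obj V₀
    have hX := AlgSpace.isAlgSpace_pullback V.property U.property hV₀ sq
    obtain ⟨U₀, r, hr, hrs⟩ := hX.atlas
    obtain ⟨h₀, hh₀⟩ := (AlgSp.yon S).map_surjective (r ≫ pullback.snd h.hom q)
    have hp : AlgSp.RepWith @Etale (r ≫ pullback.fst h.hom q) :=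
      AlgSpace.repWith_comp hr (AlgSpace.repWith_of_isPullback sq.flip hq)
    have hps : AlgSp.RepWith @Surjective (r ≫ pullback.fst h.hom q) :=
      AlgSpace.repWith_comp hrs (AlgSpace.repWith_of_isPullback sq.flip hqs)
    have sm : ∀ {F : AlgSp.Sp S} (hF : AlgSp.IsAlgSpace F) {T : Over S} {p : (AlgSp.yon S).obj T ⟶ F},
        AlgSp.RepWith @Etale p → AlgSt.RepByAlgSpWith (AlgSp.LocP @Smooth)
          (BasedFunctor.comp (AlgSt.ofOverCat T) (AlgSt.ofSpMap p)) := fun {F} hF {T p} hp =>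
      with_comp_equiv (ofOverCat_isEquivOver T) (with_locP_ofSpMap (AlgSp.IsAlgSpace.yon_obj T) hF p
        (AlgSpace.locP_mono AlgSpace.EtaleLocal.etale_le (AlgSpace.locP_of_repWith hF hp)))
    refine ⟨U₀, V₀, BasedFunctor.comp (BasedFunctor.comp (AlgSt.ofOverCat U₀) (AlgSt.ofSpMap (r ≫ pullback.fst h.hom q))) x,
      BasedFunctor.comp (BasedFunctor.comp (AlgSt.ofOverCat V₀) (AlgSt.ofSpMap q)) y, h₀, ?_,
      with_comp goodP_locP (overCat_isFibGrpd U₀) (isStack_ofSp U.obj).1 (sm U.property hp) hx,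
      with_comp goodP_surjective (overCat_isFibGrpd U₀) (isStack_ofSp U.obj).1
        (with_yon (fun X T b hb => AlgSpace.surjective_map_of_repWith hb) hps) hxs,
      with_comp goodP_locP (overCat_isFibGrpd V₀) (isStack_ofSp V.obj).1 (sm V.property hq) hy, ?_⟩
    · exact wlIso (BasedFunctor.comp (AlgSt.ofOverCat U₀) (AlgSt.ofSpMap (r ≫ pullback.fst h.hom q))) α ≪≫
        wrIso (wlIso (AlgSt.ofOverCat U₀) (ofSpMapComp _ _ ≪≫
          eqToIso (congrArg AlgSt.ofSpMap (show (r ≫ pullback.fst h.hom q) ≫ h.hom = (AlgSp.yon S).map h₀ ≫ q by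
            rw [hh₀, Category.assoc, Category.assoc, pullback.condition])) ≪≫
          (ofSpMapComp _ _).symm)) y ≪≫
        wrIso (ofOverMapIso h₀).symm (BasedFunctor.comp (AlgSt.ofSpMap q) y)
    · rw [hh₀]
      exact hP.precomp (AlgSp.IsAlgSpace.yon_obj U₀) hX hV₀ _ _
        (AlgSpace.locP_mono AlgSpace.EtaleLocal.etale_le (AlgSpace.locP_of_repWith hX hr))
        (hP.baseChange U.property V.property hX hV₀ _ q _ _ sq
          (AlgSpace.locP_mono AlgSpace.EtaleLocal.etale_le (AlgSpace.locP_of_repWith V.property hq)) hh)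

theorem locQ_ofSpMap (hP : AlgSp.IsSmoothLocalST P) (F G : AlgSp.Space S) (a : F ⟶ G) :
    AlgSt.LocQ P (AlgSt.ofSpMap a.hom) ↔ P a.hom := by
  constructor
  · rintro ⟨U, V, x, y, h, α, hx, hxs, hy, hh⟩
    have hU := AlgSp.IsAlgSpace.yon_obj U
    have hV := AlgSp.IsAlgSpace.yon_obj V
    let a₀ : (AlgSp.yon S).obj U ⟶ F.obj := ObjectProperty.homMk (mapOf (BasedFunctor.comp (AlgSt.toOverCat U) x))
    let b₀ : (AlgSp.yon S).obj V ⟶ G.obj := ObjectProperty.homMk (mapOf (BasedFunctor.comp (AlgSt.toOverCat V) y))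
    have ha₀ : ∀ {Q : MorphismProperty (AlgSp.Sp S)}, GoodP Q → AlgSt.RepByAlgSpWith Q x → Q a₀ := fun hQ hx =>
      of_with_spMap hQ hU F.property (with_of_iso (isoMapOf _) (with_toOverCat_comp hx))
    have hb₀ : AlgSp.LocP @Smooth b₀ :=
      of_with_spMap goodP_locP hV G.property (with_of_iso (isoMapOf _) (with_toOverCat_comp hy))
    have hw : a₀ ≫ a.hom = (AlgSp.yon S).map h ≫ b₀ := by
      apply ObjectProperty.hom_ext
      have e := mapOf_congr (P := ((AlgSp.yon S).obj U).obj) (Q := G.obj.obj)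
        (wlIso (AlgSt.toOverCat U) α ≪≫ wrIso (overMapIso h).symm y)
      change mapOf (BasedFunctor.comp (BasedFunctor.comp (AlgSt.toOverCat U) x) (AlgSt.ofSpMap a.hom)) =
        mapOf (BasedFunctor.comp (AlgSt.ofSpMap ((AlgSp.yon S).map h)) (BasedFunctor.comp (AlgSt.toOverCat V) y)) at e
      rw [mapOf_comp, mapOf_comp, mapOf_ofPshMap, mapOf_ofPshMap] at e
      exact e
    refine (hP.locality F.property G.property _).2 fun z => ?_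
    obtain ⟨t, rfl⟩ := ha₀ goodP_surjective hxs z
    exact ⟨_, _, a₀, b₀, _, t, hU, hV, ha₀ goodP_locP hx, hb₀, hw, rfl, hh⟩
  · intro h
    refine (locQ_iff_space_square hP (isStack_ofSp F.obj).1 (isStack_ofSp G.obj).1 _).2
      ⟨F, G, BasedFunctor.id _, BasedFunctor.id _, a, Iso.refl _, with_id_ofSp F.property, ?_, with_id_ofSp G.property, h⟩
    exact with_surjective_of_isSurjective (isStack_ofSp F.obj).1 (isStack_ofSp F.obj).1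
      (repByAlgSp1_of_with (with_id_ofSp (R := @Smooth) F.property)) fun z => ⟨z, map_id_apply z⟩

theorem locQ_comp (hP : AlgSp.IsSmoothLocalST P)
    (hPc : ∀ ⦃X₁ Y₁ Z₁ : AlgSp.Sp S⦄, AlgSp.IsAlgSpace X₁ → AlgSp.IsAlgSpace Y₁ → AlgSp.IsAlgSpace Z₁ →
      ∀ (a : X₁ ⟶ Y₁) (b : Y₁ ⟶ Z₁), P a → P b → P (a ≫ b))
    (h𝒳 : IsAlgStack Scheme.fppfPrecoverage 𝒳) (h𝒴 : IsAlgStack Scheme.fppfPrecoverage 𝒴)
    (h𝒵 : IsAlgStack Scheme.fppfPrecoverage 𝒵) {f : 𝒳 ⥤ᵇ 𝒴} {g : 𝒴 ⥤ᵇ 𝒵}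
    (hf : AlgSt.LocQ P f) (hg : AlgSt.LocQ P g) : AlgSt.LocQ P (BasedFunctor.comp f g) := by
  have gX := h𝒳.isStack.1; have gY := h𝒴.isStack.1; have gZ := h𝒵.isStack.1
  obtain ⟨W, z, hz, hzs⟩ := h𝒵.atlas
  obtain ⟨V, l, cg, ⟨jg⟩, hcg, hcgs⟩ := exists_good h𝒴 h𝒵 g z
  obtain ⟨U, h, c, ⟨j⟩, hc, hcs⟩ := exists_good h𝒳 h𝒴 f (BasedFunctor.comp cg (FibCat.fpSnd z g))
  obtain ⟨c', ⟨j'⟩, hc'⟩ := exists_comp_chart gX gY gZ jg j
  refine locQ_of_good gX gZ hz hzs j' (hc' _ goodP_locP hcg hc) (hc' _ goodP_surjective hcgs hcs) ?_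
  rw [Functor.map_comp]
  exact hPc (AlgSp.IsAlgSpace.yon_obj U) (AlgSp.IsAlgSpace.yon_obj V) (AlgSp.IsAlgSpace.yon_obj W) _ _
    (of_locQ hP gX gY hf (with_fpSnd_chart goodP_locP gY gZ hcg hz) j hc) (of_locQ hP gY gZ hg hz jg hcg)

theorem locQ_fpFst (hP : AlgSp.IsSmoothLocalST P) (hPb : PbP P)
    (h𝒳 : IsAlgStack Scheme.fppfPrecoverage 𝒳) (h𝒴 : IsAlgStack Scheme.fppfPrecoverage 𝒴)
    (h𝒵 : IsAlgStack Scheme.fppfPrecoverage 𝒵) {f : 𝒳 ⥤ᵇ 𝒴} (g : 𝒵 ⥤ᵇ 𝒴)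
    (hf : AlgSt.LocQ P f) : AlgSt.LocQ P (FibCat.fpFst g f) := by
  have gX := h𝒳.isStack.1; have gY := h𝒴.isStack.1; have gZ := h𝒵.isStack.1
  obtain ⟨V, y, hy, hys⟩ := h𝒴.atlas
  obtain ⟨U, h, c, ⟨j⟩, hc, hcs⟩ := exists_good h𝒳 h𝒴 f y
  obtain ⟨V', b, cg, ⟨jg⟩, hcg, hcgs⟩ := exists_good h𝒵 h𝒴 g y
  have sq := IsPullback.of_hasPullback h b
  obtain ⟨c₁, ⟨j₁⟩, hc₁⟩ := exists_bc_chart j sq
  obtain ⟨c₂, ⟨j₂⟩, hc₂⟩ := exists_iso_chart (squareIso jg) j₁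
  obtain ⟨c₃, ⟨j₃⟩, hc₃⟩ := exists_fst_chart (g := g) j₂
  refine locQ_of_good (fp_isFibGrpd gZ gX gY g f) gZ (with_fpSnd_chart goodP_locP gZ gY hcg hy)
    (with_fpSnd_chart goodP_surjective gZ gY hcgs hys) j₃ (hc₃ _ (hc₂ _ (hc₁ _ hc)))
    (hc₃ _ (hc₂ _ (hc₁ _ hcs))) ?_
  exact hPb (AlgSp.IsAlgSpace.yon_obj U) (AlgSp.IsAlgSpace.yon_obj V) (AlgSp.IsAlgSpace.yon_obj _)
    (AlgSp.IsAlgSpace.yon_obj V') _ ((AlgSp.yon S).map b) _ _ (sq.map (AlgSp.yon S))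
    (of_locQ hP gX gY hf hy j hc)

theorem surjective_left_of_good (h𝒳 : FibCat.IsFibGrpd 𝒳.p) (h𝒴 : FibCat.IsFibGrpd 𝒴.p) {f : 𝒳 ⥤ᵇ 𝒴}
    (hf : IsSurjective f) {U V : Over S} {y : FibCat.overCat V ⥤ᵇ 𝒴} {c : FibCat.overCat U ⥤ᵇ FibCat.fp y f}
    {h : U ⟶ V} (j : BasedFunctor.comp c (FibCat.fpFst y f) ≅ AlgSt.overMap h)
    (hcs : AlgSt.RepByAlgSpWith AlgSp.IsSurjectiveMor c) : Function.Surjective h.left := fun v => by
  obtain ⟨x, hx⟩ := hf (Points.map y (Points.mk (chartPt V v)))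
  obtain ⟨p, hp, -⟩ := exists_fp_point h𝒳 h𝒴 (overCat_isFibGrpd V) f y _ x hx.symm
  obtain ⟨w, rfl⟩ := isSurjective_of_with (fp_isFibGrpd (overCat_isFibGrpd V) h𝒳 h𝒴 y f) hcs p
  refine ⟨ptOf w, ?_⟩
  rw [← ptOf_map_overMap, ← map_eq_map_of_iso j, map_comp_apply, hp, ptOf_chartPt]

theorem surjective_left_of_pullback {A B C D : Over S} {p : A ⟶ B} {q : A ⟶ C} {f : B ⟶ D} {g : C ⟶ D}
    (sq : IsPullback p q f g) (hg : Function.Surjective g.left) : Function.Surjective p.left := by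
  haveI : Surjective g.left := ⟨hg⟩
  exact (MorphismProperty.of_isPullback (P := @Surjective) (sq.map (Over.forget S)).flip
    (inferInstance : Surjective g.left) : Surjective p.left).surj

/-- the square of a base change, read back on the original morphism -/
theorem exists_descent_square (h𝒳 : IsAlgStack Scheme.fppfPrecoverage 𝒳) (h𝒴 : IsAlgStack Scheme.fppfPrecoverage 𝒴)
    (h𝒵 : IsAlgStack Scheme.fppfPrecoverage 𝒵) (hP : AlgSp.IsSmoothLocalST P) {f : 𝒳 ⥤ᵇ 𝒴} (z : 𝒵 ⥤ᵇ 𝒴)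
    (hzs : IsSurjective z) (hf : AlgSt.LocQ P (FibCat.fpFst z f)) :
    ∃ (U V W : Over S) (y : FibCat.overCat V ⥤ᵇ 𝒴) (c : FibCat.overCat U ⥤ᵇ FibCat.fp y f) (h : U ⟶ V)
      (_ : BasedFunctor.comp c (FibCat.fpFst y f) ≅ AlgSt.overMap h)
      (cz : FibCat.overCat W ⥤ᵇ FibCat.fp y z) (k : W ⟶ V)
      (_ : BasedFunctor.comp cz (FibCat.fpFst y z) ≅ AlgSt.overMap k),
      AlgSt.RepByAlgSpWith (AlgSp.LocP @Smooth) y ∧ AlgSt.RepByAlgSpWith AlgSp.IsSurjectiveMor y ∧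
      AlgSt.RepByAlgSpWith (AlgSp.LocP @Smooth) c ∧ AlgSt.RepByAlgSpWith AlgSp.IsSurjectiveMor c ∧
      AlgSt.RepByAlgSpWith (AlgSp.LocP @Smooth) cz ∧ Function.Surjective k.left ∧
      P ((AlgSp.yon S).map (pullback.snd h k)) := by
  have gX := h𝒳.isStack.1; have gY := h𝒴.isStack.1; have gZ := h𝒵.isStack.1
  obtain ⟨V, y, hy, hys⟩ := h𝒴.atlas
  obtain ⟨U, h, c, ⟨j⟩, hc, hcs⟩ := exists_good h𝒳 h𝒴 f y
  obtain ⟨W, k, cz, ⟨jz⟩, hcz, hczs⟩ := exists_good h𝒵 h𝒴 z y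
  obtain ⟨c₁, ⟨j₁⟩, hc₁⟩ := exists_bc_chart j (IsPullback.of_hasPullback h k)
  obtain ⟨c₂, ⟨j₂⟩, hc₂⟩ := exists_iso_chart (squareIso jz) j₁
  obtain ⟨c₃, ⟨j₃⟩, hc₃⟩ := exists_fst_chart (g := z) j₂
  exact ⟨U, V, W, y, c, h, j, cz, k, jz, hy, hys, hc, hcs, hcz, surjective_left_of_good gZ gY hzs jz hczs,
    of_locQ hP (fp_isFibGrpd gZ gX gY z f) gZ hf (with_fpSnd_chart goodP_locP gZ gY hcz hy) j₃
      (hc₃ _ (hc₂ _ (hc₁ _ hc)))⟩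

theorem locQ_of_fpFst (hP : AlgSp.IsSmoothLocalST P) (hP₂ : AlgSp.IsLocalOnBase AlgSp.IsFppfCover P)
    (h𝒳 : IsAlgStack Scheme.fppfPrecoverage 𝒳) (h𝒴 : IsAlgStack Scheme.fppfPrecoverage 𝒴)
    (h𝒵 : IsAlgStack Scheme.fppfPrecoverage 𝒵) {f : 𝒳 ⥤ᵇ 𝒴} (z : 𝒵 ⥤ᵇ 𝒴)
    (hz₁ : AlgSt.LocQ (AlgSp.LocP @Flat) z) (hz₂ : AlgSt.LocQ (AlgSp.LocP @LocallyOfFinitePresentation) z)
    (hz₃ : IsSurjective z) (hf : AlgSt.LocQ P (FibCat.fpFst z f)) : AlgSt.LocQ P f := by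
  obtain ⟨U, V, W, y, c, h, j, cz, k, jz, hy, hys, hc, hcs, hcz, hks, hh⟩ :=
    exists_descent_square h𝒳 h𝒴 h𝒵 hP z hz₃ hf
  haveI : Flat k.left :=
    (locP_yon_iff k).1 (of_locQ isSmoothLocalST_flat h𝒵.isStack.1 h𝒴.isStack.1 hz₁ hy jz hcz)
  haveI : LocallyOfFinitePresentation k.left :=
    (locP_yon_iff k).1 (of_locQ isSmoothLocalST_lfp h𝒵.isStack.1 h𝒴.isStack.1 hz₂ hy jz hcz)
  exact locQ_of_good h𝒳.isStack.1 h𝒴.isStack.1 hy hys j hc hcs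
    ((hP₂ (fun _ => (AlgSp.yon S).obj W) (fun _ => (AlgSp.yon S).map k) (AlgSp.IsAlgSpace.yon_obj V)
      (fun _ => AlgSp.IsAlgSpace.yon_obj W) (isFppfCover_yon k hks) _ (AlgSp.IsAlgSpace.yon_obj U)
      (fun _ => (AlgSp.yon S).obj (Limits.pullback h k)) (fun _ => (AlgSp.yon S).map (pullback.snd h k))
      (fun _ => (AlgSp.yon S).map (pullback.fst h k)) (fun _ => AlgSp.IsAlgSpace.yon_obj _)
      (fun _ => (IsPullback.of_hasPullback h k).map (AlgSp.yon S))).2 fun _ => hh)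

theorem with_iff_fpFst (hPb : PbP P) (hP₂ : AlgSp.IsLocalOnBase AlgSp.IsFppfCover P)
    (h𝒳 : IsAlgStack Scheme.fppfPrecoverage 𝒳) (h𝒴 : IsAlgStack Scheme.fppfPrecoverage 𝒴)
    (h𝒵 : IsAlgStack Scheme.fppfPrecoverage 𝒵) {f : 𝒳 ⥤ᵇ 𝒴} (hf : AlgSt.RepByAlgSp1 f) (z : 𝒵 ⥤ᵇ 𝒴)
    (hz₁ : AlgSt.LocQ (AlgSp.LocP @Flat) z) (hz₂ : AlgSt.LocQ (AlgSp.LocP @LocallyOfFinitePresentation) z)
    (hz₃ : IsSurjective z) : AlgSt.RepByAlgSpWith P f ↔ AlgSt.RepByAlgSpWith P (FibCat.fpFst z f) := by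
  refine ⟨fun h => with_fpFst z h, fun h => ?_⟩
  have gX := h𝒳.isStack.1; have gY := h𝒴.isStack.1; have gZ := h𝒵.isStack.1
  obtain ⟨V, y, hy, hys⟩ := h𝒴.atlas
  obtain ⟨W, k, cz, ⟨jz⟩, hcz, hczs⟩ := exists_good h𝒵 h𝒴 z y
  have hk₁ : Flat k.left := (locP_yon_iff k).1 (of_locQ isSmoothLocalST_flat gZ gY hz₁ hy jz hcz)
  have hk₂ : LocallyOfFinitePresentation k.left :=
    (locP_yon_iff k).1 (of_locQ isSmoothLocalST_lfp gZ gY hz₂ hy jz hcz)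
  let w := BasedFunctor.comp cz (FibCat.fpSnd y z)
  have key : ∀ {R : MorphismProperty Scheme.{u}} [AlgSpace.EtaleLocal R], R k.left →
      AlgSt.RepByAlgSpWith (AlgSp.LocP R) y → AlgSt.RepByAlgSpWith (AlgSp.LocP R) (BasedFunctor.comp w z) :=
    fun hk hy' => with_of_iso (squareIso jz).symm
      (with_comp goodP_locP (overCat_isFibGrpd W) (overCat_isFibGrpd V) (with_locP_overMap k hk) hy')
  have h1 := key (R := @Flat) hk₁ (with_locP_mono smooth_le_flat hy)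
  refine with_of_fpFst_cover hPb hP₂ gX gY (isStack_ofSp ((AlgSp.yon S).obj W)).1 hf
    (z := BasedFunctor.comp (AlgSt.toOverCat W) (BasedFunctor.comp w z))
    (with_toOverCat_comp h1) (with_toOverCat_comp (key hk₂ (with_locP_mono smooth_le_lfp hy)))
    (with_toOverCat_comp ?_) ?_
  · exact with_surjective_of_isSurjective (overCat_isFibGrpd W) gY (repByAlgSp1_of_with h1) fun q => by
      obtain ⟨p, rfl⟩ := hz₃ q
      obtain ⟨o, rfl⟩ := isSurjective_of_with gZ (with_fpSnd_chart goodP_surjective gZ gY hczs hys) p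
      exact ⟨o, map_comp_apply _ _ o⟩
  · obtain ⟨E, hE, -, ⟨β⟩⟩ := exists_inverse (pasteL_isEquivOver (BasedFunctor.comp (AlgSt.toOverCat W) w) z f)
    exact (with_congr (f := FibCat.fpFst (BasedFunctor.comp (AlgSt.toOverCat W) w) (FibCat.fpFst z f)) (a := E)
      (b := BasedFunctor.id _) hE isEquivOver_id
      (wrIso β.symm (FibCat.fpFst (BasedFunctor.comp (AlgSt.toOverCat W) (BasedFunctor.comp w z)) f))).1
      (with_fpFst _ h)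

theorem locQ_of_imm {R : MorphismProperty Scheme.{u}} [AlgSpace.EtaleLocal R]
    (hR : AlgSp.IsSmoothLocalST (AlgSp.LocP (S := S) R))
    (hR₂ : AlgSp.IsLocalOnBase (AlgSp.IsFppfCover (S := S)) (AlgSp.LocP R))
    {R' : MorphismProperty Scheme.{u}} (hle : R' ≤ R)
    (h𝒳 : IsAlgStack Scheme.fppfPrecoverage 𝒳) (h𝒴 : IsAlgStack Scheme.fppfPrecoverage 𝒴) {f : 𝒳 ⥤ᵇ 𝒴}
    (hf : AlgSt.RepByAlgSpWith (AlgSp.RepWith R') f) : AlgSt.LocQ (AlgSp.LocP R) f :=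
  (locQ_iff_with hR pbP_locP hR₂ h𝒳 h𝒴 (repByAlgSp1_of_with hf)).2
    (repByAlgSpWith_mono (fun _ _ U a h =>
      AlgSpace.locP_of_repWith (AlgSp.IsAlgSpace.yon_obj U) (AlgSpace.repWith_mono hle h)) hf)

/-- composite squares over an atlas -/
theorem exists_comp_square (h𝒳 : IsAlgStack Scheme.fppfPrecoverage 𝒳) (h𝒴 : IsAlgStack Scheme.fppfPrecoverage 𝒴)
    (h𝒵 : IsAlgStack Scheme.fppfPrecoverage 𝒵) (f : 𝒳 ⥤ᵇ 𝒴) (g : 𝒴 ⥤ᵇ 𝒵) :
    ∃ (U V W : Over S) (z : FibCat.overCat W ⥤ᵇ 𝒵) (y : FibCat.overCat V ⥤ᵇ 𝒴)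
      (cg : FibCat.overCat V ⥤ᵇ FibCat.fp z g) (l : V ⟶ W)
      (_ : BasedFunctor.comp cg (FibCat.fpFst z g) ≅ AlgSt.overMap l)
      (c : FibCat.overCat U ⥤ᵇ FibCat.fp y f) (h : U ⟶ V)
      (_ : BasedFunctor.comp c (FibCat.fpFst y f) ≅ AlgSt.overMap h)
      (c' : FibCat.overCat U ⥤ᵇ FibCat.fp z (BasedFunctor.comp f g))
      (_ : BasedFunctor.comp c' (FibCat.fpFst z (BasedFunctor.comp f g)) ≅ AlgSt.overMap (h ≫ l)),
      AlgSt.RepByAlgSpWith (AlgSp.LocP @Smooth) z ∧ AlgSt.RepByAlgSpWith AlgSp.IsSurjectiveMor z ∧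
      AlgSt.RepByAlgSpWith (AlgSp.LocP @Smooth) y ∧ AlgSt.RepByAlgSpWith AlgSp.IsSurjectiveMor y ∧
      AlgSt.RepByAlgSpWith (AlgSp.LocP @Smooth) cg ∧ AlgSt.RepByAlgSpWith AlgSp.IsSurjectiveMor cg ∧
      AlgSt.RepByAlgSpWith (AlgSp.LocP @Smooth) c ∧ AlgSt.RepByAlgSpWith AlgSp.IsSurjectiveMor c ∧
      AlgSt.RepByAlgSpWith (AlgSp.LocP @Smooth) c' := by
  have gX := h𝒳.isStack.1; have gY := h𝒴.isStack.1; have gZ := h𝒵.isStack.1
  obtain ⟨W, z, hz, hzs⟩ := h𝒵.atlas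
  obtain ⟨V, l, cg, ⟨jg⟩, hcg, hcgs⟩ := exists_good h𝒴 h𝒵 g z
  obtain ⟨U, h, c, ⟨j⟩, hc, hcs⟩ := exists_good h𝒳 h𝒴 f (BasedFunctor.comp cg (FibCat.fpSnd z g))
  obtain ⟨c', ⟨j'⟩, hc'⟩ := exists_comp_chart gX gY gZ jg j
  exact ⟨U, V, W, z, _, cg, l, jg, c, h, j, c', j', hz, hzs, with_fpSnd_chart goodP_locP gY gZ hcg hz,
    with_fpSnd_chart goodP_surjective gY gZ hcgs hzs, hcg, hcgs, hc, hcs, hc' _ goodP_locP hcg hc⟩

theorem locQ_lft_of_comp (h𝒳 : IsAlgStack Scheme.fppfPrecoverage 𝒳) (h𝒴 : IsAlgStack Scheme.fppfPrecoverage 𝒴)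
    (h𝒵 : IsAlgStack Scheme.fppfPrecoverage 𝒵) {f : 𝒳 ⥤ᵇ 𝒴} {g : 𝒴 ⥤ᵇ 𝒵}
    (hfg : AlgSt.LocQ (AlgSp.LocP @LocallyOfFiniteType) (BasedFunctor.comp f g)) :
    AlgSt.LocQ (AlgSp.LocP @LocallyOfFiniteType) f := by
  obtain ⟨U, V, W, z, y, cg, l, jg, c, h, j, c', j', hz, -, hy, hys, -, -, hc, hcs, hc'⟩ :=
    exists_comp_square h𝒳 h𝒴 h𝒵 f g
  have e : LocallyOfFiniteType (h.left ≫ l.left) :=
    (locP_yon_iff (h ≫ l)).1 (of_locQ isSmoothLocalST_lft h𝒳.isStack.1 h𝒵.isStack.1 hfg hz j' hc')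
  exact locQ_of_good h𝒳.isStack.1 h𝒴.isStack.1 hy hys j hc hcs
    ((locP_yon_iff h).2 (locallyOfFiniteType_of_comp h.left l.left))

theorem locQ_lfp_of_comp (h𝒳 : IsAlgStack Scheme.fppfPrecoverage 𝒳) (h𝒴 : IsAlgStack Scheme.fppfPrecoverage 𝒴)
    (h𝒵 : IsAlgStack Scheme.fppfPrecoverage 𝒵) {f : 𝒳 ⥤ᵇ 𝒴} {g : 𝒴 ⥤ᵇ 𝒵}
    (hfg : AlgSt.LocQ (AlgSp.LocP @LocallyOfFinitePresentation) (BasedFunctor.comp f g))
    (hg : AlgSt.LocQ (AlgSp.LocP @LocallyOfFiniteType) g) :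
    AlgSt.LocQ (AlgSp.LocP @LocallyOfFinitePresentation) f := by
  obtain ⟨U, V, W, z, y, cg, l, jg, c, h, j, c', j', hz, -, hy, hys, hcg, -, hc, hcs, hc'⟩ :=
    exists_comp_square h𝒳 h𝒴 h𝒵 f g
  haveI : LocallyOfFinitePresentation (h.left ≫ l.left) :=
    (locP_yon_iff (h ≫ l)).1 (of_locQ isSmoothLocalST_lfp h𝒳.isStack.1 h𝒵.isStack.1 hfg hz j' hc')
  haveI : LocallyOfFiniteType l.left :=
    (locP_yon_iff l).1 (of_locQ isSmoothLocalST_lft h𝒴.isStack.1 h𝒵.isStack.1 hg hz jg hcg)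
  exact locQ_of_good h𝒳.isStack.1 h𝒴.isStack.1 hy hys j hc hcs
    ((locP_yon_iff h).2 (SchBasic.locallyOfFinitePresentation_of_comp h.left l.left))

theorem locQ_flat_of_comp (h𝒳 : IsAlgStack Scheme.fppfPrecoverage 𝒳) (h𝒴 : IsAlgStack Scheme.fppfPrecoverage 𝒴)
    (h𝒵 : IsAlgStack Scheme.fppfPrecoverage 𝒵) {f : 𝒳 ⥤ᵇ 𝒴} {g : 𝒴 ⥤ᵇ 𝒵}
    (hf : AlgSt.LocQ (AlgSp.LocP @Flat) f) (hfs : IsSurjective f)
    (hfg : AlgSt.LocQ (AlgSp.LocP @Flat) (BasedFunctor.comp f g)) : AlgSt.LocQ (AlgSp.LocP @Flat) g := by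
  obtain ⟨U, V, W, z, y, cg, l, jg, c, h, j, c', j', hz, hzs, hy, hys, hcg, hcgs, hc, hcs, hc'⟩ :=
    exists_comp_square h𝒳 h𝒴 h𝒵 f g
  haveI : Flat (h.left ≫ l.left) :=
    (locP_yon_iff (h ≫ l)).1 (of_locQ isSmoothLocalST_flat h𝒳.isStack.1 h𝒵.isStack.1 hfg hz j' hc')
  haveI : Flat h.left := (locP_yon_iff h).1 (of_locQ isSmoothLocalST_flat h𝒳.isStack.1 h𝒴.isStack.1 hf hy j hc)
  haveI : Surjective h.left := ⟨surjective_left_of_good h𝒳.isStack.1 h𝒴.isStack.1 hfs j hcs⟩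
  exact locQ_of_good h𝒴.isStack.1 h𝒵.isStack.1 hz hzs jg hcg hcgs
    ((locP_yon_iff l).2 (AlgSpDescent.flat_of_comp_flat_surjective h.left l.left))

theorem locQ_flat_of_fpFst (h𝒳 : IsAlgStack Scheme.fppfPrecoverage 𝒳) (h𝒴 : IsAlgStack Scheme.fppfPrecoverage 𝒴)
    (h𝒵 : IsAlgStack Scheme.fppfPrecoverage 𝒵) {f : 𝒳 ⥤ᵇ 𝒴} (z : 𝒵 ⥤ᵇ 𝒴)
    (hz₁ : AlgSt.LocQ (AlgSp.LocP @Flat) z) (hz₂ : IsSurjective z)
    (hf : AlgSt.LocQ (AlgSp.LocP @Flat) (FibCat.fpFst z f)) : AlgSt.LocQ (AlgSp.LocP @Flat) f := by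
  obtain ⟨U, V, W, y, c, h, j, cz, k, jz, hy, hys, hc, hcs, hcz, hks, hh⟩ :=
    exists_descent_square h𝒳 h𝒴 h𝒵 isSmoothLocalST_flat z hz₂ hf
  haveI : Flat k.left :=
    (locP_yon_iff k).1 (of_locQ isSmoothLocalST_flat h𝒵.isStack.1 h𝒴.isStack.1 hz₁ hy jz hcz)
  have sq := IsPullback.of_hasPullback h k
  haveI : Flat (pullback.fst h k).left :=
    MorphismProperty.of_isPullback (P := @Flat) (sq.map (Over.forget S)).flip (inferInstance : Flat k.left)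
  haveI : Surjective (pullback.fst h k).left := ⟨surjective_left_of_pullback sq hks⟩
  haveI : Flat (pullback.snd h k).left := (locP_yon_iff _).1 hh
  haveI : Flat ((pullback.fst h k).left ≫ h.left) := by
    rw [← Over.comp_left, sq.w, Over.comp_left]
    infer_instance
  exact locQ_of_good h𝒳.isStack.1 h𝒴.isStack.1 hy hys j hc hcs
    ((locP_yon_iff h).2 (AlgSpDescent.flat_of_comp_flat_surjective (pullback.fst h k).left h.left))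

theorem smoothLocalProp_isLocallyNoetherian_left {𝒳 : AlgSt.Cat S} (h𝒳 : IsAlgStack Scheme.fppfPrecoverage 𝒳)
    {U : Over S} {x : FibCat.overCat U ⥤ᵇ 𝒳} (hx : AlgSt.RepByAlgSpWith (AlgSp.LocP @Smooth) x)
    (hxs : AlgSt.RepByAlgSpWith AlgSp.IsSurjectiveMor x) [IsLocallyNoetherian U.left] :
    AlgSt.SmoothLocally (fun T ↦ IsLocallyNoetherian T) 𝒳 := by
  intro V y hy
  obtain ⟨W, k, h, -, hsq, hk⟩ := exists_chart_square h𝒳.isStack.1 (repByAlgSp1_of_with hx) V y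
  haveI : Smooth k.left := (hk @Smooth).1 hx
  haveI : Smooth h.left := (hk @Smooth).2 hy
  haveI : Surjective k.left := ⟨fun v => by
    obtain ⟨t, ht⟩ := surjective_ofChart h𝒳.isStack.1 hxs (Points.ofChart y v)
    obtain ⟨w, hw, -⟩ := hsq v t ht.symm
    exact ⟨w, hw⟩⟩
  haveI : IsLocallyNoetherian W.left := LocallyOfFiniteType.isLocallyNoetherian h.left
  exact AlgSpDescent.isLocallyNoetherian_of_fppf k.left

theorem smoothLocally_noeth_of_lft (h𝒳 : IsAlgStack Scheme.fppfPrecoverage 𝒳)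
    (h𝒴 : IsAlgStack Scheme.fppfPrecoverage 𝒴) {f : 𝒳 ⥤ᵇ 𝒴}
    (hf : AlgSt.LocQ (AlgSp.LocP @LocallyOfFiniteType) f)
    (hN : AlgSt.SmoothLocally (fun T ↦ IsLocallyNoetherian T) 𝒴) :
    AlgSt.SmoothLocally (fun T ↦ IsLocallyNoetherian T) 𝒳 := by
  obtain ⟨V, y, hy, hys⟩ := h𝒴.atlas
  obtain ⟨U, h, c, ⟨j⟩, hc, hcs⟩ := exists_good h𝒳 h𝒴 f y
  haveI : IsLocallyNoetherian V.left := hN V y hy
  haveI : LocallyOfFiniteType h.left :=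
    (locP_yon_iff h).1 (of_locQ isSmoothLocalST_lft h𝒳.isStack.1 h𝒴.isStack.1 hf hy j hc)
  haveI : IsLocallyNoetherian U.left := LocallyOfFiniteType.isLocallyNoetherian h.left
  exact smoothLocalProp_isLocallyNoetherian_left h𝒳
    (with_fpSnd_chart goodP_locP h𝒳.isStack.1 h𝒴.isStack.1 hc hy)
    (with_fpSnd_chart goodP_surjective h𝒳.isStack.1 h𝒴.isStack.1 hcs hys)

theorem locQ_lfp_of_noeth (h𝒳 : IsAlgStack Scheme.fppfPrecoverage 𝒳)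
    (h𝒴 : IsAlgStack Scheme.fppfPrecoverage 𝒴) {f : 𝒳 ⥤ᵇ 𝒴}
    (hf : AlgSt.LocQ (AlgSp.LocP @LocallyOfFiniteType) f)
    (hN : AlgSt.SmoothLocally (fun T ↦ IsLocallyNoetherian T) 𝒴) :
    AlgSt.LocQ (AlgSp.LocP @LocallyOfFinitePresentation) f := by
  obtain ⟨V, y, hy, hys⟩ := h𝒴.atlas
  obtain ⟨U, h, c, ⟨j⟩, hc, hcs⟩ := exists_good h𝒳 h𝒴 f y
  haveI : IsLocallyNoetherian V.left := hN V y hy
  haveI : LocallyOfFiniteType h.left :=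
    (locP_yon_iff h).1 (of_locQ isSmoothLocalST_lft h𝒳.isStack.1 h𝒴.isStack.1 hf hy j hc)
  exact locQ_of_good h𝒳.isStack.1 h𝒴.isStack.1 hy hys j hc hcs
    ((locP_yon_iff h).2 (LocImm12.locallyOfFinitePresentation_of_locallyOfFiniteType h.left))

theorem isOpenMor_of_flat_lfp (h𝒳 : IsAlgStack Scheme.fppfPrecoverage 𝒳)
    (h𝒴 : IsAlgStack Scheme.fppfPrecoverage 𝒴) {f : 𝒳 ⥤ᵇ 𝒴} (hf₁ : AlgSt.LocQ (AlgSp.LocP @Flat) f)
    (hf₂ : AlgSt.LocQ (AlgSp.LocP @LocallyOfFinitePresentation) f) : AlgSt.IsOpenMor f := by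
  have gX := h𝒳.isStack.1; have gY := h𝒴.isStack.1
  obtain ⟨V, y, hy, hys⟩ := h𝒴.atlas
  obtain ⟨U, h, c, ⟨j⟩, hc, hcs⟩ := exists_good h𝒳 h𝒴 f y
  haveI : Flat h.left := (locP_yon_iff h).1 (of_locQ isSmoothLocalST_flat gX gY hf₁ hy j hc)
  haveI : LocallyOfFinitePresentation h.left := (locP_yon_iff h).1 (of_locQ isSmoothLocalST_lfp gX gY hf₂ hy j hc)
  let x := BasedFunctor.comp c (FibCat.fpSnd y f)
  intro O hO
  have e : Points.map f '' O = Points.ofChart y '' (h.left '' (Points.ofChart x ⁻¹' O)) := by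
    rw [← Set.image_comp, show Points.ofChart y ∘ h.left = Points.map f ∘ Points.ofChart x from funext fun t => by
      rw [Function.comp_apply, Function.comp_apply, ← ofChart_overMap, ← ofChart_congr (squareIso j)]
      rfl]
    rw [Set.image_comp, Set.image_preimage_eq _ (surjective_ofChart gX (with_fpSnd_chart goodP_surjective gX gY hcs hys))]
  rw [e]
  exact isOpenMap_ofChart gY (with_locP_mono smooth_le_flat hy) (with_locP_mono smooth_le_lfp hy) _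
    (h.left.isOpenMap _ (hO U x (with_fpSnd_chart goodP_locP gX gY hc hy)))

end Groth.Agent.StAlg16
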