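import Groth.Agent.Lib.StAlg16.QC
import Groth.Agent.Lib.StAlg16.LocQApps
import Groth.Agent.Lib.AlgSpace.QC

/-! Quasi-compact morphisms of algebraic stacks. -/

universe w u

open CategoryTheory CategoryTheory.Functor CategoryTheory.Limits AlgebraicGeometry Opposite

set_option linter.style.haveILetI false
set_option linter.unusedSectionVars false
set_option backward.isDefEq.respectTransparency false
set_option backward.isDefEq.respectTransparency.types false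

namespace Groth.Agent.StAlg16

open Groth.Agent.FC16 Groth.Agent.StAlg AlgSt

variable {S : Scheme.{u}} {𝒳 𝒴 𝒵 : AlgSt.Cat S}

theorem isAlgStack_fp' (h𝒳 : IsAlgStack Scheme.fppfPrecoverage 𝒳) (h𝒴 : IsAlgStack Scheme.fppfPrecoverage 𝒴)
    (h𝒵 : IsAlgStack Scheme.fppfPrecoverage 𝒵) (f : 𝒳 ⥤ᵇ 𝒵) (g : 𝒴 ⥤ᵇ 𝒵) :
    IsAlgStack Scheme.fppfPrecoverage (FibCat.fp f g) := StAlg.isAlgStack_fp h𝒵.isStack h𝒵.diag h𝒳 h𝒴 f g

theorem qc_of_equiv (h𝒳 : IsAlgStack Scheme.fppfPrecoverage 𝒳) (h𝒴 : IsAlgStack Scheme.fppfPrecoverage 𝒴)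
    {e : 𝒳 ⥤ᵇ 𝒴} (he : FibCat.IsEquivOver e) (h : AlgSt.IsQuasiCompact 𝒳) : AlgSt.IsQuasiCompact 𝒴 :=
  isQuasiCompact_of_isSurjective h𝒴 h𝒳 e (map_bijective he).2 h

theorem qc_of_equiv' (h𝒳 : IsAlgStack Scheme.fppfPrecoverage 𝒳) (h𝒴 : IsAlgStack Scheme.fppfPrecoverage 𝒴)
    {e : 𝒳 ⥤ᵇ 𝒴} (he : FibCat.IsEquivOver e) (h : AlgSt.IsQuasiCompact 𝒴) : AlgSt.IsQuasiCompact 𝒳 := by
  obtain ⟨e', he', -⟩ := exists_inverse he
  exact qc_of_equiv h𝒴 h𝒳 he' h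

theorem isSurjective_fpSnd (h𝒳 : FibCat.IsFibGrpd 𝒳.p) (h𝒴 : FibCat.IsFibGrpd 𝒴.p) (h𝒵 : FibCat.IsFibGrpd 𝒵.p)
    {f : 𝒳 ⥤ᵇ 𝒵} (hf : IsSurjective f) (g : 𝒴 ⥤ᵇ 𝒵) : IsSurjective (FibCat.fpSnd f g) := fun z => by
  obtain ⟨x, hx⟩ := hf (Points.map g z)
  obtain ⟨w, -, hw⟩ := exists_fp_point h𝒴 h𝒵 h𝒳 g f x z hx
  exact ⟨w, hw⟩

theorem isQuasiCompactMor_fpFst (h𝒳 : IsAlgStack Scheme.fppfPrecoverage 𝒳)
    (h𝒴 : IsAlgStack Scheme.fppfPrecoverage 𝒴) (h𝒵 : IsAlgStack Scheme.fppfPrecoverage 𝒵)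
    {f : 𝒳 ⥤ᵇ 𝒴} (g : 𝒵 ⥤ᵇ 𝒴) (hf : AlgSt.IsQuasiCompactMor Scheme.fppfPrecoverage f) :
    AlgSt.IsQuasiCompactMor Scheme.fppfPrecoverage (FibCat.fpFst g f) := fun 𝒲 h𝒲 hq g' =>
  qc_of_equiv' (isAlgStack_fp' h𝒲 (isAlgStack_fp' h𝒵 h𝒳 h𝒴 g f) h𝒵 g' _) (isAlgStack_fp' h𝒲 h𝒳 h𝒴 _ f)
    (pasteL_isEquivOver g' g f) (hf 𝒲 h𝒲 hq (BasedFunctor.comp g' g))

theorem isQuasiCompactMor_comp (h𝒳 : IsAlgStack Scheme.fppfPrecoverage 𝒳)
    (h𝒴 : IsAlgStack Scheme.fppfPrecoverage 𝒴) (h𝒵 : IsAlgStack Scheme.fppfPrecoverage 𝒵)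
    {f : 𝒳 ⥤ᵇ 𝒴} {g : 𝒴 ⥤ᵇ 𝒵} (hf : AlgSt.IsQuasiCompactMor Scheme.fppfPrecoverage f)
    (hg : AlgSt.IsQuasiCompactMor Scheme.fppfPrecoverage g) :
    AlgSt.IsQuasiCompactMor Scheme.fppfPrecoverage (BasedFunctor.comp f g) := fun 𝒲 h𝒲 hq g' =>
  qc_of_equiv (isAlgStack_fp' (isAlgStack_fp' h𝒲 h𝒴 h𝒵 g' g) h𝒳 h𝒴 _ f) (isAlgStack_fp' h𝒲 h𝒳 h𝒵 g' _)
    (pasteR_isEquivOver g' g f) (hf _ (isAlgStack_fp' h𝒲 h𝒴 h𝒵 g' g) (hg 𝒲 h𝒲 hq g') _)

theorem isQuasiCompactMor_of_triangle (h𝒳 : IsAlgStack Scheme.fppfPrecoverage 𝒳)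
    (h𝒴 : IsAlgStack Scheme.fppfPrecoverage 𝒴) (h𝒵 : IsAlgStack Scheme.fppfPrecoverage 𝒵)
    {f : 𝒳 ⥤ᵇ 𝒴} {p : 𝒳 ⥤ᵇ 𝒵} {q : 𝒴 ⥤ᵇ 𝒵} (e : BasedFunctor.comp f q ≅ p) (hfs : IsSurjective f)
    (hp : AlgSt.IsQuasiCompactMor Scheme.fppfPrecoverage p) :
    AlgSt.IsQuasiCompactMor Scheme.fppfPrecoverage q := fun 𝒲 h𝒲 hq g => by
  haveI := idFun_full (𝒳 := 𝒵)
  haveI := idFun_faithful (𝒳 := 𝒵)
  have hfp := isAlgStack_fp' h𝒲 h𝒴 h𝒵 g q
  have hM : FibCat.IsEquivOver (fpMap (F := g) (G := p) (F' := g) (G' := BasedFunctor.comp f q)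
      (a := BasedFunctor.id _) (b := BasedFunctor.id _) (s := BasedFunctor.id 𝒵) (Iso.refl _) e) :=
    fpMap_isEquivOver (F := g) (G := p) (F' := g) (G' := BasedFunctor.comp f q) (a := BasedFunctor.id _)
      (b := BasedFunctor.id _) (s := BasedFunctor.id 𝒵) (Iso.refl _) e isEquivOver_id isEquivOver_id
  have h1 := qc_of_equiv (isAlgStack_fp' h𝒲 h𝒳 h𝒵 g p) (isAlgStack_fp' h𝒲 h𝒳 h𝒵 g _) hM (hp 𝒲 h𝒲 hq g)
  have hA := isAlgStack_fp' hfp h𝒳 h𝒴 (FibCat.fpSnd g q) f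
  exact isQuasiCompact_of_isSurjective hfp hA (FibCat.fpFst (FibCat.fpSnd g q) f)
    (isSurjective_fpFst h𝒳.isStack.1 h𝒴.isStack.1 hfp.isStack.1 _ hfs)
    (qc_of_equiv' hA (isAlgStack_fp' h𝒲 h𝒳 h𝒵 g _) (pasteR_isEquivOver g q f) h1)

theorem isQuasiCompact_overCat (U : Over S) [IsAffine U.left] : AlgSt.IsQuasiCompact (FibCat.overCat U) := by
  haveI : CompactSpace (Points (FibCat.overCat U)) :=
    compactSpace_of_chart (isAlgStack_overCat U) (BasedFunctor.id (FibCat.overCat U)) fun z =>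
      ⟨ptOf z, by rw [ofChart_eq, mk_chartPt_ptOf, map_id_apply]⟩
  exact isQuasiCompact_of_compactSpace (isAlgStack_overCat U)

theorem isAlgStack_ofSp {F : AlgSp.Sp S} (hF : AlgSp.IsAlgSpace F) :
    IsAlgStack Scheme.fppfPrecoverage (AlgSt.ofSp F) :=
  (isDM_of_rep (𝒳 := AlgSt.ofSp F) ⟨⟨F, hF⟩, BasedFunctor.id _, isEquivOver_id⟩).1

theorem isQuasiCompact_ofSp_iff {F : AlgSp.Sp S} (hF : AlgSp.IsAlgSpace F) :
    AlgSt.IsQuasiCompact (AlgSt.ofSp F) ↔ AlgSp.IsQuasiCompactSp F := by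
  constructor
  · rintro ⟨U, x, hU, -, hs⟩
    haveI := AlgSpace.compactSpace_yon_of_affine U
    let p : (AlgSp.yon S).obj U ⟶ F := ObjectProperty.homMk (mapOf (BasedFunctor.comp (AlgSt.toOverCat U) x))
    haveI := AlgSpace.compactSpace_of_surjective p
      (of_with_spMap goodP_surjective (AlgSp.IsAlgSpace.yon_obj U) hF
        (with_of_iso (isoMapOf _) (with_toOverCat_comp hs)))
    exact (AlgSpace.isQuasiCompactSp_iff hF).2 inferInstance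
  · intro h
    exact (isQuasiCompact_iff_space_chart (isAlgStack_ofSp hF)).2
      ⟨⟨F, hF⟩, BasedFunctor.id _, h, with_id_ofSp hF,
        with_surjective_of_isSurjective (isStack_ofSp F).1 (isStack_ofSp F).1
          (repByAlgSp1_of_with (with_id_ofSp (R := @Smooth) hF)) fun z => ⟨z, map_id_apply z⟩⟩

theorem qc_fp_of_lift {𝒲 𝒰 : AlgSt.Cat S} (h𝒳 : IsAlgStack Scheme.fppfPrecoverage 𝒳)
    (h𝒴 : IsAlgStack Scheme.fppfPrecoverage 𝒴) (h𝒲 : IsAlgStack Scheme.fppfPrecoverage 𝒲)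
    (h𝒰 : IsAlgStack Scheme.fppfPrecoverage 𝒰) {f : 𝒳 ⥤ᵇ 𝒴} {g : 𝒲 ⥤ᵇ 𝒴} {a : 𝒰 ⥤ᵇ 𝒲} (ha : IsSurjective a)
    {b : 𝒰 ⥤ᵇ 𝒴} (i : BasedFunctor.comp a g ≅ b) (h : AlgSt.IsQuasiCompact (FibCat.fp b f)) :
    AlgSt.IsQuasiCompact (FibCat.fp g f) := by
  haveI := idFun_full (𝒳 := 𝒴)
  haveI := idFun_faithful (𝒳 := 𝒴)
  have hfp := isAlgStack_fp' h𝒲 h𝒳 h𝒴 g f
  have hag := isAlgStack_fp' h𝒰 h𝒳 h𝒴 (BasedFunctor.comp a g) f
  have h1 := qc_of_equiv (isAlgStack_fp' h𝒰 h𝒳 h𝒴 b f) hag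
    (show FibCat.IsEquivOver (fpMap (F := b) (G := f) (F' := BasedFunctor.comp a g) (G' := f)
      (a := BasedFunctor.id _) (b := BasedFunctor.id _) (s := BasedFunctor.id 𝒴) i (Iso.refl _)) from
      fpMap_isEquivOver (F := b) (G := f) (F' := BasedFunctor.comp a g) (G' := f) (a := BasedFunctor.id _)
        (b := BasedFunctor.id _) (s := BasedFunctor.id 𝒴) i (Iso.refl _) isEquivOver_id isEquivOver_id) h
  have hA := isAlgStack_fp' h𝒰 hfp h𝒲 a (FibCat.fpFst g f)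
  exact isQuasiCompact_of_isSurjective hfp hA (FibCat.fpSnd a (FibCat.fpFst g f))
    (isSurjective_fpSnd h𝒰.isStack.1 hfp.isStack.1 h𝒲.isStack.1 ha _)
    (qc_of_equiv' hA hag (pasteL_isEquivOver a g f) h1)

theorem with_qc_iff (h𝒳 : IsAlgStack Scheme.fppfPrecoverage 𝒳) (h𝒴 : IsAlgStack Scheme.fppfPrecoverage 𝒴)
    {f : 𝒳 ⥤ᵇ 𝒴} (hf : AlgSt.RepByAlgSp1 f) :
    AlgSt.RepByAlgSpWith AlgSp.IsQuasiCompactMor f ↔ AlgSt.IsQuasiCompactMor Scheme.fppfPrecoverage f := by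
  constructor
  · intro h 𝒲 h𝒲 hq g
    obtain ⟨U, x, hU, -, hs⟩ := hq
    haveI := hU
    obtain ⟨F, e, he, hP⟩ := h U (BasedFunctor.comp x g)
    have hU' := AlgSp.IsAlgSpace.yon_obj U
    haveI := AlgSpace.compactSpace_yon_of_affine U
    have hF : AlgSp.IsQuasiCompactSp F.obj :=
      hP hU' ((AlgSpace.isQuasiCompactSp_iff hU').2 inferInstance) (𝟙 _) (𝟙 _) _
        (IsPullback.of_horiz_isIso ⟨by rw [Category.id_comp, Category.comp_id]⟩)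
    exact qc_fp_of_lift h𝒳 h𝒴 h𝒲 (isAlgStack_overCat U) (isSurjective_of_with h𝒲.isStack.1 hs) (Iso.refl _)
      (qc_of_equiv (isAlgStack_ofSp F.property) (isAlgStack_fp' (isAlgStack_overCat U) h𝒳 h𝒴 _ f) he
        ((isQuasiCompact_ofSp_iff F.property).2 hF))
  · intro h U y
    obtain ⟨G, a, e, he, ⟨i⟩, hra, -⟩ := exists_rep_over h𝒳.isStack.1 h𝒴.isStack.1 hf
      (BasedFunctor.comp (AlgSt.toOverCat U) y)
    obtain ⟨hG, hGA⟩ := AlgSpace.isAlgSpaceP_of_repBySp a hra (AlgSpace.isAlgSpaceP_pyon U)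
    have hU := AlgSp.IsAlgSpace.yon_obj U
    have hP : AlgSp.IsQuasiCompactMor (ObjectProperty.homMk a : (⟨G, hG⟩ : AlgSp.Sp S) ⟶ (AlgSp.yon S).obj U) := by
      refine AlgSpace.isQuasiCompactMor_of_affine hGA hU fun Z hZ g P fst snd sq => ?_
      haveI := hZ
      have hPA := AlgSpace.isAlgSpace_baseChange hGA hU (AlgSp.IsAlgSpace.yon_obj Z) sq
      obtain ⟨b, rfl⟩ := (AlgSp.yon S).map_surjective g
      let y' := BasedFunctor.comp (AlgSt.toOverCat Z) (BasedFunctor.comp (AlgSt.overMap b) y)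
      have hZs := isAlgStack_ofSp (AlgSp.IsAlgSpace.yon_obj Z)
      have hqc := h _ hZs (qc_of_equiv' hZs (isAlgStack_overCat Z) (toOverCat_isEquivOver Z) (isQuasiCompact_overCat Z)) y'
      let w := Stk.ofPshMap (P := ((AlgSp.yon S).obj Z).obj) (Q := ((AlgSp.yon S).obj U).obj) ((AlgSp.yon S).map b).hom
      haveI := idFun_full (𝒳 := 𝒴)
      haveI := idFun_faithful (𝒳 := 𝒴)
      let iy : BasedFunctor.comp w (BasedFunctor.comp (AlgSt.toOverCat U) y) ≅ y' := wrIso (overMapIso b) y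
      let M := fpMap (F := BasedFunctor.comp w (BasedFunctor.comp (AlgSt.toOverCat U) y)) (G := f)
        (F' := y') (G' := f) (a := BasedFunctor.id _) (b := BasedFunctor.id _) (s := BasedFunctor.id 𝒴)
        iy.symm (Iso.refl _)
      have hA1 := isAlgStack_fp' hZs h𝒳 h𝒴 (BasedFunctor.comp w (BasedFunctor.comp (AlgSt.toOverCat U) y)) f
      have h1 := qc_of_equiv' hA1 (isAlgStack_fp' hZs h𝒳 h𝒴 y' f)
        (show FibCat.IsEquivOver M from fpMap_isEquivOver _ _ isEquivOver_id isEquivOver_id) hqc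
      have hUs := isAlgStack_ofSp hU
      have hfpU := isAlgStack_fp' hUs h𝒳 h𝒴 (BasedFunctor.comp (AlgSt.toOverCat U) y) f
      have hA2 := isAlgStack_fp' hZs hfpU hUs w (FibCat.fpFst (BasedFunctor.comp (AlgSt.toOverCat U) y) f)
      have h2 := qc_of_equiv' hA2 hA1 (pasteL_isEquivOver w (BasedFunctor.comp (AlgSt.toOverCat U) y) f) h1
      haveI := idFun_full (𝒳 := AlgSt.ofSch U)
      haveI := idFun_faithful (𝒳 := AlgSt.ofSch U)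
      let M₂ := fpMap (F := w) (G := Stk.ofPshMap a) (F' := w)
        (G' := FibCat.fpFst (BasedFunctor.comp (AlgSt.toOverCat U) y) f) (a := BasedFunctor.id _) (b := e)
        (s := BasedFunctor.id (AlgSt.ofSch U)) (Iso.refl _) i
      have hA3 := isAlgStack_fp' hZs (isAlgStack_ofSp (F := ⟨G, hG⟩) hGA) hUs w (Stk.ofPshMap a)
      have h3 := qc_of_equiv' hA3 hA2
        (show FibCat.IsEquivOver M₂ from fpMap_isEquivOver _ _ isEquivOver_id he) h2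
      have hsq := (sq.map (sheafToPresheaf (AlgSp.J S) (Type (u + 1)))).flip
      have hPs := isAlgStack_ofSp hPA
      have h4 := qc_of_equiv' hPs hA3 (e := pbFun hsq.w) (pbFun_isEquivOver hsq) h3
      exact (AlgSpace.isQuasiCompactSp_iff hPA).1 ((isQuasiCompact_ofSp_iff hPA).1 h4)
    exact repOf_of_equiv (E := BasedFunctor.comp e (fpMap (a := AlgSt.toOverCat U) (b := BasedFunctor.id 𝒳)
        (s := BasedFunctor.id 𝒴) (F := BasedFunctor.comp (AlgSt.toOverCat U) y) (G := f) (F' := y) (G' := f)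
        (Iso.refl _) (Iso.refl _)))
      (by haveI := idFun_full (𝒳 := 𝒴)
          haveI := idFun_faithful (𝒳 := 𝒴)
          exact isEquivOver_comp he (fpMap_isEquivOver _ _ (toOverCat_isEquivOver U) isEquivOver_id))
      (wrIso i (AlgSt.toOverCat U)) (repOf_ofPsh_of a (h := hG) hGA hP)

theorem isQuasiCompactMor_of_cover (h𝒳 : IsAlgStack Scheme.fppfPrecoverage 𝒳)
    (h𝒴 : IsAlgStack Scheme.fppfPrecoverage 𝒴) (h𝒵 : IsAlgStack Scheme.fppfPrecoverage 𝒵) {f : 𝒳 ⥤ᵇ 𝒴}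
    (z : 𝒵 ⥤ᵇ 𝒴) (hz₁ : AlgSt.LocQ (AlgSp.LocP @Flat) z)
    (hz₂ : AlgSt.LocQ (AlgSp.LocP @LocallyOfFinitePresentation) z) (hz₃ : IsSurjective z)
    (hf : AlgSt.IsQuasiCompactMor Scheme.fppfPrecoverage (FibCat.fpFst z f)) :
    AlgSt.IsQuasiCompactMor Scheme.fppfPrecoverage f := fun 𝒲 h𝒲 hq g => by
  have gX := h𝒳.isStack.1; have gY := h𝒴.isStack.1; have gZ := h𝒵.isStack.1
  obtain ⟨V, y, hy, hys⟩ := h𝒴.atlas
  obtain ⟨W, k, cz, ⟨jz⟩, hcz, hczs⟩ := exists_good h𝒵 h𝒴 z y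
  have hk₁ : Flat k.left := (locP_yon_iff k).1 (of_locQ isSmoothLocalST_flat gZ gY hz₁ hy jz hcz)
  have hk₂ : LocallyOfFinitePresentation k.left :=
    (locP_yon_iff k).1 (of_locQ isSmoothLocalST_lfp gZ gY hz₂ hy jz hcz)
  let w := BasedFunctor.comp cz (FibCat.fpSnd y z)
  have key : ∀ {R : MorphismProperty Scheme.{u}} [AlgSpace.EtaleLocal R], R k.left →
      AlgSt.RepByAlgSpWith (AlgSp.LocP R) y → AlgSt.RepByAlgSpWith (AlgSp.LocP R) (BasedFunctor.comp w z) :=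
    fun hk hy' => with_of_iso (squareIso jz).symm
      (with_comp goodP_locP (overCat_isFibGrpd W) (overCat_isFibGrpd V) (with_locP_overMap k hk) hy')
  have h1 := key (R := @Flat) hk₁ (with_locP_mono smooth_le_flat hy)
  have h3 := with_surjective_of_isSurjective (overCat_isFibGrpd W) gY (repByAlgSp1_of_with h1) fun q => by
    obtain ⟨p, rfl⟩ := hz₃ q
    obtain ⟨o, rfl⟩ := isSurjective_of_with gZ (with_fpSnd_chart goodP_surjective gZ gY hczs hys) p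
    exact ⟨o, map_comp_apply _ _ o⟩
  obtain ⟨U, x, hU, -, hxs⟩ := hq
  haveI := hU
  obtain ⟨B, b, v, hb, ⟨i⟩⟩ := exists_cover_lift gY (overCat_isFibGrpd W) h1
    (key hk₂ (with_locP_mono smooth_le_lfp hy)) h3 U (BasedFunctor.comp x g)
  haveI : Flat b.left := (locP_yon_iff b).1 (hb.1 PUnit.unit).1
  haveI : LocallyOfFinitePresentation b.left := (locP_yon_iff b).1 (hb.1 PUnit.unit).2
  haveI : Surjective b.left := ⟨fun t => by
    obtain ⟨_, p, hp⟩ := hb.2 (AlgSp.Points.schemeHomeo U t)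
    obtain ⟨s, rfl⟩ := (AlgSp.Points.schemeHomeo B).surjective p
    rw [AlgSp.Points.map_yon_map_apply] at hp
    exact ⟨s, (AlgSp.Points.schemeHomeo U).injective hp⟩⟩
  obtain ⟨ι, _, A, hA, hAs⟩ := AlgSpDescent.exists_affine_open_surjective b.left b.left.isOpenMap
  haveI : ∀ i, IsAffine (A i).toScheme := hA
  let m : Over.mk (Limits.Sigma.desc (fun i => (A i).ι) ≫ B.hom) ⟶ B := Over.homMk (Limits.Sigma.desc fun i => (A i).ι)
  haveI : IsAffine (Over.mk (Limits.Sigma.desc (fun i => (A i).ι) ≫ B.hom)).left :=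
    inferInstanceAs (IsAffine (∐ fun i => (A i).toScheme))
  have hmb : Function.Surjective (m ≫ b).left := by
    have e : (m ≫ b).left = Limits.Sigma.desc (fun i => (A i).ι ≫ b.left) := by
      apply Limits.Sigma.hom_ext
      intro i
      change Limits.Sigma.ι _ i ≫ Limits.Sigma.desc (fun i => (A i).ι) ≫ b.left = _
      rw [Limits.Sigma.ι_desc_assoc, Limits.Sigma.ι_desc]
    rw [e]
    exact hAs.surj
  have ha : IsSurjective (BasedFunctor.comp (AlgSt.overMap (m ≫ b)) x) := isSurjective_of_surjective_ofChart fun q => by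
    obtain ⟨t, rfl⟩ := surjective_ofChart h𝒲.isStack.1 hxs q
    obtain ⟨s, rfl⟩ := hmb t
    exact ⟨s, ofChart_overMap _ x s⟩
  have hB' := isAlgStack_overCat (Over.mk (Limits.Sigma.desc (fun i => (A i).ι) ≫ B.hom))
  let u₁ := BasedFunctor.comp (BasedFunctor.comp (AlgSt.overMap m) v) w
  refine qc_fp_of_lift h𝒳 h𝒴 h𝒲 hB' ha (b := BasedFunctor.comp u₁ z)
    (wrIso (overMapComp m b).symm (BasedFunctor.comp x g) ≪≫ wlIso (AlgSt.overMap m) i) ?_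
  exact qc_of_equiv (isAlgStack_fp' hB' (isAlgStack_fp' h𝒵 h𝒳 h𝒴 z f) h𝒵 u₁ (FibCat.fpFst z f))
    (isAlgStack_fp' hB' h𝒳 h𝒴 _ f) (pasteL_isEquivOver u₁ z f) (hf _ hB' (isQuasiCompact_overCat _) u₁)

theorem exists_finset_cover (h𝒳 : IsAlgStack Scheme.fppfPrecoverage 𝒳) (Q' : 𝒳.obj → Prop)
    (hQ' : AlgSt.IsOpenSubstack 𝒳 Q' Scheme.fppfPrecoverage) (hqc : AlgSt.IsQuasiCompact (AlgSt.fullSub 𝒳 Q'))
    {ι : Type w} (Q : ι → 𝒳.obj → Prop) (hQ : ∀ i, AlgSt.IsOpenSubstack 𝒳 (Q i) Scheme.fppfPrecoverage)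
    (hcov : Set.range (Points.map (AlgSt.subIncl 𝒳 Q')) ⊆ ⋃ i, Set.range (Points.map (AlgSt.subIncl 𝒳 (Q i)))) :
    ∃ I' : Finset ι, Set.range (Points.map (AlgSt.subIncl 𝒳 Q')) ⊆
      ⋃ i ∈ I', Set.range (Points.map (AlgSt.subIncl 𝒳 (Q i))) := by
  haveI := compactSpace_of_isQuasiCompact hQ'.2.1 hqc
  refine (isCompact_range (continuous_map h𝒳 _)).elim_finite_subcover _ (fun i => ?_) hcov
  have h := (hQ i).2.2
  exact (isOpenMor_of_flat_lfp (hQ i).2.1 h𝒳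
    (locQ_of_imm (R := @Flat) isSmoothLocalST_flat isLocalOnBase_fppf_locP_flat
      (fun _ _ g (_ : IsOpenImmersion g) => inferInstance) (hQ i).2.1 h𝒳 h)
    (locQ_of_imm (R := @LocallyOfFinitePresentation) isSmoothLocalST_lfp isLocalOnBase_fppf_locP_lfp
      (fun _ _ g (_ : IsOpenImmersion g) => inferInstance) (hQ i).2.1 h𝒳 h)).isOpen_range

end Groth.Agent.StAlg16
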