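import Groth.Agent.Lib.StAlg16.DiagOps
import Groth.Agent.Lib.StAlg.Descent

/-! Properties local on the source: cancelling a cover in front of a representable morphism. -/

universe u

open CategoryTheory CategoryTheory.Functor CategoryTheory.Limits AlgebraicGeometry Opposite

set_option linter.style.haveILetI false
set_option linter.unusedSectionVars false
set_option backward.isDefEq.respectTransparency false
set_option backward.isDefEq.respectTransparency.types false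

namespace Groth.Agent.StAlg16

open Groth.Agent.FC16 Groth.Agent.StAlg AlgSt

variable {S : Scheme.{u}} {P : MorphismProperty (AlgSp.Sp S)} {𝒳 𝒴 𝒵 : AlgSt.Cat S}

/-- `P` descends to `y` from `x ≫ y`, when it descends along maps of spaces with the properties `C` of `x` -/
theorem with_of_comp_of_source (hb : PbP P) {ι : Sort*} (C : ι → MorphismProperty (AlgSp.Sp S)) (hC : ∀ k, GoodP (C k))
    (hP' : ∀ ⦃X Y Z : AlgSp.Sp S⦄, AlgSp.IsAlgSpace X → AlgSp.IsAlgSpace Y → AlgSp.IsAlgSpace Z →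
      ∀ (b : X ⟶ Y) (a : Y ⟶ Z), (∀ k, C k b) → P (b ≫ a) → P a)
    (h𝒳 : FibCat.IsFibGrpd 𝒳.p) (h𝒴 : FibCat.IsFibGrpd 𝒴.p) (h𝒵 : FibCat.IsFibGrpd 𝒵.p)
    {x : 𝒳 ⥤ᵇ 𝒴} {y : 𝒴 ⥤ᵇ 𝒵} (hy : AlgSt.RepByAlgSp1 y) (hx₀ : AlgSt.RepByAlgSp1 x)
    (hx : ∀ k, AlgSt.RepByAlgSpWith (C k) x)
    (h : AlgSt.RepByAlgSpWith P (BasedFunctor.comp x y)) : AlgSt.RepByAlgSpWith P y := fun U z => by
  have hU := AlgSp.IsAlgSpace.yon_obj U
  have hid : ∀ {F : AlgSp.PSp S} (a : F ⟶ ((AlgSp.yon S).obj U).obj), IsPullback (𝟙 F) a a (𝟙 _) := fun a =>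
    IsPullback.of_horiz_isIso ⟨by simp⟩
  let z₁ : AlgSt.ofSch U ⥤ᵇ 𝒵 := BasedFunctor.comp (AlgSt.toOverCat U) z
  obtain ⟨G, a, e, he, ⟨i⟩, hra, -⟩ := exists_rep_over h𝒴 h𝒵 hy z₁
  obtain ⟨hG, hGA⟩ := AlgSpace.isAlgSpaceP_of_repBySp a hra (AlgSpace.isAlgSpaceP_pyon U)
  let u := BasedFunctor.comp e (FibCat.fpSnd z₁ y)
  obtain ⟨V, b, e₂, he₂, ⟨i₂⟩, hrb, hrb'⟩ := exists_rep_over h𝒳 h𝒴 hx₀ u
  obtain ⟨hV, hVA⟩ := AlgSpace.isAlgSpaceP_of_repBySp b hrb ((AlgSp.isAlgSpaceP_obj_iff ⟨G, hG⟩).2 hGA)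
  have hbC : ∀ k, C k (ObjectProperty.homMk b : (⟨V, hV⟩ : AlgSp.Sp S) ⟶ ⟨G, hG⟩) := fun k =>
    (hC k).desc hVA hGA _ (hrb' (C k) (hC k).preIso (hx k))
  haveI := idFun_full (𝒳 := 𝒴)
  haveI := idFun_faithful (𝒳 := 𝒴)
  let M := fpMap (F := u) (G := x) (F' := FibCat.fpSnd z₁ y) (G' := x) (a := e) (b := BasedFunctor.id 𝒳)
    (s := BasedFunctor.id 𝒴) (Iso.refl _) (Iso.refl _)
  have hM : FibCat.IsEquivOver M := fpMap_isEquivOver _ _ he isEquivOver_id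
  let E := BasedFunctor.comp (BasedFunctor.comp e₂ M) (pasteR z₁ y x)
  have hE : FibCat.IsEquivOver E := isEquivOver_comp (isEquivOver_comp he₂ hM) (pasteR_isEquivOver z₁ y x)
  let j : Stk.ofPshMap (b ≫ a) ≅ BasedFunctor.comp E (FibCat.fpFst z₁ (BasedFunctor.comp x y)) :=
    (isoMapOf (BasedFunctor.comp (Stk.ofPshMap b) (Stk.ofPshMap a)) ≪≫
      eqToIso (congrArg Stk.ofPshMap (by rw [mapOf_comp, mapOf_ofPshMap, mapOf_ofPshMap]))).symm ≪≫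
      (wlIso (Stk.ofPshMap b) i.symm ≪≫ wrIso i₂.symm (BasedFunctor.comp e (FibCat.fpFst z₁ y)))
  have h1 : AlgSt.RepByAlgSpWith P (Stk.ofPshMap (b ≫ a)) :=
    (with_congr (f := FibCat.fpFst z₁ (BasedFunctor.comp x y)) (f' := Stk.ofPshMap (b ≫ a)) (a := E)
      (b := BasedFunctor.id _) hE isEquivOver_id j).1 (with_fpFst _ h)
  have hPba : P ((ObjectProperty.homMk b : (⟨V, hV⟩ : AlgSp.Sp S) ⟶ ⟨G, hG⟩) ≫ ObjectProperty.homMk a) :=
    (repBySpWith_of_with (preIso_of_pullback hb) h1 (𝟙 _) _ _ (hid (b ≫ a))).2.2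
  have hPa : P (ObjectProperty.homMk a : (⟨G, hG⟩ : AlgSp.Sp S) ⟶ (AlgSp.yon S).obj U) :=
    hP' hVA hGA hU _ _ hbC hPba
  exact repOf_of_equiv (E := BasedFunctor.comp e (fpMap (a := AlgSt.toOverCat U) (b := BasedFunctor.id 𝒴)
      (s := BasedFunctor.id 𝒵) (F := BasedFunctor.comp (AlgSt.toOverCat U) z) (G := y) (F' := z) (G' := y)
      (Iso.refl _) (Iso.refl _)))
    (by haveI := idFun_full (𝒳 := 𝒵)
        haveI := idFun_faithful (𝒳 := 𝒵)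
        exact isEquivOver_comp he (fpMap_isEquivOver _ _ (toOverCat_isEquivOver U) isEquivOver_id))
    (wrIso i (AlgSt.toOverCat U)) (repOf_ofPsh_of a (h := hG) hGA hPa)

end Groth.Agent.StAlg16
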