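import Groth.Agent.Lib.StAlg16.OpenSub

/-! Lifting a morphism into a full substack. -/

universe u

open CategoryTheory CategoryTheory.Functor CategoryTheory.Limits AlgebraicGeometry Opposite

set_option linter.style.haveILetI false
set_option linter.unusedSectionVars false
set_option backward.isDefEq.respectTransparency false
set_option backward.isDefEq.respectTransparency.types false

namespace Groth.Agent.StAlg16

open Groth.Agent.FC16 Groth.Agent.StAlg AlgSt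

variable {S : Scheme.{u}} {𝒱 𝒳 : AlgSt.Cat S} {Q : 𝒳.obj → Prop}

/-- `w` as a morphism into the full subcategory of `Q` -/
def liftSub (w : 𝒱 ⥤ᵇ 𝒳) (hw : ∀ a, Q (w.obj a)) : 𝒱 ⥤ᵇ fullSub 𝒳 Q where
  toFunctor := ObjectProperty.lift _ w.toFunctor hw
  w := w.w

/-- the graph of `liftSub` is an equivalence `𝒱 ≌ 𝒱 ×_𝒳 Q` -/
theorem liftSub_graph_isEquivOver (w : 𝒱 ⥤ᵇ 𝒳) (hw : ∀ a, Q (w.obj a)) :
    FibCat.IsEquivOver (FibCat.fpLift (F := w) (G := AlgSt.subIncl 𝒳 Q) (BasedFunctor.id 𝒱) (liftSub w hw)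
      (Iso.refl w)) := by
  let E := FibCat.fpLift (F := w) (G := AlgSt.subIncl 𝒳 Q) (BasedFunctor.id 𝒱) (liftSub w hw) (Iso.refl w)
  haveI : E.toFunctor.Faithful := ⟨fun {a b φ φ'} e => congrArg (fun t => t.hom.fst) e⟩
  haveI : E.toFunctor.Full := ⟨fun {a b} ψ => by
    refine ⟨ψ.hom.fst, fp_hom_ext rfl (ObjectProperty.hom_ext _ ?_)⟩
    have w2 : w.map ψ.hom.fst ≫ 𝟙 _ = 𝟙 _ ≫ ψ.hom.snd.hom := fp_w ψ
    exact (Category.comp_id _).symm.trans (w2.trans (Category.id_comp _))⟩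
  refine isEquivOver_of E fun η => ?_
  refine ⟨η.obj.fst, fpIsoMk (Iso.refl _) (ObjectProperty.isoMk _ η.obj.iso) ?_,
    @isHomLift_of_fst _ _ _ _ _ _ _ _ _ _ _ _ _ ?_⟩
  · show w.map (𝟙 _) ≫ η.obj.iso.hom = 𝟙 _ ≫ η.obj.iso.hom
    rw [CategoryTheory.Functor.map_id]
  · exact IsHomLift.id rfl

theorem with_liftSub {P : MorphismProperty (AlgSp.Sp S)} (w : 𝒱 ⥤ᵇ 𝒳) (hw : ∀ a, Q (w.obj a))
    (h : AlgSt.RepByAlgSpWith P w) : AlgSt.RepByAlgSpWith P (liftSub w hw) :=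
  with_comp_equiv (liftSub_graph_isEquivOver w hw) (with_fpSnd (f := w) (AlgSt.subIncl 𝒳 Q) h)

theorem qsub_range_map (h𝒱 : FibCat.IsFibGrpd 𝒱.p) (h𝒳 : FibCat.IsFibGrpd 𝒳.p) (w : 𝒱 ⥤ᵇ 𝒳)
    {T : Set (Points 𝒳)} (hT : Set.range (Points.map w) ⊆ T) (a : 𝒱.obj) : Qsub T (w.obj a) := by
  haveI := FC16.isFibered h𝒱
  let U := 𝒱.p.obj a
  let x : FibCat.overCat U ⥤ᵇ 𝒱 := ofObj (x := a) (U := U) rfl
  refine qsub_of_hom (w.map (ofObjIso (x := a) (U := U) rfl).inv)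
    ((qsub_obj_iff h𝒳 T (BasedFunctor.comp x w) (Over.mk (𝟙 U))).2 fun t => hT ?_)
  rw [ofChart_eq, map_comp_apply]
  exact ⟨_, rfl⟩

theorem injective_map_subIncl (h𝒳 : FibCat.IsFibGrpd 𝒳.p) (hQ : ∀ {a b : 𝒳.obj} (_ : a ⟶ b), Q b → Q a) :
    Function.Injective (Points.map (AlgSt.subIncl 𝒳 Q)) := by
  intro z z' e
  obtain ⟨p, rfl⟩ := Points.mk_surjective z
  obtain ⟨q, rfl⟩ := Points.mk_surjective z'
  obtain ⟨r, a, b, -⟩ := rel_of_mk_eq h𝒳 e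
  exact Points.sound ⟨⟨r.K, r.str, ⟨r.obj, hQ a p.obj.property⟩, r.lies⟩, ObjectProperty.homMk a,
    ObjectProperty.homMk b, trivial⟩

/-- the image of a smooth morphism from a space is an open substack -/
theorem exists_image_substack (h𝒳 : IsAlgStack Scheme.fppfPrecoverage 𝒳) (V : AlgSp.Space S)
    (w : AlgSt.ofSp V.obj ⥤ᵇ 𝒳) (hw : AlgSt.RepByAlgSpWith (AlgSp.LocP @Smooth) w) :
    ∃ (Q : 𝒳.obj → Prop) (g : AlgSt.ofSp V.obj ⥤ᵇ fullSub 𝒳 Q),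
      AlgSt.IsOpenSubstack 𝒳 Q Scheme.fppfPrecoverage ∧
      AlgSt.RepByAlgSpWith (AlgSp.LocP @Smooth) g ∧ AlgSt.RepByAlgSpWith AlgSp.IsSurjectiveMor g ∧
      BasedFunctor.comp g (AlgSt.subIncl 𝒳 Q) = w := by
  have gX := h𝒳.isStack.1
  have gV := (isStack_ofSp V.obj).1
  have hT : IsOpen (Set.range (Points.map w)) := by
    rw [← Set.image_univ]
    exact isOpenMap_map_space gX V w (with_locP_mono smooth_le_flat hw) (with_locP_mono smooth_le_lfp hw) _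
      isOpen_univ
  have hlift := qsub_range_map gV gX w (le_refl (Set.range (Points.map w)))
  have hg := with_liftSub (Q := Qsub (Set.range (Points.map w))) w hlift hw
  refine ⟨_, liftSub w hlift, isOpenSubstack_qsub hT h𝒳, hg, ?_, rfl⟩
  refine with_surjective_of_isSurjective gV (fullSub_isFibGrpd gX (fun φ h => qsub_of_hom φ h))
    (repByAlgSp1_of_with hg) fun z => ?_
  obtain ⟨v, hv⟩ : Points.map (AlgSt.subIncl 𝒳 (Qsub (Set.range (Points.map w)))) z ∈ Set.range (Points.map w) := by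
    exact (range_map_subIncl_qsub (Set.range (Points.map w))).le ⟨z, rfl⟩
  refine ⟨v, injective_map_subIncl gX (fun φ h => qsub_of_hom φ h) ?_⟩
  rw [← map_comp_apply]
  exact hv

theorem exists_image_of_open_subspace (h𝒳 : IsAlgStack Scheme.fppfPrecoverage 𝒳) (U V : AlgSp.Space S)
    (u : AlgSt.ofSp U.obj ⥤ᵇ 𝒳) (hu : AlgSt.RepByAlgSpWith (AlgSp.LocP @Smooth) u) (j : V ⟶ U)
    (hj : AlgSp.RepWith @IsOpenImmersion j.hom) :
    ∃ (𝒴 : AlgSt.Cat S) (i : 𝒴 ⥤ᵇ 𝒳) (g : AlgSt.ofSp V.obj ⥤ᵇ 𝒴),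
      AlgSt.IsAlgStack Scheme.fppfPrecoverage 𝒴 ∧ AlgSt.IsOpenImm i ∧
        AlgSt.RepByAlgSpWith (AlgSp.LocP @Smooth) g ∧ AlgSt.RepByAlgSpWith AlgSp.IsSurjectiveMor g ∧
          Nonempty (BasedFunctor.comp g i ≅ BasedFunctor.comp (AlgSt.ofSpMap j.hom) u) := by
  have hle : @IsOpenImmersion ≤ @Smooth := fun _ _ f (_ : IsOpenImmersion f) => inferInstance
  have hw : AlgSt.RepByAlgSpWith (AlgSp.LocP @Smooth) (BasedFunctor.comp (AlgSt.ofSpMap j.hom) u) :=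
    with_comp goodP_locP (isStack_ofSp V.obj).1 (isStack_ofSp U.obj).1
      (with_locP_ofSpMap V.property U.property j.hom (AlgSpace.locP_of_repWith U.property ⟨hj.1, fun _ _ g fst snd sq => hle _ (hj.2 g fst snd sq)⟩)) hu
  obtain ⟨Q, g, hQ, hg, hgs, e⟩ := exists_image_substack h𝒳 V _ hw
  exact ⟨fullSub 𝒳 Q, AlgSt.subIncl 𝒳 Q, g, hQ.2.1, hQ.2.2, hg, hgs, ⟨eqToIso e⟩⟩

end Groth.Agent.StAlg16
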