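import Groth.Agent.Lib.StAlg16.DiagIff
import Groth.Agent.Lib.FC16.Inertia

/-! The relative inertia as a base change of the diagonal. -/

universe v₃ u₃ v₂ u₂ v u

open CategoryTheory CategoryTheory.Functor CategoryTheory.Limits AlgebraicGeometry Opposite

set_option linter.style.haveILetI false
set_option linter.unusedSectionVars false
set_option backward.isDefEq.respectTransparency false
set_option backward.isDefEq.respectTransparency.types false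

namespace Groth.Agent.StAlg16

open Groth.Agent.FC16 Groth.Agent.StAlg

section Gen

variable {C : Type u} [Category.{v} C] {𝒳 : BasedCategory.{v₂, u₂} C} {𝒴 : BasedCategory.{v₃, u₃} C}

/-- `(x, α) ↦ (x, x, (α, 𝟙))` -/
noncomputable def inertiaDiag [𝒳.p.IsFibered] (F : 𝒳 ⥤ᵇ 𝒴) :
    FibCat.inertia F ⥤ᵇ FibCat.fp (FibCat.diag F) (FibCat.diag F) :=
  FibCat.fpLift (FibCat.inertiaToBase F) (FibCat.inertiaToBase F)
    (BasedNatIso.mkNatIso (NatIso.ofComponents (fun z => fpIsoMk z.aut (Iso.refl z.pt) (by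
        show F.map z.aut.hom ≫ 𝟙 _ = 𝟙 _ ≫ F.map (𝟙 z.pt)
        rw [z.map_aut, CategoryTheory.Functor.map_id]))
      (fun {z z'} φ => fp_hom_ext φ.comm.symm
        ((Category.comp_id _).trans (Category.id_comp _).symm)))
      (fun z => @isHomLift_of_fst _ _ _ _ _ _ _ _ _ _ _ _ _ (aut_lift z rfl)))

theorem inertiaDiag_isEquivOver [𝒳.p.IsFibered] [𝒴.p.IsFibered] (F : 𝒳 ⥤ᵇ 𝒴) :
    FibCat.IsEquivOver (inertiaDiag F) := by
  let E := inertiaDiag F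
  change FibCat.IsEquivOver E
  haveI : E.toFunctor.Faithful := ⟨fun h => FibCat.InertiaObj.hom_ext (congrArg (fun t => t.hom.fst) h)⟩
  haveI : E.toFunctor.Full := ⟨fun {z z'} φ => by
    have w1 : φ.hom.fst ≫ z'.aut.hom = z.aut.hom ≫ φ.hom.snd := congrArg (fun t => t.hom.fst) (fp_w φ)
    have w2 : φ.hom.fst ≫ 𝟙 _ = 𝟙 _ ≫ φ.hom.snd := congrArg (fun t => t.hom.snd) (fp_w φ)
    have w2' : φ.hom.fst = φ.hom.snd := (Category.comp_id _).symm.trans (w2.trans (Category.id_comp _))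
    exact ⟨⟨φ.hom.fst, by rw [← w2'] at w1; exact w1.symm⟩, fp_hom_ext rfl w2'⟩⟩
  refine isEquivOver_of _ fun η => ?_
  let U : C := 𝒳.p.obj η.obj.fst
  haveI he := iso_lift η (U := U) rfl
  let e1 := (FibCat.fpFst F F).toFunctor.mapIso η.obj.iso
  let e2 := (FibCat.fpSnd F F).toFunctor.mapIso η.obj.iso
  haveI : 𝒳.p.IsHomLift (𝟙 U) e1.hom := BasedFunctor.preserves_isHomLift (FibCat.fpFst F F) _ η.obj.iso.hom
  haveI : 𝒳.p.IsHomLift (𝟙 U) e2.hom := BasedFunctor.preserves_isHomLift (FibCat.fpSnd F F) _ η.obj.iso.hom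
  have w : F.map e1.hom ≫ 𝟙 _ = 𝟙 _ ≫ F.map e2.hom := fp_w η.obj.iso.hom
  have w' : F.map e1.hom = F.map e2.hom := (Category.comp_id _).symm.trans (w.trans (Category.id_comp _))
  let α : η.obj.fst ≅ η.obj.fst := e1 ≪≫ e2.symm
  let z : (FibCat.inertia F).obj := ⟨η.obj.fst, α, by
    show F.map (e1.hom ≫ e2.inv) = 𝟙 _
    rw [Functor.map_comp, w', ← Functor.map_comp, e2.hom_inv_id, CategoryTheory.Functor.map_id]
    rfl⟩
  refine ⟨z, fpIsoMk (Iso.refl _) e2 (fp_hom_ext ?_ ?_),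
    @isHomLift_of_fst _ _ _ _ _ _ _ _ _ _ _ _ _ (IsHomLift.id (fst_p η))⟩
  · show 𝟙 _ ≫ e1.hom = α.hom ≫ e2.hom
    show 𝟙 _ ≫ e1.hom = (e1.hom ≫ e2.inv) ≫ e2.hom
    rw [Category.assoc, e2.inv_hom_id]
    exact (Category.id_comp _).trans (Category.comp_id _).symm
  · show 𝟙 _ ≫ e2.hom = 𝟙 _ ≫ e2.hom
    rfl

/-- the neutral section is the second diagonal -/
noncomputable def neutralIso [𝒳.p.IsFibered] (F : 𝒳 ⥤ᵇ 𝒴) :
    BasedFunctor.comp (FibCat.inertiaNeutral F) (inertiaDiag F) ≅ FibCat.diag (FibCat.diag F) :=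
  BasedNatIso.mkNatIso
    (NatIso.ofComponents (fun x => fpIsoMk (Iso.refl _) (Iso.refl _) (fp_hom_ext
        (by show 𝟙 _ ≫ 𝟙 _ = 𝟙 _ ≫ 𝟙 _; rfl)
        (by show 𝟙 _ ≫ 𝟙 _ = 𝟙 _ ≫ 𝟙 _; rfl)))
      (fun {x y} φ => fp_hom_ext
        (by show φ ≫ 𝟙 _ = 𝟙 _ ≫ φ; simp) (by show φ ≫ 𝟙 _ = 𝟙 _ ≫ φ; simp)))
    (fun x => @isHomLift_of_fst _ _ _ _ _ _ _ _ _ _ _ _ _ (IsHomLift.id rfl))

end Gen

variable {S : Scheme.{u}} {P Q : MorphismProperty (AlgSp.Sp S)} {𝒳 𝒴 : AlgSt.Cat S} {f : 𝒳 ⥤ᵇ 𝒴}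

theorem with_inertiaToBase (h𝒳 : FibCat.IsFibGrpd 𝒳.p) (h𝒴 : FibCat.IsFibGrpd 𝒴.p)
    (h : AlgSt.RepByAlgSpWith P (FibCat.diag f)) : AlgSt.RepByAlgSpWith P (FibCat.inertiaToBase f) := by
  haveI := FC16.isFibered h𝒳
  haveI := FC16.isFibered h𝒴
  exact (with_congr (f := FibCat.fpFst (FibCat.diag f) (FibCat.diag f)) (f' := FibCat.inertiaToBase f)
    (a := inertiaDiag f) (b := BasedFunctor.id _) (inertiaDiag_isEquivOver f) isEquivOver_id (Iso.refl _)).1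
    (with_fpFst _ h)

theorem with_neutral_iff (h𝒳 : FibCat.IsFibGrpd 𝒳.p) (h𝒴 : FibCat.IsFibGrpd 𝒴.p) :
    AlgSt.RepByAlgSpWith P (FibCat.inertiaNeutral f) ↔ AlgSt.RepByAlgSpWith P (FibCat.diag (FibCat.diag f)) := by
  haveI := FC16.isFibered h𝒳
  haveI := FC16.isFibered h𝒴
  exact ((with_congr (f := FibCat.diag (FibCat.diag f)) (f' := FibCat.inertiaNeutral f) (a := BasedFunctor.id _)
    (b := inertiaDiag f) isEquivOver_id (inertiaDiag_isEquivOver f) (neutralIso f))).symm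

/-- the neutral section inherits what the diagonal of the inertia has -/
theorem with_neutral (hb : PbP P) (h : AlgSt.RepByAlgSpWith Q (FibCat.inertiaToBase f))
    (conv : ∀ ⦃X : AlgSp.Sp S⦄, AlgSp.IsAlgSpace X → ∀ ⦃U : Over S⦄ (a : X ⟶ (AlgSp.yon S).obj U),
      Q a → P (pullback.diagonal a)) : AlgSt.RepByAlgSpWith P (FibCat.inertiaNeutral f) :=
  with_section (f := FibCat.inertiaToBase f) (FibCat.inertiaNeutral f) (Iso.refl _) (with_diag_of_rep1 hb h conv)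

theorem isDMMor_of_unramified_inertia (h𝒳 : AlgSt.IsAlgStack Scheme.fppfPrecoverage 𝒳)
    (h𝒴 : AlgSt.IsAlgStack Scheme.fppfPrecoverage 𝒴)
    (h : AlgSt.RepByAlgSpWith (AlgSp.LocP (@LocallyOfFiniteType ⊓ @FormallyUnramified)) (FibCat.inertiaToBase f)) :
    AlgSt.IsDMMor f := by
  have gX := h𝒳.isStack.1
  have gY := h𝒴.isStack.1
  have h1 := rep1_diag h𝒳 h𝒴 f
  have h2 := with_neutral (P := AlgSp.RepWith @IsOpenImmersion) pbP_repWith h fun X hX U a ha =>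
    AlgSpace.repWith_diagonal_isOpenImmersion_of_unramified hX (AlgSp.IsAlgSpace.yon_obj U) ha
  have h3 := with_of_with_diag (Q := fun _ _ a => AlgSp.RepWith @IsOpenImmersion (Limits.pullback.diagonal a))
    goodP_openImm h1 ((with_neutral_iff gX gY).1 h2) fun _ _ _ _ ha => ha
  have h4 := with_inf (preIso_of_pullback fun _ _ _ _ _ _ _ _ _ _ _ _ sq ha =>
      AlgSpace.repWith_diagonal_of_isPullback sq ha) (preIso_of_pullback pbP_locP) gX
    (FC16.fp_isFibGrpd gX gX gY f f) h3 (lft_diag h𝒳 h𝒴 f)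
  exact repByAlgSpWith_mono (fun _ hF U _ ha =>
    AlgSpace.locP_unramified_of_diagonal hF (AlgSp.IsAlgSpace.yon_obj U) ha.2 ha.1) h4

end Groth.Agent.StAlg16
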