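import Groth.Agent.Lib.StAlg.DiagApps
import Groth.Agent.Lib.StAlg.Descent

/-! Operations on conditions on diagonals. -/

universe u

open CategoryTheory CategoryTheory.Functor CategoryTheory.Limits AlgebraicGeometry Opposite

set_option linter.style.haveILetI false
set_option linter.unusedSectionVars false
set_option backward.isDefEq.respectTransparency false
set_option backward.isDefEq.respectTransparency.types false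

namespace Groth.Agent.StAlg16

open Groth.Agent.FC16 Groth.Agent.StAlg

variable {S : Scheme.{u}} {P : MorphismProperty (AlgSp.Sp S)} {𝒳 𝒴 𝒵 𝒳' 𝒴' : AlgSt.Cat S}

/-- properties local for the etale topology on the base descend from schemes -/
theorem goodP_of_etLocal (hPb : PbP P)
    (hPc : ∀ ⦃X Y Z : AlgSp.Sp S⦄, AlgSp.IsAlgSpace X → AlgSp.IsAlgSpace Y → AlgSp.IsAlgSpace Z →
      ∀ (a : X ⟶ Y) (b : Y ⟶ Z), P a → P b → P (a ≫ b))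
    (hP : AlgSp.IsLocalOnBase AlgSp.IsEtCover P) : GoodP P := by
  refine ⟨preIso_of_pullback hPb, fun G X hG hX a h => ?_, hPc⟩
  obtain ⟨V, p, he, hs⟩ := hX.atlas
  have sq := IsPullback.of_hasPullback a p
  have h' := (AlgSp.repBySpWith_hom_iff P a).1 h p _ _ sq
  exact (hP (ι := PUnit.{u + 1}) (fun _ => (AlgSp.yon S).obj V) (fun _ => p) hX
    (fun _ => AlgSp.IsAlgSpace.yon_obj V)
    ⟨fun _ => isEtaleMor_of_repWith he, fun x => ⟨PUnit.unit, AlgSpace.surjective_map_of_repWith hs x⟩⟩ a hG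
    (fun _ => pullback a p) (fun _ => pullback.snd a p) (fun _ => pullback.fst a p)
    (fun _ => h'.1) (fun _ => sq)).2 (fun _ => h'.2)

/-- cancellation without descent -/
theorem with_of_comp_of_cancel (hb : PbP P)
    (hcancel : ∀ ⦃X Y Z : AlgSp.Sp S⦄, AlgSp.IsAlgSpace X → AlgSp.IsAlgSpace Y → AlgSp.IsAlgSpace Z →
      ∀ (a : X ⟶ Y) (b : Y ⟶ Z), P b → P (a ≫ b) → P a)
    (h𝒳 : FibCat.IsFibGrpd 𝒳.p) (h𝒴 : FibCat.IsFibGrpd 𝒴.p) (h𝒵 : FibCat.IsFibGrpd 𝒵.p)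
    {f : 𝒳 ⥤ᵇ 𝒴} {c : 𝒴 ⥤ᵇ 𝒵} (hf : AlgSt.RepByAlgSp1 f) (hc : AlgSt.RepByAlgSpWith P c)
    (hfc : AlgSt.RepByAlgSpWith P (BasedFunctor.comp f c)) : AlgSt.RepByAlgSpWith P f := fun U y => by
  have hU := AlgSp.IsAlgSpace.yon_obj U
  have hid : ∀ {F : AlgSp.PSp S} (a : F ⟶ ((AlgSp.yon S).obj U).obj), IsPullback (𝟙 F) a a (𝟙 _) := fun a =>
    IsPullback.of_horiz_isIso ⟨by simp⟩
  let y₁ : AlgSt.ofSch U ⥤ᵇ 𝒵 := BasedFunctor.comp (BasedFunctor.comp (AlgSt.toOverCat U) y) c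
  obtain ⟨G, a, e, he, ⟨i⟩, hra, hr⟩ := exists_rep_over h𝒴 h𝒵 (repByAlgSp1_of_with hc) y₁
  obtain ⟨hG, hGA⟩ := AlgSpace.isAlgSpaceP_of_repBySp a hra (AlgSpace.isAlgSpaceP_pyon U)
  let u := BasedFunctor.comp e (FibCat.fpSnd y₁ c)
  obtain ⟨V, b, e₂, he₂, ⟨i₂⟩, hrb, -⟩ := exists_rep_over h𝒳 h𝒴 hf u
  obtain ⟨hV, hVA⟩ := AlgSpace.isAlgSpaceP_of_repBySp b hrb ((AlgSp.isAlgSpaceP_obj_iff ⟨G, hG⟩).2 hGA)
  have hPa : P (ObjectProperty.homMk a : (⟨G, hG⟩ : AlgSp.Sp S) ⟶ (AlgSp.yon S).obj U) :=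
    (hr P (preIso_of_pullback hb) hc (𝟙 _) _ _ (hid a)).2.2
  haveI := idFun_full (𝒳 := 𝒴)
  haveI := idFun_faithful (𝒳 := 𝒴)
  let M := fpMap (F := u) (G := f) (F' := FibCat.fpSnd y₁ c) (G' := f) (a := e) (b := BasedFunctor.id 𝒳)
    (s := BasedFunctor.id 𝒴) (Iso.refl _) (Iso.refl _)
  have hM : FibCat.IsEquivOver M := fpMap_isEquivOver _ _ he isEquivOver_id
  let R := pasteR y₁ c f
  let E := BasedFunctor.comp (BasedFunctor.comp e₂ M) R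
  have hE : FibCat.IsEquivOver E := isEquivOver_comp (isEquivOver_comp he₂ hM) (pasteR_isEquivOver y₁ c f)
  let j : Stk.ofPshMap (b ≫ a) ≅ BasedFunctor.comp E (FibCat.fpFst y₁ (BasedFunctor.comp f c)) :=
    (isoMapOf (BasedFunctor.comp (Stk.ofPshMap b) (Stk.ofPshMap a)) ≪≫
      eqToIso (congrArg Stk.ofPshMap (by rw [mapOf_comp, mapOf_ofPshMap, mapOf_ofPshMap]))).symm ≪≫
      (wlIso (Stk.ofPshMap b) i.symm ≪≫ wrIso i₂.symm (BasedFunctor.comp e (FibCat.fpFst y₁ c)))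
  have h1 : AlgSt.RepByAlgSpWith P (Stk.ofPshMap (b ≫ a)) :=
    (with_congr (f := FibCat.fpFst y₁ (BasedFunctor.comp f c)) (f' := Stk.ofPshMap (b ≫ a)) (a := E)
      (b := BasedFunctor.id _) hE isEquivOver_id j).1 (with_fpFst _ hfc)
  have hPba : P ((ObjectProperty.homMk b : (⟨V, hV⟩ : AlgSp.Sp S) ⟶ ⟨G, hG⟩) ≫ ObjectProperty.homMk a) :=
    (repBySpWith_of_with (preIso_of_pullback hb) h1 (𝟙 _) _ _ (hid (b ≫ a))).2.2
  have hPb' : P (ObjectProperty.homMk b : (⟨V, hV⟩ : AlgSp.Sp S) ⟶ ⟨G, hG⟩) :=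
    hcancel hVA hGA hU _ _ hPa hPba
  have h2 : AlgSt.RepByAlgSpWith P (FibCat.fpFst u f) :=
    (with_congr (f := FibCat.fpFst u f) (f' := Stk.ofPshMap b) (a := e₂) (b := BasedFunctor.id _) he₂
      isEquivOver_id i₂.symm).2 (with_ofPshMap (repBySpWith_of_space hb hVA hGA hPb'))
  have h3 : AlgSt.RepByAlgSpWith P (FibCat.fpFst (FibCat.fpSnd y₁ c) f) :=
    (with_congr (f := FibCat.fpFst (FibCat.fpSnd y₁ c) f) (f' := FibCat.fpFst u f) (a := M) (b := e) hM he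
      (Iso.refl _)).2 h2
  let σ : FibCat.overCat U ⥤ᵇ FibCat.fp y₁ c := FibCat.fpLift (AlgSt.ofOverCat U) y
    (wrIso (wrIso (eqToIso (ofOver_toOver U)) y) c)
  exact repOf_left (y := BasedFunctor.comp σ (FibCat.fpSnd y₁ c)) (Iso.refl _)
    (repOf_of_equiv (pasteL_isEquivOver σ (FibCat.fpSnd y₁ c) f) (Iso.refl _) (h3 U σ))

/-- cancellation for diagonals without descent -/
theorem with_diag_of_comp_of_cancel (hb : PbP P)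
    (hcancel : ∀ ⦃X Y Z : AlgSp.Sp S⦄, AlgSp.IsAlgSpace X → AlgSp.IsAlgSpace Y → AlgSp.IsAlgSpace Z →
      ∀ (a : X ⟶ Y) (b : Y ⟶ Z), P b → P (a ≫ b) → P a)
    (h𝒳 : FibCat.IsFibGrpd 𝒳.p) (h𝒴 : FibCat.IsFibGrpd 𝒴.p) (h𝒵 : FibCat.IsFibGrpd 𝒵.p)
    {f : 𝒳 ⥤ᵇ 𝒴} {g : 𝒴 ⥤ᵇ 𝒵} (hΔ : AlgSt.RepByAlgSp1 (FibCat.diag f))
    (hg : AlgSt.RepByAlgSpWith P (FibCat.diag g))
    (hfg : AlgSt.RepByAlgSpWith P (FibCat.diag (BasedFunctor.comp f g))) :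
    AlgSt.RepByAlgSpWith P (FibCat.diag f) := by
  let i : FibCat.diag (BasedFunctor.comp f g) ≅ BasedFunctor.comp (FibCat.diag f) (cmp f f g) :=
    BasedNatIso.mkNatIso
      (NatIso.ofComponents (fun x => fpIsoMk (Iso.refl _) (Iso.refl _) (by
        show g.map (f.map (𝟙 _)) ≫ g.map (𝟙 _) = 𝟙 _ ≫ g.map (f.map (𝟙 _))
        simp)) (fun {x y} φ => fp_hom_ext
          (by show φ ≫ 𝟙 _ = 𝟙 _ ≫ φ; simp) (by show φ ≫ 𝟙 _ = 𝟙 _ ≫ φ; simp)))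
      (fun x => @isHomLift_of_fst _ _ _ _ _ _ _ _ _ _ _ _ _ (IsHomLift.id rfl))
  exact with_of_comp_of_cancel hb hcancel h𝒳 (fp_isFibGrpd h𝒳 h𝒳 h𝒴 f f) (fp_isFibGrpd h𝒳 h𝒳 h𝒵 _ _) hΔ
    (with_cmp' f f hg) (with_of_iso i hfg)

theorem with_diag_fpSnd {f : 𝒳 ⥤ᵇ 𝒴} (g : 𝒵 ⥤ᵇ 𝒴) (h : AlgSt.RepByAlgSpWith P (FibCat.diag f)) :
    AlgSt.RepByAlgSpWith P (FibCat.diag (FibCat.fpSnd f g)) :=
  (with_diag_congr (f := FibCat.fpFst g f) (f' := FibCat.fpSnd f g) (a := fpSwap f g) (b := BasedFunctor.id 𝒵)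
    (fpSwap_isEquivOver f g) isEquivOver_id (Iso.refl _)).1 (with_diag_fpFst f g h)

/-- diagonals of maps of fibre products -/
theorem with_diag_fpMap (hP : GoodP P) (h𝒳 : FibCat.IsFibGrpd 𝒳.p) (h𝒳' : FibCat.IsFibGrpd 𝒳'.p)
    (h𝒴 : FibCat.IsFibGrpd 𝒴.p) (h𝒵 : FibCat.IsFibGrpd 𝒵.p)
    (p' : 𝒳' ⥤ᵇ 𝒵) (q' : 𝒴' ⥤ᵇ 𝒵) {x : 𝒳 ⥤ᵇ 𝒳'} {y : 𝒴 ⥤ᵇ 𝒴'}
    (hx : AlgSt.RepByAlgSpWith P (FibCat.diag x)) (hy : AlgSt.RepByAlgSpWith P (FibCat.diag y)) :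
    AlgSt.RepByAlgSpWith P (FibCat.diag (fpMap (F := BasedFunctor.comp x p') (G := BasedFunctor.comp y q') (F' := p')
      (G' := q') (a := x) (b := y) (s := BasedFunctor.id 𝒵) (Iso.refl _) (Iso.refl _))) := by
  let M₁ := fpMap (F := BasedFunctor.comp x p') (G := BasedFunctor.comp y q') (F' := p')
    (G' := BasedFunctor.comp y q') (a := x) (b := BasedFunctor.id 𝒴)
    (s := BasedFunctor.id 𝒵) (Iso.refl _) (Iso.refl _)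
  let M₂ := fpMap (F := p') (G := BasedFunctor.comp y q') (F' := p') (G' := q') (a := BasedFunctor.id 𝒳') (b := y)
    (s := BasedFunctor.id 𝒵) (Iso.refl _) (Iso.refl _)
  obtain ⟨E₁, hE₁, -, ⟨β₁⟩⟩ := exists_inverse (pasteL_isEquivOver x p' (BasedFunctor.comp y q'))
  have h1 : AlgSt.RepByAlgSpWith P (FibCat.diag M₁) :=
    (with_diag_congr (f := FibCat.fpSnd x (FibCat.fpFst p' (BasedFunctor.comp y q'))) (f' := M₁) (a := E₁)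
      (b := BasedFunctor.id _) hE₁ isEquivOver_id
      (wrIso β₁.symm M₁ ≪≫ wlIso E₁ (pasteLMapIso x p' (BasedFunctor.comp y q')))).1 (with_diag_fpSnd _ hx)
  obtain ⟨E₂, hE₂, -, ⟨β₂⟩⟩ := exists_inverse (pasteR_isEquivOver p' q' y)
  have h2 : AlgSt.RepByAlgSpWith P (FibCat.diag M₂) :=
    (with_diag_congr (f := FibCat.fpFst (FibCat.fpSnd p' q') y) (f' := M₂) (a := E₂)
      (b := BasedFunctor.id _) hE₂ isEquivOver_id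
      (wrIso β₂.symm M₂ ≪≫ wlIso E₂ (pasteRMapIso p' q' y))).1 (with_diag_fpFst y _ hy)
  let i : BasedFunctor.comp M₁ M₂ ≅ fpMap (F := BasedFunctor.comp x p') (G := BasedFunctor.comp y q') (F' := p')
      (G' := q') (a := x) (b := y) (s := BasedFunctor.id 𝒵) (Iso.refl _) (Iso.refl _) :=
    BasedNatIso.mkNatIso
      (NatIso.ofComponents (fun Q => fpIsoMk (Iso.refl _) (Iso.refl _) (by
        show p'.map (𝟙 _) ≫ (𝟙 _ ≫ Q.obj.iso.hom ≫ 𝟙 _) =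
          (𝟙 _ ≫ (𝟙 _ ≫ Q.obj.iso.hom ≫ 𝟙 _) ≫ 𝟙 _) ≫ q'.map (𝟙 _)
        simp
        exact (Category.comp_id _).symm)) (fun {Q Q'} φ => fp_hom_ext
          (by show x.map φ.hom.fst ≫ 𝟙 _ = 𝟙 _ ≫ x.map φ.hom.fst; simp)
          (by show y.map φ.hom.snd ≫ 𝟙 _ = 𝟙 _ ≫ y.map φ.hom.snd; simp)))
      (fun Q => @isHomLift_of_fst _ _ _ _ _ _ _ _ _ _ _ _ _ (IsHomLift.id (x.w_obj _)))
  exact with_diag_of_iso i (with_diag_comp hP (fp_isFibGrpd h𝒳 h𝒴 h𝒵 _ _) (fp_isFibGrpd h𝒳' h𝒴 h𝒵 _ _) h1 h2)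

theorem with_diag_fpLift (hP : GoodP P) (h𝒳 : FibCat.IsFibGrpd 𝒳.p) (h𝒳' : FibCat.IsFibGrpd 𝒳'.p)
    (h𝒴 : FibCat.IsFibGrpd 𝒴.p) (h𝒵 : FibCat.IsFibGrpd 𝒵.p)
    (p' : 𝒳' ⥤ᵇ 𝒵) (q' : 𝒴' ⥤ᵇ 𝒵) {x : 𝒳 ⥤ᵇ 𝒳'} {y : 𝒴 ⥤ᵇ 𝒴'}
    (e : BasedFunctor.comp (BasedFunctor.comp (FibCat.fpFst (BasedFunctor.comp x p') (BasedFunctor.comp y q')) x) p' ≅
      BasedFunctor.comp (BasedFunctor.comp (FibCat.fpSnd (BasedFunctor.comp x p') (BasedFunctor.comp y q')) y) q')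
    (he : ∀ Q, e.hom.toNatTrans.app Q = Q.obj.iso.hom)
    (hx : AlgSt.RepByAlgSpWith P (FibCat.diag x)) (hy : AlgSt.RepByAlgSpWith P (FibCat.diag y)) :
    AlgSt.RepByAlgSpWith P (FibCat.diag
      (FibCat.fpLift (BasedFunctor.comp (FibCat.fpFst (BasedFunctor.comp x p') (BasedFunctor.comp y q')) x)
        (BasedFunctor.comp (FibCat.fpSnd (BasedFunctor.comp x p') (BasedFunctor.comp y q')) y) e)) := by
  refine with_diag_of_iso ?_ (with_diag_fpMap hP h𝒳 h𝒳' h𝒴 h𝒵 p' q' hx hy)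
  exact BasedNatIso.mkNatIso
      (NatIso.ofComponents (fun Q => fpIsoMk (Iso.refl _) (Iso.refl _) (by
        show p'.map (𝟙 _) ≫ e.hom.toNatTrans.app Q = (𝟙 _ ≫ Q.obj.iso.hom ≫ 𝟙 _) ≫ q'.map (𝟙 _)
        rw [he]
        simp
        exact (Category.comp_id _).symm)) (fun {Q Q'} φ => fp_hom_ext
          (by show x.map φ.hom.fst ≫ 𝟙 _ = 𝟙 _ ≫ x.map φ.hom.fst; simp)
          (by show y.map φ.hom.snd ≫ 𝟙 _ = 𝟙 _ ≫ y.map φ.hom.snd; simp)))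
      (fun Q => @isHomLift_of_fst _ _ _ _ _ _ _ _ _ _ _ _ _ (IsHomLift.id (x.w_obj _)))

end Groth.Agent.StAlg16
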