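import Groth.Agent.Lib.StAlg16.GoodSquares
import Groth.Agent.Lib.AlgSpDescent.LocalST
import Groth.Agent.Lib.AlgSpDescent.SrcInstances
import Groth.Agent.Lib.StAlg.Descent

/-! Chart properties that are smooth local on source and target. -/

universe u

open CategoryTheory CategoryTheory.Functor CategoryTheory.Limits AlgebraicGeometry Opposite

set_option linter.style.haveILetI false
set_option linter.unusedSectionVars false
set_option backward.isDefEq.respectTransparency false
set_option backward.isDefEq.respectTransparency.types false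

namespace Groth.Agent.StAlg16

open AlgSp Groth.Agent.AlgSpace Groth.Agent.AlgSpDescent

variable {S : Scheme.{u}}

theorem isFppfCover_of_isSmCover {ι : Type u} {X : Sp S} {Xi : ι → Sp S} {g : ∀ i, Xi i ⟶ X}
    (h : IsSmCover Xi g) : IsFppfCover Xi g :=
  ⟨fun i => ⟨AlgSpace.locP_mono StAlg.smooth_le_flat (h.1 i), AlgSpace.locP_mono StAlg.smooth_le_lfp (h.1 i)⟩, h.2⟩

theorem isSmoothLocalST_locP {R : MorphismProperty Scheme.{u}} [EtaleLocal R] [IsZariskiLocalAtSource R]
    [IsZariskiLocalAtTarget R] [R.DescendsAlong (@Surjective ⊓ @Flat ⊓ @QuasiCompact)]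
    (hpre : PrecompEtale R) (hsm : (@Smooth : MorphismProperty Scheme.{u}) ≤ R)
    (hdesc : ∀ ⦃A B C : Scheme.{u}⦄ (a : A ⟶ B) (b : B ⟶ C), Smooth a → Surjective a → R (a ≫ b) → R b) :
    IsSmoothLocalST (LocP (S := S) R) := by
  refine isSmoothLocalST_of_local _ ?_ ?_ ?_
  · exact isLocalOnSource_locP hpre EtaleLocal.descends precompEtale_smooth AlgSpDescent.descendsEtaleSource_smooth
      (fun _ _ _ a b ha hb => MorphismProperty.comp_mem (W := R) a b (hsm _ _ _ ha) hb)
      hdesc fun _ _ _ _ _ _ hg => hg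
  · intro ι Y Yi g hY hYi hg
    exact StAlg.isLocalOnBase_fppf_of_fpqc (isLocalOnBase_fpqc_locP hpre EtaleLocal.descends) Yi g hY hYi
      (isFppfCover_of_isSmCover hg)
  · exact fun X Y Z hX hY hZ f g hf hg => locP_comp hX hY hZ hf (AlgSpace.locP_mono hsm hg)

theorem isSmoothLocalST_flat : IsSmoothLocalST (LocP (S := S) @Flat) :=
  isSmoothLocalST_locP precompEtale_flat StAlg.smooth_le_flat
    fun _ _ _ a b _ _ h => @flat_of_comp_flat_surjective _ _ _ a b inferInstance ‹_› h

theorem isSmoothLocalST_smooth : IsSmoothLocalST (LocP (S := S) @Smooth) :=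
  isSmoothLocalST_locP precompEtale_smooth le_rfl fun _ _ _ a b h1 h2 h => smooth_of_smooth_surjective_comp a b h1 h2 h

theorem isSmoothLocalST_lft : IsSmoothLocalST (LocP (S := S) @LocallyOfFiniteType) :=
  isSmoothLocalST_locP precompEtale_lft StAlg.smooth_le_lft fun _ _ _ a b h1 h2 h =>
    descends_smooth_surjective_of_ring _ (fun A B C _ _ _ _ _ _ _ _ _ h => by
      rw [RingHom.finiteType_algebraMap] at h ⊢
      exact finiteType_of_smooth_faithfullyFlat A B C) a b h1 h2 h

theorem isSmoothLocalST_lfp : IsSmoothLocalST (LocP (S := S) @LocallyOfFinitePresentation) :=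
  isSmoothLocalST_locP precompEtale_lfp StAlg.smooth_le_lfp fun _ _ _ a b h1 h2 h =>
    descends_smooth_surjective_of_ring _ (fun A B C _ _ _ _ _ _ _ _ _ h => by
      rw [RingHom.finitePresentation_algebraMap] at h ⊢
      exact finitePresentation_of_smooth_faithfullyFlat A B C) a b h1 h2 h

theorem isLocalOnBase_fppf_locP_flat : IsLocalOnBase (IsFppfCover (S := S)) (LocP @Flat) :=
  StAlg.isLocalOnBase_fppf_of_fpqc (isLocalOnBase_fpqc_locP precompEtale_flat descendsEtaleSource_flat)

theorem isLocalOnBase_fppf_locP_lfp : IsLocalOnBase (IsFppfCover (S := S)) (LocP @LocallyOfFinitePresentation) :=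
  StAlg.isLocalOnBase_fppf_of_fpqc
    (isLocalOnBase_fpqc_locP precompEtale_lfp descendsEtaleSource_locallyOfFinitePresentation)

theorem locP_yon_iff {R : MorphismProperty Scheme.{u}} [EtaleLocal R] {U V : Over S} (k : U ⟶ V) :
    LocP R ((yon S).map k) ↔ R k.left :=
  ⟨fun h => (repWith_yon_map_iff R k).1 (repWith_of_locP (IsAlgSpace.yon_obj V)
    ((repWith_yon_map_iff ⊤ k).2 (by trivial)).1 h),
   fun h => locP_of_repWith (IsAlgSpace.yon_obj V) ((repWith_yon_map_iff R k).2 h)⟩

theorem isFppfCover_yon {U V : Over S} (k : U ⟶ V) [Flat k.left] [LocallyOfFinitePresentation k.left]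
    (hs : Function.Surjective k.left) :
    IsFppfCover (fun _ : PUnit.{u + 1} => (yon S).obj U) fun _ => (yon S).map k := by
  refine ⟨fun _ => ⟨(locP_yon_iff k).2 inferInstance, (locP_yon_iff k).2 inferInstance⟩, fun x => ?_⟩
  obtain ⟨t, rfl⟩ := (Points.schemeHomeo V).surjective x
  obtain ⟨s, rfl⟩ := hs t
  exact ⟨PUnit.unit, Points.schemeHomeo U s, Points.map_yon_map_apply k s⟩

end Groth.Agent.StAlg16
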