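import Groth.Agent.Lib.StAlg16.CutOut
import Groth.Agent.Lib.StAlg16.SmoothLocal
import Groth.Agent.Lib.StAlg16.LocPInst
import Groth.Agent.Lib.AlgSpace.FlatQuot
import Groth.Agent.Lib.AlgSpace.Sub
import Groth.Agent.Lib.AlgSpDescent.RepBase2
import Groth.Agent.Lib.AlgSpDescent.RedNoeth
import Groth.Agent.Lib.AlgSpDecent.RedInduced
import Groth.Agent.Lib.H12.FlatComp

/-! The reduced induced closed substack on a closed set of points. -/

universe u

open CategoryTheory CategoryTheory.Functor CategoryTheory.Limits AlgebraicGeometry Opposite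

set_option linter.style.haveILetI false
set_option linter.unusedSectionVars false
set_option backward.isDefEq.respectTransparency false
set_option backward.isDefEq.respectTransparency.types false

namespace Groth.Agent.StAlg16

open Groth.Agent.FC16 Groth.Agent.StAlg AlgSt

variable {S : Scheme.{u}} {𝒳 : AlgSt.Cat S}

section Subsheaf

variable {U W : Over S} (k : W ⟶ U) (C : ∀ ⦃T : Over S⦄, (T ⟶ U) → Prop)

/-- a monomorphism-like subsheaf of a scheme which is closed after a smooth covering is a closed subscheme -/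
theorem exists_closed_of_locally [Smooth k.left] [Surjective k.left]
    (hmap : ∀ ⦃T T' : Over S⦄ (a : T' ⟶ T) (g : T ⟶ U), C g → C (a ≫ g))
    (hloc : ∀ ⦃T : Over S⦄ (g : T ⟶ U) (R : Sieve T), R ∈ AlgSp.J S T → (∀ ⦃T'⦄ (a : T' ⟶ T), R a → C (a ≫ g)) → C g)
    {Z : Over S} (ι : Z ⟶ W) (hι : IsClosedImmersion ι.left)
    (hC : ∀ ⦃T : Over S⦄ (g : T ⟶ W), C (g ≫ k) ↔ ∃ l : T ⟶ Z, l ≫ ι = g) :
    ∃ (Z' : Over S) (ι' : Z' ⟶ U), IsClosedImmersion ι'.left ∧ Mono ι' ∧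
      ∀ ⦃T : Over S⦄ (g : T ⟶ U), C g ↔ ∃ l : T ⟶ Z', l ≫ ι' = g := by
  haveI := hι
  haveI : Mono ι := (Over.forget S).mono_of_mono_map (inferInstanceAs (Mono ι.left))
  let A : Subfunctor ((AlgSp.yon S).obj U).obj :=
    { obj := fun T => {x | C x.down}
      map := fun {T T'} a x hx => hmap a.unop x.down hx }
  have hA : Presieve.IsSheaf (AlgSp.J S) A.toFunctor := by
    refine (Subfunctor.isSheaf_iff _ ((isSheaf_iff_isSheaf_of_type _ _).1 ((AlgSp.yon S).obj U).property)).2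
      fun T s hs => ?_
    exact hloc s.down _ hs fun T' a ha => ha
  let F : AlgSp.Sp S := ⟨A.toFunctor, (isSheaf_iff_isSheaf_of_type _ _).2 hA⟩
  let m : F ⟶ (AlgSp.yon S).obj U := ObjectProperty.homMk A.ι
  haveI : Mono m := by
    haveI : Mono ((sheafToPresheaf (AlgSp.J S) (Type (u + 1))).map m) := inferInstanceAs (Mono A.ι)
    exact (sheafToPresheaf (AlgSp.J S) (Type (u + 1))).mono_of_mono_map this
  have fac : ∀ ⦃T : Over S⦄ (g : T ⟶ U), C g ↔ ∃ l : (AlgSp.yon S).obj T ⟶ F, l ≫ m = (AlgSp.yon S).map g := by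
    intro T g
    constructor
    · intro hg
      refine ⟨(AlgSpace.sect (T := T) (F := F)).symm ⟨ULift.up g, hg⟩, ?_⟩
      apply (AlgSpace.sect (T := T)).injective
      rw [GrothendieckTopology.uliftYonedaEquiv_comp, Equiv.apply_symm_apply]
      show ULift.up g = _
      exact congrArg ULift.up (Category.id_comp g).symm
    · rintro ⟨l, hl⟩
      have e := congrArg (AlgSpace.sect (T := T)) hl
      rw [GrothendieckTopology.uliftYonedaEquiv_comp] at e
      have h := (AlgSpace.sect (T := T) (F := F) l).2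
      have e' : ((AlgSpace.sect (T := T) (F := F) l).1 : ULift (T ⟶ U)).down = 𝟙 T ≫ g := congrArg ULift.down e
      rw [Category.id_comp] at e'
      rw [← e']
      exact h
  obtain ⟨q, hq⟩ := (fac (ι ≫ k)).1 ((hC ι).2 ⟨𝟙 Z, Category.id_comp ι⟩)
  have sq : IsPullback q ((AlgSp.yon S).map ι) m ((AlgSp.yon S).map k) := by
    haveI : Mono ((AlgSp.yon S).map ι) := inferInstance
    refine AlgSpace.isPullback_of_mono_lifts (hq.trans ((AlgSp.yon S).map_comp ι k)) fun T b a hab => ?_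
    obtain ⟨b', rfl⟩ := (AlgSp.yon S).map_surjective b
    obtain ⟨l, hl⟩ := (hC b').1 ((fac _).2 ⟨a, hab.trans ((AlgSp.yon S).map_comp b' k).symm⟩)
    exact ⟨(AlgSp.yon S).map l, by rw [← Functor.map_comp, hl]⟩
  have hp : AlgSp.RepBySpWith (AlgSp.IsSurjectiveMor ⊓ AlgSp.LocP @Flat ⊓ AlgSp.LocP @LocallyOfFinitePresentation)
      q.hom := by
    intro T ξ F' fst snd sqT
    let ξ' : (AlgSp.yon S).obj T ⟶ F := ObjectProperty.homMk ξ
    obtain ⟨g, hg⟩ := (AlgSp.yon S).map_surjective (ξ' ≫ m)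
    have sqP : IsPullback (pullback.fst k g) (pullback.snd k g) k g := IsPullback.of_hasPullback k g
    let P := pullback k g
    have sqK : IsPullback ((AlgSp.yon S).map (pullback.fst k g)) ((AlgSp.yon S).map (pullback.snd k g))
        ((AlgSp.yon S).map k) ((AlgSp.yon S).map g) := sqP.map (AlgSp.yon S)
    obtain ⟨l, hl⟩ : ∃ l : P ⟶ Z, l ≫ ι = pullback.fst k g := (hC _).1 ((fac _).2
      ⟨(AlgSp.yon S).map (pullback.snd k g) ≫ ξ', by
        rw [Category.assoc, ← hg, ← Functor.map_comp, sqP.w]⟩)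
    have hw : (AlgSp.yon S).map l ≫ q = (AlgSp.yon S).map (pullback.snd k g) ≫ ξ' := by
      rw [← cancel_mono m, Category.assoc, Category.assoc, hq, ← Functor.map_comp, ← hg, ← Functor.map_comp,
        reassoc_of% hl, sqP.w]
    have sq' : IsPullback ((AlgSp.yon S).map l) ((AlgSp.yon S).map (pullback.snd k g)) q ξ' := by
      refine IsPullback.of_right ?_ hw sq.flip
      rw [← Functor.map_comp, hl, ← hg]
      exact sqK
    let e := sqT.isoIsPullback _ _ (sq'.map (sheafToPresheaf (AlgSp.J S) (Type (u + 1))))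
    have hF' : Presheaf.IsSheaf (AlgSp.J S) F' :=
      (Presheaf.isSheaf_of_iso_iff e).2 ((AlgSp.yon S).obj P).property
    let e' : (⟨F', hF'⟩ : AlgSp.Sp S) ≅ (AlgSp.yon S).obj P :=
      (fullyFaithfulSheafToPresheaf (AlgSp.J S) (Type (u + 1))).preimageIso e
    have hsnd : (ObjectProperty.homMk snd : (⟨F', hF'⟩ : AlgSp.Sp S) ⟶ (AlgSp.yon S).obj T) =
        e'.hom ≫ (AlgSp.yon S).map (pullback.snd k g) := by
      apply ObjectProperty.hom_ext
      exact (sqT.isoIsPullback_hom_snd _ _ (sq'.map (sheafToPresheaf (AlgSp.J S) (Type (u + 1))))).symm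
    have hPsp := AlgSp.IsAlgSpace.yon_obj P
    have hTsp := AlgSp.IsAlgSpace.yon_obj T
    haveI : Smooth (pullback.snd k g).left :=
      MorphismProperty.of_isPullback (P := @Smooth) (sqP.map (Over.forget S)) ‹_›
    haveI : Surjective (pullback.snd k g).left :=
      MorphismProperty.of_isPullback (P := @Surjective) (sqP.map (Over.forget S)) ‹_›
    have hA' : AlgSp.IsAlgSpace (⟨F', hF'⟩ : AlgSp.Sp S) := (AlgSp.isAlgSpace_iff_of_iso e').2 hPsp
    refine ⟨hF', hA', ?_⟩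
    rw [hsnd]
    have hs1 : AlgSp.RepWith @Surjective (e'.hom ≫ (AlgSp.yon S).map (pullback.snd k g)) :=
      (AlgSpace.repWith_respectsIso_left e'.hom).2 ((AlgSp.repWith_yon_map_iff _ _).2 ‹_›)
    exact ⟨⟨AlgSpace.surjective_map_of_repWith hs1,
      AlgSpace.locP_of_repWith hTsp ((AlgSpace.repWith_respectsIso_left e'.hom).2
        ((AlgSp.repWith_yon_map_iff _ _).2 (inferInstanceAs (Flat (pullback.snd k g).left))))⟩,
      AlgSpace.locP_of_repWith hTsp ((AlgSpace.repWith_respectsIso_left e'.hom).2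
        ((AlgSp.repWith_yon_map_iff _ _).2
          (inferInstanceAs (LocallyOfFinitePresentation (pullback.snd k g).left))))⟩
  have hF : AlgSp.IsAlgSpace F := AlgSpace.isAlgSpace_of_repBySp_fppf q (AlgSp.IsAlgSpace.yon_obj Z) hp
  have hm : AlgSp.RepWith @IsClosedImmersion m :=
    (isLocalOnBase_fppf_of_fpqc AlgSpDescent.isLocalOnBase_fpqc_repWith_isClosedImmersion
      (fun _ : PUnit.{u + 1} => (AlgSp.yon S).obj W) (fun _ => (AlgSp.yon S).map k) (AlgSp.IsAlgSpace.yon_obj U)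
      (fun _ => AlgSp.IsAlgSpace.yon_obj W) (isFppfCover_yon k k.left.surjective) m hF (fun _ => (AlgSp.yon S).obj Z)
      (fun _ => (AlgSp.yon S).map ι) (fun _ => q) (fun _ => AlgSp.IsAlgSpace.yon_obj Z) fun _ => sq).2
      fun _ => (AlgSp.repWith_yon_map_iff _ _).2 hι
  have sq₁ := hm.1.isPullback (𝟙 ((AlgSp.yon S).obj U))
  haveI := sq₁.isIso_fst_of_isIso
  let ι' := hm.1.snd (𝟙 ((AlgSp.yon S).obj U))
  have hι' : IsClosedImmersion ι'.left := hm.2 _ _ _ sq₁
  haveI := hι'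
  refine ⟨_, ι', hι', (Over.forget S).mono_of_mono_map (inferInstanceAs (Mono ι'.left)), fun T g => ?_⟩
  rw [fac g]
  constructor
  · rintro ⟨l, hl⟩
    obtain ⟨l', hl'⟩ := (AlgSp.yon S).map_surjective (l ≫ inv (hm.1.fst (𝟙 _)))
    refine ⟨l', (AlgSp.yon S).map_injective ?_⟩
    rw [Functor.map_comp, hl', Category.assoc, ← hl]
    congr 1
    rw [IsIso.inv_comp_eq, sq₁.w, Category.comp_id]
  · rintro ⟨l, rfl⟩
    exact ⟨(AlgSp.yon S).map l ≫ hm.1.fst (𝟙 _), by rw [Category.assoc, sq₁.w, Category.comp_id, Functor.map_comp]⟩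

end Subsheaf

/-- `b` factors through `z` -/
def Factors {Z V : Over S} (z : Z ⟶ V) {T : Over S} (g : T ⟶ V) : Prop := ∃ l : T ⟶ Z, l ≫ z = g

theorem factors_of_locally {Z V : Over S} (z : Z ⟶ V) [Mono z] {T : Over S} (g : T ⟶ V) {R : Sieve T}
    (hR : R ∈ QuotSh.J Scheme.fppfPrecoverage S T) (h : ∀ ⦃T'⦄ (a : T' ⟶ T), R a → Factors z (a ≫ g)) :
    Factors z g := by
  choose lift lift_fac using h
  have hZ : Presieve.IsSheaf (QuotSh.J Scheme.fppfPrecoverage S) (yoneda.obj Z) :=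
    (isStack_overCat_iff _ _).1 (isAlgStack_overCat Z).isStack
  have hV : Presieve.IsSheaf (QuotSh.J Scheme.fppfPrecoverage S) (yoneda.obj V) :=
    (isStack_overCat_iff _ _).1 (isAlgStack_overCat V).isStack
  let fam : Presieve.FamilyOfElements (yoneda.obj Z) R.arrows := fun V' f hf => lift f hf
  have hfam : fam.Compatible := fun Y₁ Y₂ V' g₁ g₂ f₁ f₂ h₁ h₂ e => by
    show g₁ ≫ lift f₁ h₁ = g₂ ≫ lift f₂ h₂
    rw [← cancel_mono z, Category.assoc, Category.assoc, lift_fac f₁ h₁, lift_fac f₂ h₂, reassoc_of% e]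
  refine ⟨(hZ R hR).amalgamate fam hfam, (hV R hR).isSeparatedFor.ext fun V' f hf => ?_⟩
  show f ≫ (hZ R hR).amalgamate fam hfam ≫ z = f ≫ g
  have e : f ≫ (hZ R hR).amalgamate fam hfam = lift f hf := (hZ R hR).valid_glue hfam f hf
  rw [reassoc_of% e, lift_fac f hf]

section Red

variable {V Z : Over S} (v : FibCat.overCat V ⥤ᵇ 𝒳) (z : Z ⟶ V)

/-- objects all whose lifts to the chart factor through `z` -/
def RedQ (a : 𝒳.obj) : Prop := ∀ (b : (FibCat.overCat V).obj) (_ : v.obj b ⟶ a), Factors z b.hom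

theorem redQ_closedUnderIso : ObjectProperty.IsClosedUnderIsomorphisms (RedQ v z) :=
  ⟨fun e h b ψ => h b (ψ ≫ e.inv)⟩

theorem redQ_of_hom {a b : 𝒳.obj} (φ : a ⟶ b) (h : RedQ v z b) : RedQ v z a := fun c ψ => h c (ψ ≫ φ)

variable {v z} {T : Set (Points 𝒳)}

theorem redQ_chart_iff [Mono z] [IsClosedImmersion z.left] (hv : AlgSt.RepByAlgSpWith (AlgSp.LocP @Smooth) v)
    (h𝒳 : IsAlgStack Scheme.fppfPrecoverage 𝒳) (hz : Set.range z.left = Points.ofChart v ⁻¹' T)
    (hred : IsReduced Z.left) (b₀ : (FibCat.overCat V).obj) : RedQ v z (v.obj b₀) ↔ Factors z b₀.hom := by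
  have gX := h𝒳.isStack.1
  refine ⟨fun h => h b₀ (𝟙 _), ?_⟩
  rintro ⟨l₀, hl₀⟩ b ψ
  let k₀ : b.left ⟶ b₀.left := eqToHom (v.w_obj b).symm ≫ 𝒳.p.map ψ ≫ eqToHom (v.w_obj b₀)
  haveI h1 : 𝒳.p.IsHomLift k₀ ψ := IsHomLift.of_fac 𝒳.p k₀ ψ (v.w_obj b) (v.w_obj b₀) rfl
  let g : (AlgSt.overMap (k₀ ≫ l₀ ≫ z)).obj (Over.mk (𝟙 b.left)) ⟶ b₀ := Over.homMk k₀ (by
    show k₀ ≫ b₀.hom = 𝟙 _ ≫ k₀ ≫ l₀ ≫ z
    rw [Category.id_comp, hl₀])
  haveI h2 : 𝒳.p.IsHomLift k₀ (v.map g) := map_over_lift v g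
  obtain ⟨e, he, -⟩ := exists_iso_of_lifts gX k₀ ψ (v.map g)
  let o : (BasedFunctor.comp (AlgSt.overMap b.hom) v).obj (Over.mk (𝟙 b.left)) ≅
      (BasedFunctor.comp (AlgSt.overMap (k₀ ≫ l₀ ≫ z)) v).obj (Over.mk (𝟙 b.left)) :=
    (v.toFunctor.mapIso (Over.isoMk (Iso.refl _) (by
      show 𝟙 _ ≫ b.hom = 𝟙 _ ≫ b.hom
      rfl) : (AlgSt.overMap b.hom).obj (Over.mk (𝟙 b.left)) ≅ b)) ≪≫ e
  have hlift : 𝒳.p.IsHomLift (𝟙 b.left) o.hom := by
    haveI := he
    let c₁ : (AlgSt.overMap b.hom).obj (Over.mk (𝟙 b.left)) ⟶ b := Over.homMk (𝟙 b.left) (by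
        show 𝟙 _ ≫ b.hom = 𝟙 _ ≫ b.hom
        rfl)
    haveI : 𝒳.p.IsHomLift (𝟙 b.left) (v.map c₁) := map_over_lift v c₁
    exact inferInstanceAs (𝒳.p.IsHomLift (𝟙 b.left) (v.map c₁ ≫ e.hom))
  obtain ⟨i, -⟩ := exists_iso (presCart_of_isFibGrpd gX (BasedFunctor.comp (AlgSt.overMap b.hom) v))
    (presCart_of_isFibGrpd gX (BasedFunctor.comp (AlgSt.overMap (k₀ ≫ l₀ ≫ z)) v)) o hlift
  have gVV := fp_isFibGrpd (overCat_isFibGrpd V) (overCat_isFibGrpd V) gX v v
  obtain ⟨M, m, hm, hms⟩ :=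
    (StAlg.isAlgStack_fp h𝒳.isStack h𝒳.diag (isAlgStack_overCat V) (isAlgStack_overCat V) v v).atlas
  obtain ⟨pr, ⟨jpr⟩⟩ := exists_overMap_iso (BasedFunctor.comp m (FibCat.fpFst v v))
  obtain ⟨q, ⟨jq⟩⟩ := exists_overMap_iso (BasedFunctor.comp m (FibCat.fpSnd v v))
  haveI : Smooth q.left := of_with_locP_overMap q
    (with_of_iso jq (with_comp goodP_locP (overCat_isFibGrpd M) gVV hm (with_fpSnd v hv)))
  let t : FibCat.overCat b.left ⥤ᵇ FibCat.fp v v :=
    FibCat.fpLift (AlgSt.overMap b.hom) (AlgSt.overMap (k₀ ≫ l₀ ≫ z)) i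
  obtain ⟨W, k, h, ⟨ik⟩, hsq, hP⟩ := exists_chart_square gVV (repByAlgSp1_of_with hm) b.left t
  haveI : Smooth k.left := (hP @Smooth).1 hm
  haveI : Surjective k.left := ⟨fun s => by
    obtain ⟨o', ho'⟩ := surjective_ofChart gVV hms (Points.ofChart t s)
    obtain ⟨w, hw, -⟩ := hsq s o' ho'.symm
    exact ⟨w, hw⟩⟩
  have e1 : k ≫ b.hom = h ≫ pr := eq_of_overMap_iso ((overMapComp k b.hom).symm ≪≫
    wrIso ik (FibCat.fpFst v v) ≪≫ wlIso (AlgSt.overMap h) jpr ≪≫ overMapComp h pr)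
  have e2 : k ≫ k₀ ≫ l₀ ≫ z = h ≫ q := eq_of_overMap_iso ((overMapComp k (k₀ ≫ l₀ ≫ z)).symm ≪≫
    wrIso ik (FibCat.fpSnd v v) ≪≫ wlIso (AlgSt.overMap h) jq ≪≫ overMapComp h q)
  haveI : IsReduced Z.left := hred
  have sqP : IsPullback (pullback.fst q z) (pullback.snd q z) q z := IsPullback.of_hasPullback q z
  haveI : Smooth (pullback.snd q z).left :=
    MorphismProperty.of_isPullback (P := @Smooth) (sqP.map (Over.forget S)) ‹_›
  haveI : IsReduced (pullback q z).left := AlgSpDescent.isReduced_of_smooth (pullback.snd q z).left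
  have hpts : ∀ o : ↥M.left, Points.ofChart v (pr.left o) = Points.ofChart v (q.left o) := fun o => by
    rw [← ofChart_overMap, ← ofChart_overMap, ← ofChart_congr (wrIso jpr v), ← ofChart_congr (wrIso jq v)]
    exact congrFun (ofChart_congr (wlIso m (FibCat.fpIso v v))) o
  obtain ⟨g', hg'⟩ := RedSepLib.exists_lift_of_range_subset ((pullback.fst q z).left ≫ pr.left) z.left (by
    rintro _ ⟨r, rfl⟩
    rw [hz, Set.mem_preimage, Scheme.Hom.comp_apply, hpts]
    have e : q.left ((pullback.fst q z).left r) = z.left ((pullback.snd q z).left r) := by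
      rw [← Scheme.Hom.comp_apply, ← Scheme.Hom.comp_apply, ← Over.comp_left, sqP.w, Over.comp_left]
    rw [e]
    exact hz.le ⟨_, rfl⟩)
  let l' : pullback q z ⟶ Z := Over.homMk g' (by
    rw [← Over.w z, reassoc_of% hg', Over.w pr, Over.w (pullback.fst q z)])
  have hl' : l' ≫ z = pullback.fst q z ≫ pr := Over.OverMorphism.ext hg'
  have hW : Factors z (k ≫ b.hom) := ⟨sqP.lift h (k ≫ k₀ ≫ l₀) (by rw [← e2]; simp only [Category.assoc]) ≫ l', by
    rw [Category.assoc, hl', IsPullback.lift_fst_assoc, e1]⟩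
  refine factors_of_locally z b.hom (R := Sieve.generate (Presieve.singleton k))
    (AlgSpace.mem_J_of_singleton k _ ⟨W, 𝟙 W, k, Presieve.singleton_self k, Category.id_comp k⟩) fun T' a ha => ?_
  obtain ⟨W', r, g₀, hg₀, rfl⟩ := ha
  cases hg₀
  obtain ⟨lW, hlW⟩ := hW
  exact ⟨r ≫ lW, by rw [Category.assoc, hlW, Category.assoc]⟩

theorem redQ_cutOut [Mono z] [IsClosedImmersion z.left] (hv : AlgSt.RepByAlgSpWith (AlgSp.LocP @Smooth) v)
    (hvs : AlgSt.RepByAlgSpWith AlgSp.IsSurjectiveMor v)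
    (h𝒳 : IsAlgStack Scheme.fppfPrecoverage 𝒳) (hz : Set.range z.left = Points.ofChart v ⁻¹' T)
    (hred : IsReduced Z.left) : CutOut @IsClosedImmersion (RedQ v z) := by
  intro U y
  have gX := h𝒳.isStack.1
  haveI hiso := redQ_closedUnderIso v z
  obtain ⟨W, k, h, ⟨i⟩, hsq, hP⟩ := exists_chart_square gX (repByAlgSp1_of_with hv) U y
  haveI : Smooth k.left := (hP @Smooth).1 hv
  haveI : Surjective k.left := ⟨fun t => by
    obtain ⟨s, hs⟩ := surjective_ofChart gX hvs (Points.ofChart y t)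
    obtain ⟨o, ho, -⟩ := hsq t s hs.symm
    exact ⟨o, ho⟩⟩
  have sqZ : IsPullback (pullback.fst h z) (pullback.snd h z) h z := IsPullback.of_hasPullback h z
  have hcl : IsClosedImmersion (pullback.fst h z).left :=
    MorphismProperty.of_isPullback (P := @IsClosedImmersion) (sqZ.map (Over.forget S)).flip ‹_›
  obtain ⟨Z', ι', hι', hm, hC⟩ := exists_closed_of_locally k (fun T g => RedQ v z (y.obj (Over.mk g)))
    (fun T T' a g hg => redQ_of_hom v z (y.map (Over.homMk a : Over.mk (a ≫ g) ⟶ Over.mk g)) hg)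
    (fun T g R hR hg b ψ => by
      let c : b.left ⟶ T := eqToHom (v.w_obj b).symm ≫ 𝒳.p.map ψ ≫ eqToHom (y.w_obj (Over.mk g))
      haveI h1 : 𝒳.p.IsHomLift c ψ := IsHomLift.of_fac 𝒳.p c ψ (v.w_obj b) (y.w_obj _) rfl
      refine factors_of_locally z b.hom (R := R.pullback c) (GrothendieckTopology.pullback_stable _ c hR)
        fun T' a ha => ?_
      let b' : (FibCat.overCat V).obj := Over.mk (a ≫ b.hom)
      let g' : (FibCat.overCat U).obj := Over.mk ((a ≫ c) ≫ g)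
      let p₁ : v.obj b' ⟶ y.obj (Over.mk g) := v.map (Over.homMk a : b' ⟶ b) ≫ ψ
      let p₂ : y.obj g' ⟶ y.obj (Over.mk g) := y.map (Over.homMk (a ≫ c) : g' ⟶ Over.mk g)
      haveI : 𝒳.p.IsHomLift (a ≫ c) p₁ := by
        haveI : 𝒳.p.IsHomLift a (v.map (Over.homMk a : b' ⟶ b)) :=
          map_over_lift v (Over.homMk a : b' ⟶ b)
        infer_instance
      haveI : 𝒳.p.IsHomLift (a ≫ c) p₂ := map_over_lift y (Over.homMk (a ≫ c) : g' ⟶ Over.mk g)
      obtain ⟨e, -, -⟩ := exists_iso_of_lifts gX (a ≫ c) p₁ p₂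
      exact hg (a ≫ c) ha b' e.hom)
    (pullback.fst h z) hcl (fun T g => by
      let bW : (FibCat.overCat W).obj := Over.mk g
      have e : y.obj (Over.mk (g ≫ k)) ≅ v.obj (Over.mk (g ≫ h)) := appIso i bW
      refine ((⟨fun hh => ObjectProperty.prop_of_iso (RedQ v z) e hh,
        fun hh => ObjectProperty.prop_of_iso (RedQ v z) e.symm hh⟩ :
          RedQ v z (y.obj (Over.mk (g ≫ k))) ↔ RedQ v z (v.obj (Over.mk (g ≫ h))))).trans
        ((redQ_chart_iff hv h𝒳 hz hred _).trans ⟨?_, ?_⟩)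
      · rintro ⟨l, hl⟩
        exact ⟨sqZ.lift g l hl.symm, sqZ.lift_fst _ _ _⟩
      · rintro ⟨l, rfl⟩
        exact ⟨l ≫ pullback.snd h z, by
          show (l ≫ pullback.snd h z) ≫ z = (l ≫ pullback.fst h z) ≫ h
          rw [Category.assoc, Category.assoc, sqZ.w]⟩)
  exact ⟨Z', ι', hι', hm, fun b => hC b.hom⟩

end Red

theorem smoothLocalProp_isReduced : SmoothLocalProp (fun X : Scheme.{u} => IsReduced X) := by
  intro U R hR
  obtain ⟨κ, X, f, rfl⟩ := R.exists_eq_ofArrows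
  obtain ⟨h1, h2⟩ := (Scheme.ofArrows_mem_precoverage_iff _).1 hR
  refine ⟨fun hU V g hg => ?_, fun h => ?_⟩
  · obtain ⟨i⟩ := hg
    haveI : Smooth (f i) := h2 i
    haveI : IsReduced U := hU
    exact AlgSpDescent.isReduced_of_smooth (f i)
  · have : ∀ y : U, _root_.IsReduced (U.presheaf.stalk y) := fun y => by
      obtain ⟨i, x, rfl⟩ := h1 y
      haveI : Smooth (f i) := h2 i
      haveI : IsReduced (X i) := h (f i) ⟨i⟩
      exact isReduced_of_injective _ (H12.faithfullyFlat_stalkMap (f i) x (Flat.stalkMap (f i) x)).injective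
    exact isReduced_of_isReduced_stalk U

/-- the reduced induced closed substack -/
theorem exists_reduced_closedSubstack (h𝒳 : IsAlgStack Scheme.fppfPrecoverage 𝒳) (T : Set (Points 𝒳))
    (hT : IsClosed T) :
    ∃ Q : 𝒳.obj → Prop, AlgSt.IsClosedSubstack 𝒳 Q Scheme.fppfPrecoverage ∧
      Set.range (Points.map (AlgSt.subIncl 𝒳 Q)) = T ∧
      AlgSt.SmoothLocally (fun X => IsReduced X) (AlgSt.fullSub 𝒳 Q) := by
  have gX := h𝒳.isStack.1
  obtain ⟨V, v, hv, hvs⟩ := h𝒳.atlas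
  let C : TopologicalSpace.Closeds V.left :=
    ⟨Points.ofChart v ⁻¹' T, hT.preimage (continuous_ofChart h𝒳 v)⟩
  let I := Scheme.IdealSheafData.vanishingIdeal C
  let Z : Over S := Over.mk (I.subschemeι ≫ V.hom)
  let z : Z ⟶ V := Over.homMk I.subschemeι rfl
  haveI : IsClosedImmersion z.left := inferInstanceAs (IsClosedImmersion I.subschemeι)
  haveI : Mono z := (Over.forget S).mono_of_mono_map (inferInstanceAs (Mono z.left))
  have hred : IsReduced Z.left := RedSepLib.isReduced_vanishingIdeal_subscheme C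
  have hz : Set.range z.left = Points.ofChart v ⁻¹' T := by
    show Set.range I.subschemeι = _
    rw [Scheme.IdealSheafData.range_subschemeι, Scheme.IdealSheafData.coe_support_vanishingIdeal]
    rfl
  have hiso := redQ_closedUnderIso v z
  haveI := hiso
  have hQ := redQ_cutOut hv hvs h𝒳 hz hred
  have hA := hQ.isAlgStack h𝒳 hiso
  obtain ⟨Z', ι', E, (hι' : IsClosedImmersion ι'.left), hE, he, hfac⟩ := hQ.exists_fp h𝒳 hiso v
  refine ⟨RedQ v z, ⟨hiso, hA, hQ.with_subIncl h𝒳 hiso⟩, ?_, ?_⟩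
  · ext p
    constructor
    · rintro ⟨w, rfl⟩
      obtain ⟨o, ho⟩ := surjective_ofChart gX hvs (Points.map (AlgSt.subIncl 𝒳 (RedQ v z)) w)
      rw [← ho]
      obtain ⟨o', ho', -⟩ := exists_fp_point hA.isStack.1 gX (overCat_isFibGrpd V) (AlgSt.subIncl 𝒳 (RedQ v z)) v
        (Points.mk (chartPt V o)) w ho
      obtain ⟨r, rfl⟩ := (map_bijective hE).2 o'
      rw [← map_comp_apply, map_eq_map_of_iso (eqToIso he)] at ho'
      have hr : ι'.left (ptOf r) = o := by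
        rw [← ptOf_map_overMap, ho', ptOf_chartPt]
      obtain ⟨l, hl⟩ := (redQ_chart_iff hv h𝒳 hz hred (Over.mk ι')).1
        ((hfac (Over.mk ι')).2 ⟨𝟙 Z', Category.id_comp ι'⟩)
      refine hz.le ⟨l.left (ptOf r), ?_⟩
      rw [← hr]
      exact congrArg (fun q : Z' ⟶ V => q.left (ptOf r)) hl
    · intro hp
      obtain ⟨o, rfl⟩ := surjective_ofChart gX hvs p
      obtain ⟨r, rfl⟩ := hz.ge hp
      have hb := (redQ_chart_iff hv h𝒳 hz hred (Over.mk z)).2 ⟨𝟙 Z, Category.id_comp z⟩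
      let q : FPt (FibCat.overCat V) := (chartPt Z r).map (AlgSt.overMap z)
      have hq : RedQ v z (v.obj q.obj) :=
        redQ_of_hom v z (v.map (Over.homMk (chartPt Z r).obj.hom rfl : q.obj ⟶ Over.mk z)) hb
      refine ⟨Points.mk ⟨q.K, q.str, ⟨v.obj q.obj, hq⟩, (v.w_obj q.obj).trans q.lies⟩, ?_⟩
      rw [ofChart_eq, ← map_overMap_chartPt z r]
      rfl
  · refine smoothLocally_of_chart hA.isStack.1 smoothLocalProp_isReduced
      (x := BasedFunctor.comp E (FibCat.fpSnd v (AlgSt.subIncl 𝒳 (RedQ v z))))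
      (with_comp_equiv hE (with_fpSnd _ hv)) (with_comp_equiv hE (with_fpSnd _ hvs)) ?_
    obtain ⟨a, ha⟩ := (redQ_chart_iff hv h𝒳 hz hred (Over.mk ι')).1
      ((hfac (Over.mk ι')).2 ⟨𝟙 Z', Category.id_comp ι'⟩)
    obtain ⟨b, hb⟩ := (hfac (Over.mk z)).1 ((redQ_chart_iff hv h𝒳 hz hred (Over.mk z)).2 ⟨𝟙 Z, Category.id_comp z⟩)
    haveI : IsReduced Z.left := hred
    change a ≫ z = ι' at ha
    change b ≫ ι' = z at hb
    haveI := hι'
    haveI : Mono ι' := (Over.forget S).mono_of_mono_map (inferInstanceAs (Mono ι'.left))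
    let e : Z' ≅ Z := ⟨a, b, by rw [← cancel_mono ι', Category.assoc, hb, ha, Category.id_comp],
      by rw [← cancel_mono z, Category.assoc, ha, hb, Category.id_comp]⟩
    exact @isReduced_of_isOpenImmersion Z'.left Z.left e.hom.left (inferInstanceAs (IsOpenImmersion ((Over.forget S).mapIso e).hom)) hred

end Groth.Agent.StAlg16
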