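import Groth.Agent.Lib.StAlg16.Setoid
import Groth.Prelude.Def_AlgSt3
import Mathlib.CategoryTheory.Sites.Limits
import Mathlib.CategoryTheory.Limits.FunctorCategory.EpiMono

/-! Monomorphisms of algebraic stacks are the fully faithful morphisms. -/

universe w v₄ u₄ v₃ u₃ v₂ u₂ v u

open CategoryTheory CategoryTheory.Functor CategoryTheory.Limits AlgebraicGeometry Opposite

set_option linter.style.haveILetI false
set_option linter.unusedSectionVars false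
set_option backward.isDefEq.respectTransparency false
set_option backward.isDefEq.respectTransparency.types false

namespace Groth.Agent.StAlg16

open Groth.Agent.FC16 Groth.Agent.StAlg

section Psh

variable {C : Type u} [Category.{v} C] {P Q : Cᵒᵖ ⥤ Type w}

theorem ofPshMap_full (φ : P ⟶ Q) (h : ∀ T, Function.Injective (φ.app T)) : (Stk.ofPshMap φ).toFunctor.Full where
  map_surjective {a b} g := by
    refine ⟨⟨g.hom, h _ ?_⟩, Stk.EltObj.hom_ext rfl⟩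
    exact (NatTrans.naturality_apply φ g.hom.op b.sec).trans g.map_sec

theorem injective_of_ofPshMap_full (φ : P ⟶ Q) [(Stk.ofPshMap φ).toFunctor.Full] (T : Cᵒᵖ) :
    Function.Injective (φ.app T) := by
  intro x x' h
  let g : (Stk.ofPshMap φ).obj ⟨T.unop, x⟩ ⟶ (Stk.ofPshMap φ).obj ⟨T.unop, x'⟩ :=
    ⟨𝟙 _, by change Q.map (𝟙 _).op (φ.app T x') = φ.app T x; simp [h]⟩
  let g' := (Stk.ofPshMap φ).toFunctor.preimage g
  have e := g'.map_sec
  have hg : g'.hom = 𝟙 T.unop :=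
    congrArg Stk.EltObj.Hom.hom ((Stk.ofPshMap φ).toFunctor.map_preimage g)
  rw [hg] at e
  simpa using e.symm

end Psh

variable {S : Scheme.{u}}

theorem full_comp_equiv {C : Type*} [Category C] {𝒲 : BasedCategory.{v₂, u₂} C} {𝒱 : BasedCategory.{v₃, u₃} C}
    {𝒜 : BasedCategory.{v₄, u₄} C} {e : 𝒱 ⥤ᵇ 𝒲} (he : FibCat.IsEquivOver e) (π : 𝒲 ⥤ᵇ 𝒜) :
    (BasedFunctor.comp e π).toFunctor.Full ↔ π.toFunctor.Full := by
  haveI := isEquivalence_of_isEquivOver he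
  constructor
  · intro h
    haveI : (e.toFunctor ⋙ π.toFunctor).Full := h
    exact Functor.Full.of_iso ((Functor.associator _ _ _).symm ≪≫
      Functor.isoWhiskerRight e.toFunctor.asEquivalence.counitIso π.toFunctor ≪≫ π.toFunctor.leftUnitor :
        e.toFunctor.inv ⋙ e.toFunctor ⋙ π.toFunctor ≅ π.toFunctor)
  · intro h
    exact inferInstanceAs (e.toFunctor ⋙ π.toFunctor).Full

theorem mono_spMapOfOver_iff {U : Over S} {F : AlgSp.Sp S} {𝒲 : BasedCategory.{v₂, u₂} (Over S)}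
    {e : AlgSt.ofSp F ⥤ᵇ 𝒲} (he : FibCat.IsEquivOver e) (π : 𝒲 ⥤ᵇ FibCat.overCat U) :
    Mono (AlgSt.spMapOfOver (BasedFunctor.comp e π)) ↔ π.toFunctor.Full := by
  let Φ := BasedFunctor.comp (BasedFunctor.comp e π) (AlgSt.ofOverCat U)
  let i := appIso' (isoMapOf Φ)
  haveI := isEquivalence_of_isEquivOver (ofOverCat_isEquivOver U)
  have hπ : Φ.toFunctor.Full ↔ π.toFunctor.Full := by
    rw [← full_comp_equiv he π]
    constructor
    · intro h
      haveI : ((BasedFunctor.comp e π).toFunctor ⋙ (AlgSt.ofOverCat U).toFunctor).Full := h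
      exact Functor.Full.of_comp_faithful _ (AlgSt.ofOverCat U).toFunctor
    · intro h
      exact inferInstanceAs ((BasedFunctor.comp e π).toFunctor ⋙ (AlgSt.ofOverCat U).toFunctor).Full
  rw [← hπ]
  constructor
  · intro h
    haveI : Mono (mapOf Φ) := by
      rw [← spMapOfOver_hom]
      exact inferInstanceAs (Mono ((sheafToPresheaf _ _).map (AlgSt.spMapOfOver (BasedFunctor.comp e π))))
    haveI := ofPshMap_full (mapOf Φ) fun T => (mono_iff_injective _).1 inferInstance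
    exact Functor.Full.of_iso i.symm
  · intro h
    haveI : (Stk.ofPshMap (mapOf Φ)).toFunctor.Full := Functor.Full.of_iso i
    haveI : ∀ T, Mono ((mapOf Φ).app T) := fun T => (mono_iff_injective _).2 (injective_of_ofPshMap_full _ T)
    haveI : Mono (AlgSt.spMapOfOver (BasedFunctor.comp e π)).hom := by
      rw [spMapOfOver_hom]
      exact NatTrans.mono_of_mono_app _
    exact (sheafToPresheaf _ _).mono_of_mono_map (show Mono ((sheafToPresheaf _ _).map _) from this)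
where
  appIso' {𝒜 : BasedCategory.{u, u + 1} (Over S)} {ℬ : BasedCategory.{u, u + 1} (Over S)} {F G : 𝒜 ⥤ᵇ ℬ}
      (j : F ≅ G) : F.toFunctor ≅ G.toFunctor :=
    ⟨j.hom.toNatTrans, j.inv.toNatTrans, congrArg BasedNatTrans.toNatTrans j.hom_inv_id,
      congrArg BasedNatTrans.toNatTrans j.inv_hom_id⟩

theorem fullyFaithful_of_isMono {𝒳 𝒴 : AlgSt.Cat S} (h𝒳 : FibCat.IsFibGrpd 𝒳.p) (h𝒴 : FibCat.IsFibGrpd 𝒴.p)
    (f : 𝒳 ⥤ᵇ 𝒴) (hf : AlgSt.IsMono f) : f.toFunctor.Full ∧ f.toFunctor.Faithful := by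
  haveI := faithful_of_rep1 h𝒳 h𝒴 (repByAlgSp1_of_with hf)
  refine ⟨?_, inferInstance⟩
  haveI := FC16.isFibered h𝒳
  haveI := FC16.isFibered h𝒴
  refine full_of_fib (presCart_of_isFibGrpd h𝒴 f) fun U a b χ hχ => ?_
  haveI := hχ
  have ha : 𝒳.p.obj a = U := (f.w_obj a).symm.trans (IsHomLift.domain_eq 𝒴.p (𝟙 U) χ)
  have hfa : 𝒴.p.obj (f.obj a) = U := (f.w_obj a).trans ha
  have hb : 𝒳.p.obj b = U := (f.w_obj b).symm.trans (IsHomLift.codomain_eq 𝒴.p (𝟙 U) χ)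
  let y : FibCat.overCat U ⥤ᵇ 𝒴 := ofObj hfa
  let i := ofObjIso hfa
  have hi : 𝒴.p.IsHomLift (𝟙 U) i.hom := ofObjIso_lift hfa
  haveI := hi
  haveI : IsIso χ := FC16.isIso_of_isHomLift h𝒴 (𝟙 U) χ
  let A : (FibCat.fp y f).obj := fpObj (Over.mk (𝟙 U)) a i (U := U) rfl hi
  let B : (FibCat.fp y f).obj := fpObj (Over.mk (𝟙 U)) b (i ≪≫ asIso χ) (U := U) rfl
    (inferInstanceAs (𝒴.p.IsHomLift (𝟙 U) (i.hom ≫ χ)))
  obtain ⟨F, e, he, hm⟩ := hf U y
  haveI : (FibCat.fpFst y f).toFunctor.Full := (mono_spMapOfOver_iff he _).1 hm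
  let φ : A ⟶ B := (FibCat.fpFst y f).toFunctor.preimage (X := A) (Y := B) (𝟙 (Over.mk (𝟙 U)))
  have hfst : φ.hom.fst = 𝟙 (Over.mk (𝟙 U)) :=
    (FibCat.fpFst y f).toFunctor.map_preimage (X := A) (Y := B) _
  have hw : y.map φ.hom.fst ≫ i.hom ≫ χ = i.hom ≫ f.map φ.hom.snd := fp_w φ
  rw [hfst] at hw
  replace hw := ((congrArg (· ≫ i.hom ≫ χ) (y.toFunctor.map_id (Over.mk (𝟙 U)))).trans (Category.id_comp _)).symm.trans hw
  rw [cancel_epi] at hw
  refine ⟨φ.hom.snd, ?_, hw.symm⟩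
  haveI : 𝒴.p.IsHomLift (𝟙 U) (f.map φ.hom.snd) := hw ▸ hχ
  exact BasedFunctor.isHomLift_map f _ _

theorem isMono_of_fullyFaithful {𝒳 𝒴 : AlgSt.Cat S} (h𝒳 : AlgSt.IsAlgStack Scheme.fppfPrecoverage 𝒳)
    (h𝒴 : AlgSt.IsAlgStack Scheme.fppfPrecoverage 𝒴) (f : 𝒳 ⥤ᵇ 𝒴) [f.toFunctor.Full] [f.toFunctor.Faithful] :
    AlgSt.IsMono f := fun U y => by
  obtain ⟨F, e, he⟩ := rep1_of_faithful h𝒳 h𝒴 f U y
  refine ⟨F, e, he, (mono_spMapOfOver_iff he _).2 ⟨fun {x x'} g => ?_⟩⟩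
  let h : f.obj x.obj.snd ⟶ f.obj x'.obj.snd := x.obj.iso.inv ≫ y.map g ≫ x'.obj.iso.hom
  exact ⟨fpHom g (f.toFunctor.preimage h) (by
    show y.map g ≫ x'.obj.iso.hom = x.obj.iso.hom ≫ f.toFunctor.map (f.toFunctor.preimage h)
    rw [f.toFunctor.map_preimage, Iso.hom_inv_id_assoc]), rfl⟩

end Groth.Agent.StAlg16
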