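import Groth.Agent.Lib.StAlg16.OpenSub
import Groth.Agent.Lib.StAlg16.SubstackLift
import Groth.Agent.Lib.StAlg16.Mono
import Groth.Agent.Lib.StAlg.Apps

/-! The substack image of an immersion. -/

universe u

open CategoryTheory CategoryTheory.Functor CategoryTheory.Limits AlgebraicGeometry Opposite

set_option linter.style.haveILetI false
set_option linter.unusedSectionVars false
set_option backward.isDefEq.respectTransparency false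
set_option backward.isDefEq.respectTransparency.types false

namespace Groth.Agent.StAlg16

open Groth.Agent.FC16 Groth.Agent.StAlg AlgSt

variable {S : Scheme.{u}} {𝒵 𝒳 : AlgSt.Cat S}

/-- the essential image of a based functor -/
def imageSub (i : 𝒵 ⥤ᵇ 𝒳) (a : 𝒳.obj) : Prop := ∃ z : 𝒵.obj, Nonempty (i.obj z ≅ a)

theorem imageSub_closedUnderIso (i : 𝒵 ⥤ᵇ 𝒳) : ObjectProperty.IsClosedUnderIsomorphisms (imageSub i) :=
  ⟨fun φ ⟨z, ⟨e⟩⟩ => ⟨z, ⟨e ≪≫ φ⟩⟩⟩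

/-- a fully faithful functor is an equivalence onto its essential image -/
theorem liftSub_imageSub_isEquivOver (h𝒵 : FibCat.IsFibGrpd 𝒵.p) (h𝒳 : FibCat.IsFibGrpd 𝒳.p) (i : 𝒵 ⥤ᵇ 𝒳)
    [i.toFunctor.Full] [i.toFunctor.Faithful] :
    FibCat.IsEquivOver (liftSub (Q := imageSub i) i fun z => ⟨z, ⟨Iso.refl _⟩⟩) := by
  let L := liftSub (Q := imageSub i) i fun z => (⟨z, ⟨Iso.refl _⟩⟩ : imageSub i (i.obj z))
  haveI : L.toFunctor.Faithful := ⟨fun {a b φ φ'} e => i.toFunctor.map_injective (congrArg (fun t => t.hom) e)⟩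
  haveI : L.toFunctor.Full := ⟨fun {a b} ψ =>
    ⟨i.toFunctor.preimage ψ.hom, ObjectProperty.hom_ext _ (i.toFunctor.map_preimage ψ.hom)⟩⟩
  refine isEquivOver_of L fun η => ?_
  obtain ⟨z, ⟨e⟩⟩ := η.property
  obtain ⟨z', ψ, hψ⟩ := h𝒵.exists_lift (x := z) (𝒳.p.map e.inv ≫ eqToHom (i.w_obj z))
  haveI := hψ
  haveI : 𝒳.p.IsHomLift (𝒳.p.map e.inv ≫ eqToHom (i.w_obj z)) e.inv :=
    IsHomLift.of_fac 𝒳.p _ _ rfl (i.w_obj z) (by simp)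
  haveI : 𝒳.p.IsHomLift (𝒳.p.map e.inv ≫ eqToHom (i.w_obj z)) (i.map ψ) := inferInstance
  obtain ⟨w, hw, -⟩ := exists_iso_of_lifts h𝒳 (𝒳.p.map e.inv ≫ eqToHom (i.w_obj z)) (i.map ψ) e.inv
  exact ⟨z', ObjectProperty.isoMk _ w, (fullSub_isHomLift_iff _ _).2 hw⟩

theorem with_subIncl_imageSub {P : MorphismProperty (AlgSp.Sp S)} (h𝒵 : FibCat.IsFibGrpd 𝒵.p)
    (h𝒳 : FibCat.IsFibGrpd 𝒳.p) (i : 𝒵 ⥤ᵇ 𝒳) [i.toFunctor.Full] [i.toFunctor.Faithful]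
    (h : AlgSt.RepByAlgSpWith P i) : AlgSt.RepByAlgSpWith P (AlgSt.subIncl 𝒳 (imageSub i)) := by
  obtain ⟨G, hG, -, ⟨β⟩⟩ := exists_inverse (liftSub_imageSub_isEquivOver h𝒵 h𝒳 i)
  exact (with_congr (f := i) (f' := AlgSt.subIncl 𝒳 (imageSub i)) (a := G) (b := BasedFunctor.id _) hG
    isEquivOver_id ((wrIso β (AlgSt.subIncl 𝒳 (imageSub i))).symm)).1 h

theorem exists_unique_image (h𝒵 : IsAlgStack Scheme.fppfPrecoverage 𝒵) (h𝒳 : IsAlgStack Scheme.fppfPrecoverage 𝒳)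
    (i : 𝒵 ⥤ᵇ 𝒳) (hi : AlgSt.IsImm i) :
    ∃ Q : 𝒳.obj → Prop,
      (AlgSt.IsLocClosedSubstack 𝒳 Q Scheme.fppfPrecoverage ∧
        (∃ i' : 𝒵 ⥤ᵇ AlgSt.fullSub 𝒳 Q, FibCat.IsEquivOver i' ∧
          Nonempty (BasedFunctor.comp i' (AlgSt.subIncl 𝒳 Q) ≅ i)) ∧
        (AlgSt.IsClosedImm i → AlgSt.IsClosedSubstack 𝒳 Q Scheme.fppfPrecoverage) ∧
        (AlgSt.IsOpenImm i → AlgSt.IsOpenSubstack 𝒳 Q Scheme.fppfPrecoverage)) ∧
      ∀ Q' : 𝒳.obj → Prop, AlgSt.IsLocClosedSubstack 𝒳 Q' Scheme.fppfPrecoverage →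
        (∃ i' : 𝒵 ⥤ᵇ AlgSt.fullSub 𝒳 Q', FibCat.IsEquivOver i' ∧
          Nonempty (BasedFunctor.comp i' (AlgSt.subIncl 𝒳 Q') ≅ i)) → Q' = Q := by
  have gZ := h𝒵.isStack.1; have gX := h𝒳.isStack.1
  obtain ⟨h1, h2⟩ := fullyFaithful_of_isMono gZ gX i (isMono_of_isImm hi)
  haveI := h1; haveI := h2
  have hE := liftSub_imageSub_isEquivOver gZ gX i
  have hA := isAlgStack_of_equiv hE h𝒵
  refine ⟨imageSub i, ⟨⟨imageSub_closedUnderIso i, hA, with_subIncl_imageSub gZ gX i hi⟩,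
    ⟨_, hE, ⟨Iso.refl _⟩⟩, fun h => ⟨imageSub_closedUnderIso i, hA, with_subIncl_imageSub gZ gX i h⟩,
    fun h => ⟨imageSub_closedUnderIso i, hA, with_subIncl_imageSub gZ gX i h⟩⟩, ?_⟩
  rintro Q' hQ' ⟨i', hi', ⟨γ⟩⟩
  haveI := hQ'.1
  refine funext fun a => propext ⟨fun ha => ?_, fun ⟨z, ⟨e⟩⟩ => ?_⟩
  · obtain ⟨G, -, -, ⟨β⟩⟩ := exists_inverse hi'
    let o : (fullSub 𝒳 Q').obj := ⟨a, ha⟩
    exact ⟨G.obj o, ⟨(appIso γ (G.obj o)).symm ≪≫ (AlgSt.subIncl 𝒳 Q').toFunctor.mapIso (appIso β o)⟩⟩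
  · exact ObjectProperty.prop_of_iso Q' (appIso γ z ≪≫ e) (i'.obj z).property

end Groth.Agent.StAlg16
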