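import Groth.Agent.Lib.StAlg16.OpenSub
import Groth.Agent.Lib.AlgSpace.Base
import Mathlib.AlgebraicGeometry.Morphisms.ClosedImmersion

/-! Morphisms from reduced stacks into closed substacks. -/

universe u

open CategoryTheory CategoryTheory.Functor CategoryTheory.Limits AlgebraicGeometry Opposite

set_option linter.style.haveILetI false
set_option linter.unusedSectionVars false
set_option backward.isDefEq.respectTransparency false
set_option backward.isDefEq.respectTransparency.types false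

namespace Groth.Agent.StAlg16

open Groth.Agent.FC16 Groth.Agent.StAlg AlgSt

variable {S : Scheme.{u}} {𝒳 𝒴 : AlgSt.Cat S} {Q : 𝒳.obj → Prop}

theorem sub_of_hom (h𝒳 : FibCat.IsFibGrpd 𝒳.p) (hQ : ObjectProperty.IsClosedUnderIsomorphisms Q)
    (hst : FibCat.IsFibGrpd (fullSub 𝒳 Q).p) {a b : 𝒳.obj} (φ : a ⟶ b) (hb : Q b) : Q a := by
  haveI := hQ
  haveI h1 : 𝒳.p.IsHomLift (𝒳.p.map φ) φ := IsHomLift.map 𝒳.p φ
  obtain ⟨a', φ', hφ'⟩ := hst.exists_lift (x := (⟨b, hb⟩ : (fullSub 𝒳 Q).obj)) (𝒳.p.map φ)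
  haveI := (fullSub_isHomLift_iff _ _).1 hφ'
  obtain ⟨e, -, -⟩ := exists_iso_of_lifts h𝒳 (𝒳.p.map φ) φ'.hom φ
  exact ObjectProperty.prop_of_iso Q e a'.property

/-- membership in a substack which is a stack is local -/
theorem sub_of_locally {J : GrothendieckTopology (Over S)} (h𝒳 : Stk.IsStack J 𝒳)
    (hQ : ObjectProperty.IsClosedUnderIsomorphisms Q) (hst : Stk.IsStack J (fullSub 𝒳 Q))
    {U : Over S} (x : FibCat.overCat U ⥤ᵇ 𝒳) {R : Sieve U} (hR : R ∈ J U)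
    (h : ∀ z, Q (x.obj ((Stk.sieveIncl R).obj z))) : Q (x.obj (Over.mk (𝟙 U))) := by
  haveI := hQ
  haveI : (Stk.resSieve R 𝒳).IsEquivalence := h𝒳.2 R hR
  haveI : (Stk.resSieve R (fullSub 𝒳 Q)).IsEquivalence := hst.2 R hR
  let t : Stk.sieveCat R ⥤ᵇ fullSub 𝒳 Q :=
    { toFunctor := ObjectProperty.lift _ (BasedFunctor.comp (Stk.sieveIncl R) x).toFunctor h
      w := (BasedFunctor.comp (Stk.sieveIncl R) x).w }
  let a' := (Stk.resSieve R (fullSub 𝒳 Q)).objPreimage t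
  let i : BasedFunctor.comp (Stk.sieveIncl R) a' ≅ t := (Stk.resSieve R (fullSub 𝒳 Q)).objObjPreimageIso t
  let e : BasedFunctor.comp a' (AlgSt.subIncl 𝒳 Q) ≅ x :=
    (Stk.resSieve R 𝒳).preimageIso (wrIso i (AlgSt.subIncl 𝒳 Q))
  exact ObjectProperty.prop_of_iso Q (appIso e (Over.mk (𝟙 U))) (a'.obj (Over.mk (𝟙 U))).property

/-- a chart all whose points lie in `Q` lies in `Q`, if the inclusion pulls back to immersions which are isomorphisms once surjective -/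
theorem sub_of_surjective {P : MorphismProperty Scheme.{u}} (h𝒳 : FibCat.IsFibGrpd 𝒳.p)
    (hQ : ObjectProperty.IsClosedUnderIsomorphisms Q) (hst : FibCat.IsFibGrpd (fullSub 𝒳 Q).p)
    (hj : AlgSt.RepByAlgSpWith (AlgSp.RepWith P) (AlgSt.subIncl 𝒳 Q)) {U : Over S}
    (hU : ∀ {W : Scheme.{u}} (g : W ⟶ U.left), P g → Function.Surjective g → IsIso g)
    (x : FibCat.overCat U ⥤ᵇ 𝒳) (hx : ∀ t, Points.ofChart x t ∈ Set.range (Points.map (AlgSt.subIncl 𝒳 Q)))
    (b : (FibCat.overCat U).obj) : Q (x.obj b) := by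
  haveI := hQ
  let j := AlgSt.subIncl 𝒳 Q
  obtain ⟨F, e, he, hk⟩ := hj U x
  let k := AlgSt.spMapOfOver (BasedFunctor.comp e (FibCat.fpFst x j))
  have hk' : AlgSp.RepWith P k := hk
  have sq := hk'.1.isPullback (𝟙 ((AlgSp.yon S).obj U))
  haveI := sq.isIso_fst_of_isIso
  let W := hk'.1.pullback (𝟙 ((AlgSp.yon S).obj U))
  let f₁ := hk'.1.fst (𝟙 ((AlgSp.yon S).obj U))
  let g : W ⟶ U := hk'.1.snd (𝟙 ((AlgSp.yon S).obj U))
  have hg : P g.left := hk'.2 _ _ _ sq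
  have hf₁ : FibCat.IsEquivOver (AlgSt.ofSpMap f₁) := by
    haveI : IsIso f₁.hom := inferInstanceAs (IsIso ((sheafToPresheaf (AlgSp.J S) (Type (u + 1))).map f₁))
    exact ofPshMap_isEquivOver f₁.hom
  let E' : FibCat.overCat W ⥤ᵇ FibCat.fp x j :=
    BasedFunctor.comp (BasedFunctor.comp (AlgSt.ofOverCat W) (AlgSt.ofSpMap f₁)) e
  have hE' : FibCat.IsEquivOver E' := isEquivOver_comp (isEquivOver_comp (ofOverCat_isEquivOver W) hf₁) he
  have hE'g : Nonempty (BasedFunctor.comp E' (FibCat.fpFst x j) ≅ AlgSt.overMap g) := by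
    let i : BasedFunctor.comp (AlgSt.ofSpMap k) (AlgSt.toOverCat U) ≅ BasedFunctor.comp e (FibCat.fpFst x j) :=
      wrIso (eqToIso (congrArg Stk.ofPshMap (spMapOfOver_hom (BasedFunctor.comp e (FibCat.fpFst x j)))) ≪≫
        (isoMapOf _).symm) (AlgSt.toOverCat U) ≪≫
        wlIso (BasedFunctor.comp e (FibCat.fpFst x j)) (eqToIso (ofOver_toOver U))
    have e₀ : f₁ ≫ k = (AlgSp.yon S).map g := by rw [sq.w, Category.comp_id]
    exact ⟨wlIso (BasedFunctor.comp (AlgSt.ofOverCat W) (AlgSt.ofSpMap f₁)) i.symm ≪≫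
      wlIso (AlgSt.ofOverCat W) (wrIso (ofSpMapComp f₁ k ≪≫ eqToIso (congrArg AlgSt.ofSpMap e₀)) (AlgSt.toOverCat U)) ≪≫
      wlIso (AlgSt.ofOverCat W) (StAlg.overMapIso g) ≪≫ wrIso (eqToIso (ofOver_toOver W)) (AlgSt.overMap g)⟩
  obtain ⟨ig⟩ := hE'g
  have hsurj : Function.Surjective g.left := fun t => by
    obtain ⟨w, hw⟩ := hx t
    obtain ⟨z, hz, -⟩ := exists_fp_point hst h𝒳 (overCat_isFibGrpd U) j x (Points.mk (chartPt U t)) w hw.symm
    obtain ⟨o, rfl⟩ := (map_bijective hE').2 z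
    refine ⟨ptOf o, ?_⟩
    rw [← ptOf_map_overMap, ← map_eq_map_of_iso ig, map_comp_apply, hz, ptOf_chartPt]
  haveI : IsIso g.left := hU g.left hg hsurj
  haveI : IsIso g := by
    haveI : IsIso ((Over.forget S).map g) := inferInstanceAs (IsIso g.left)
    exact isIso_of_reflects_iso g (Over.forget S)
  let b' : (FibCat.overCat W).obj := Over.mk (b.hom ≫ inv g)
  let z := E'.obj b'
  let c : b ≅ z.obj.fst :=
    (Over.isoMk (Iso.refl _) (by
      show 𝟙 _ ≫ (b.hom ≫ inv g) ≫ g = b.hom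
      simp) : b ≅ (AlgSt.overMap g).obj b') ≪≫ (appIso ig b').symm
  exact ObjectProperty.prop_of_iso Q (x.toFunctor.mapIso c ≪≫ z.obj.iso).symm z.obj.snd.property

/-- a morphism from a reduced stack factors through a closed substack iff it does on points -/
theorem forall_mem_iff_points (h𝒳 : IsAlgStack Scheme.fppfPrecoverage 𝒳)
    (h𝒴 : IsAlgStack Scheme.fppfPrecoverage 𝒴) (hred : AlgSt.SmoothLocally (fun X => IsReduced X) 𝒴)
    (hQ : AlgSt.IsClosedSubstack 𝒳 Q Scheme.fppfPrecoverage) (f : 𝒴 ⥤ᵇ 𝒳) :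
    (∀ y : 𝒴.obj, Q (f.obj y)) ↔
      Set.range (Points.map f) ⊆ Set.range (Points.map (AlgSt.subIncl 𝒳 Q)) := by
  have gX := h𝒳.isStack.1; have gY := h𝒴.isStack.1
  constructor
  · rintro h _ ⟨w, rfl⟩
    obtain ⟨p, rfl⟩ := Points.mk_surjective w
    exact ⟨Points.mk ⟨p.K, p.str, ⟨f.obj p.obj, h _⟩, (f.w_obj _).trans p.lies⟩, rfl⟩
  intro h a
  haveI := hQ.1
  haveI := FC16.isFibered gY
  obtain ⟨V, v, hv, hvs⟩ := h𝒴.atlas
  haveI : IsReduced V.left := hred V v hv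
  have hV : ∀ b, Q ((BasedFunctor.comp v f).obj b) :=
    sub_of_surjective gX hQ.1 hQ.2.1.isStack.1 hQ.2.2
      (fun g (_ : IsClosedImmersion g) hs => by
        haveI : Surjective g := ⟨hs⟩
        exact isIso_of_isClosedImmersion_of_surjective g)
      (BasedFunctor.comp v f) fun t => h (by rw [ofChart_eq, map_comp_apply]; exact ⟨_, rfl⟩)
  let U := 𝒴.p.obj a
  let y : FibCat.overCat U ⥤ᵇ 𝒴 := ofObj (x := a) (U := U) rfl
  obtain ⟨W, k, l, ⟨i⟩, hsq, hP⟩ := exists_chart_square gY (repByAlgSp1_of_with hv) U y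
  haveI : Smooth k.left := (hP @Smooth).1 hv
  haveI : Surjective k.left := ⟨fun t => by
    obtain ⟨s, hs⟩ := surjective_ofChart gY hvs (Points.ofChart y t)
    obtain ⟨o, ho, -⟩ := hsq t s hs.symm
    exact ⟨o, ho⟩⟩
  let R : Sieve U := Sieve.generate (Presieve.singleton k)
  have hR : R ∈ QuotSh.J Scheme.fppfPrecoverage S U :=
    AlgSpace.mem_J_of_singleton k R ⟨W, 𝟙 W, k, Presieve.singleton_self k, Category.id_comp k⟩
  have key := sub_of_locally h𝒳.isStack hQ.1 hQ.2.1.isStack (BasedFunctor.comp y f) hR fun z => by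
    obtain ⟨W', m, g, hg, e⟩ := z.property
    cases hg
    let b := (Stk.sieveIncl R).obj z
    let b' : (FibCat.overCat W).obj := Over.mk m
    let c : b ≅ (AlgSt.overMap k).obj b' := Over.isoMk (Iso.refl _) (by
      show 𝟙 _ ≫ m ≫ k = b.hom
      simp only [Category.id_comp]
      exact e)
    exact ObjectProperty.prop_of_iso Q (f.toFunctor.mapIso (y.toFunctor.mapIso c ≪≫ appIso i b')).symm
      (hV ((AlgSt.overMap l).obj b'))
  exact ObjectProperty.prop_of_iso Q (f.toFunctor.mapIso (ofObjIso (x := a) (U := U) rfl)) key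

theorem closedSubstack_eq_of_reduced (h𝒳 : IsAlgStack Scheme.fppfPrecoverage 𝒳)
    (hred : AlgSt.SmoothLocally (fun X => IsReduced X) 𝒳)
    (hQ : AlgSt.IsClosedSubstack 𝒳 Q Scheme.fppfPrecoverage)
    (hpts : Set.range (Points.map (AlgSt.subIncl 𝒳 Q)) = Set.univ) (y : 𝒳.obj) : Q y :=
  (forall_mem_iff_points h𝒳 h𝒳 hred hQ (BasedFunctor.id 𝒳)).2 (hpts ▸ Set.subset_univ _) y

end Groth.Agent.StAlg16
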