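import Groth.Agent.Lib.StAlg16.QCMor
import Groth.Agent.Lib.AlgSpDescent.FpqcTop

/-! Universal topological properties of representable morphisms. -/

universe u

open CategoryTheory CategoryTheory.Functor CategoryTheory.Limits AlgebraicGeometry Opposite

set_option linter.style.haveILetI false
set_option linter.unusedSectionVars false
set_option backward.isDefEq.respectTransparency false
set_option backward.isDefEq.respectTransparency.types false

namespace Groth.Agent.StAlg16

open Groth.Agent.FC16 Groth.Agent.StAlg AlgSt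

variable {S : Scheme.{u}}

theorem spPts_ofChart {T : Over S} {F : AlgSp.Sp S} (x : FibCat.overCat T ⥤ᵇ AlgSt.ofSp F) :
    spPts ∘ Points.ofChart x =
      AlgSp.Points.ofPt (ObjectProperty.homMk (mapOf (BasedFunctor.comp (AlgSt.toOverCat T) x)) :
        (AlgSp.yon S).obj T ⟶ F) := by
  let g : (AlgSp.yon S).obj T ⟶ F := ObjectProperty.homMk (mapOf (BasedFunctor.comp (AlgSt.toOverCat T) x))
  funext t
  have i : x ≅ BasedFunctor.comp (AlgSt.ofOverCat T) (AlgSt.ofSpMap g) :=
    (wrIso (eqToIso (ofOver_toOver T)) x).symm ≪≫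
      wlIso (AlgSt.ofOverCat T) (isoMapOf (BasedFunctor.comp (AlgSt.toOverCat T) x))
  rw [Function.comp_apply, ofChart_eq, map_eq_map_of_iso i, map_comp_apply, spPts_map,
    AlgSp.Points.ofPt_eq_map_ofScheme]
  refine congrArg (AlgSp.Points.map g) ?_
  change AlgSp.Points.mk ⟨_, _, _⟩ = AlgSp.Points.mk ⟨_, _, _⟩
  congr 2

theorem isOpen_spPts_preimage {F : AlgSp.Sp S} (W : Set (AlgSp.Points F)) (h : IsOpen W) :
    IsOpen (spPts ⁻¹' W : Set (Points (AlgSt.ofSp F))) :=
  Points.isOpen_iff.2 fun T x _ => by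
    rw [← Set.preimage_comp, spPts_ofChart]
    exact h.preimage (AlgSp.Points.continuous_ofPt _)

/-- points of a space are the points of its stack -/
noncomputable def spHomeo {F : AlgSp.Sp S} (hF : AlgSp.IsAlgSpace F) : Points (AlgSt.ofSp F) ≃ₜ AlgSp.Points F where
  toEquiv := Equiv.ofBijective spPts spPts_bijective
  continuous_toFun := continuous_def.2 isOpen_spPts_preimage
  continuous_invFun := continuous_def.2 fun W hW => AlgSp.Points.isOpen_iff.2 fun T g => by
    let x : FibCat.overCat T ⥤ᵇ AlgSt.ofSp F := BasedFunctor.comp (AlgSt.ofOverCat T) (AlgSt.ofSpMap g)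
    have hg : (ObjectProperty.homMk (mapOf (BasedFunctor.comp (AlgSt.toOverCat T) x)) :
        (AlgSp.yon S).obj T ⟶ F) = g := by
      apply ObjectProperty.hom_ext
      have := mapOf_congr (P := ((AlgSp.yon S).obj T).obj) (Q := F.obj)
        (wrIso (eqToIso (toOver_ofOver T)) (AlgSt.ofSpMap g))
      change mapOf (BasedFunctor.comp (AlgSt.toOverCat T) x) = mapOf (Stk.ofPshMap g.hom) at this
      rwa [mapOf_ofPshMap] at this
    have e : AlgSp.Points.ofPt g = spPts ∘ Points.ofChart x :=
      (congrArg AlgSp.Points.ofPt hg).symm.trans (spPts_ofChart x).symm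
    rw [e, Set.preimage_comp,
      show spPts ⁻¹' ((Equiv.ofBijective spPts spPts_bijective).invFun ⁻¹' W) = W from Set.ext fun z => by
        change (Equiv.ofBijective spPts spPts_bijective).symm (Equiv.ofBijective spPts spPts_bijective z) ∈ W ↔ _
        rw [Equiv.symm_apply_apply]]
    exact hW.preimage (continuous_ofChart (isAlgStack_ofSp hF) x)

/-- the homeomorphism of an equivalence -/
noncomputable def equivHomeo {𝒳 𝒴 : AlgSt.Cat S} (h𝒳 : IsAlgStack Scheme.fppfPrecoverage 𝒳)
    (h𝒴 : IsAlgStack Scheme.fppfPrecoverage 𝒴) {e : 𝒳 ⥤ᵇ 𝒴} (he : FibCat.IsEquivOver e) :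
    Points 𝒳 ≃ₜ Points 𝒴 :=
  (Equiv.ofBijective (Points.map e) (map_bijective he)).toHomeomorphOfContinuousOpen (continuous_map h𝒴 e)
    fun O hO => by
      obtain ⟨e', he', ⟨i⟩, ⟨j⟩⟩ := exists_inverse he
      have : Points.map e '' O = Points.map e' ⁻¹' O := by
        ext y
        constructor
        · rintro ⟨x, hx, rfl⟩
          show Points.map e' (Points.map e x) ∈ O
          rwa [← map_comp_apply, map_eq_map_of_iso i, map_id_apply]
        · intro hy
          exact ⟨_, hy, by rw [← map_comp_apply, map_eq_map_of_iso j, map_id_apply]⟩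
      rw [show (Equiv.ofBijective (Points.map e) (map_bijective he) : Points 𝒳 → Points 𝒴) = Points.map e from rfl,
        this]
      exact hO.preimage (continuous_map h𝒳 e')

/-- properties of maps of spaces which respect homeomorphisms and descend along open surjections -/
structure TopP (C : ∀ {A B : Type (u + 1)} [TopologicalSpace A] [TopologicalSpace B], (A → B) → Prop) : Prop where
  congr : ∀ {A B A' B' : Type (u + 1)} [TopologicalSpace A] [TopologicalSpace B] [TopologicalSpace A']
    [TopologicalSpace B'] (h : A' ≃ₜ A) (k : B ≃ₜ B') {f : A → B}, C f → C (k ∘ f ∘ h)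
  descend : ∀ {A B A' B' : Type (u + 1)} [TopologicalSpace A] [TopologicalSpace B] [TopologicalSpace A']
    [TopologicalSpace B'] {f : A → B} {f' : A' → B'} {p : B' → B} {q : A' → A}, Continuous f → Continuous p →
    Continuous q → Function.Surjective p → Function.Surjective q → IsOpenMap p → IsOpenMap q → p ∘ f' = f ∘ q →
    (∀ a b, p b = f a → ∃ a', f' a' = b ∧ q a' = a) → C f' → C f

variable {C : ∀ {A B : Type (u + 1)} [TopologicalSpace A] [TopologicalSpace B], (A → B) → Prop}

theorem TopP.congr_of_eq (hC : TopP C) {A B A' B' : Type (u + 1)} [TopologicalSpace A] [TopologicalSpace B]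
    [TopologicalSpace A'] [TopologicalSpace B'] (h : A' ≃ₜ A) (k : B ≃ₜ B') {f : A → B} {f' : A' → B'}
    (e : f' = k ∘ f ∘ h) (hf : C f) : C f' := e ▸ hC.congr h k hf

variable {𝒳 𝒴 : AlgSt.Cat S} {f : 𝒳 ⥤ᵇ 𝒴}

theorem with_univ_iff (hC : TopP C) (h𝒳 : IsAlgStack Scheme.fppfPrecoverage 𝒳)
    (h𝒴 : IsAlgStack Scheme.fppfPrecoverage 𝒴) (hf : AlgSt.RepByAlgSp1 f) :
    AlgSt.RepByAlgSpWith (AlgSp.UnivSp fun _ _ a => C (AlgSp.Points.map a)) f ↔
      ∀ (𝒵 : AlgSt.Cat S), IsAlgStack Scheme.fppfPrecoverage 𝒵 → ∀ (g : 𝒵 ⥤ᵇ 𝒴),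
        C (Points.map (FibCat.fpFst g f)) := by
  constructor
  · intro h 𝒵 h𝒵 g
    obtain ⟨W, w, hw, hws⟩ := h𝒵.atlas
    have hW := AlgSp.IsAlgSpace.yon_obj W
    have hWs := isAlgStack_ofSp hW
    let z := BasedFunctor.comp (AlgSt.toOverCat W) w
    obtain ⟨G, a, e, he, ⟨i⟩, hra, hr⟩ := exists_rep_over h𝒳.isStack.1 h𝒴.isStack.1 hf (BasedFunctor.comp z g)
    obtain ⟨hG, hGA⟩ := AlgSpace.isAlgSpaceP_of_repBySp a hra (AlgSpace.isAlgSpaceP_pyon W)
    have hu : (AlgSp.UnivSp fun _ _ b => C (AlgSp.Points.map b))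
        (ObjectProperty.homMk a : (⟨G, hG⟩ : AlgSp.Sp S) ⟶ (AlgSp.yon S).obj W) :=
      (hr _ (preIso_of_pullback fun _ _ _ _ _ _ _ _ _ _ _ _ sq h => AlgSpDescent.univSp_of_isPullback sq h) h
        (𝟙 _) (𝟙 G) a (IsPullback.of_horiz_isIso ⟨by simp⟩)).2.2
    have ha : C (AlgSp.Points.map (ObjectProperty.homMk a : (⟨G, hG⟩ : AlgSp.Sp S) ⟶ (AlgSp.yon S).obj W)) :=
      hu hW (𝟙 _) (𝟙 _) _ (IsPullback.of_horiz_isIso ⟨by rw [Category.id_comp, Category.comp_id]⟩)
    have hfp := isAlgStack_fp' h𝒵 h𝒳 h𝒴 g f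
    have hzg := isAlgStack_fp' hWs h𝒳 h𝒴 (BasedFunctor.comp z g) f
    have hX' := isAlgStack_fp' hWs hfp h𝒵 z (FibCat.fpFst g f)
    have hGs := isAlgStack_ofSp (F := ⟨G, hG⟩) hGA
    obtain ⟨e', he', -, ⟨β⟩⟩ := exists_inverse he
    let E := BasedFunctor.comp (pasteL z g f) e'
    have hE : FibCat.IsEquivOver E := isEquivOver_comp (pasteL_isEquivOver z g f) he'
    let aa : (⟨G, hG⟩ : AlgSp.Sp S) ⟶ (AlgSp.yon S).obj W := ObjectProperty.homMk a
    have hC' : C (Points.map (FibCat.fpFst z (FibCat.fpFst g f))) := by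
      refine hC.congr_of_eq ((equivHomeo hX' hGs hE).trans (spHomeo hGA)) (spHomeo hW).symm ?_ ha
      funext q
      apply (spHomeo hW).injective
      rw [Function.comp_apply, Homeomorph.apply_symm_apply]
      show spPts (Points.map _ q) = AlgSp.Points.map aa (spPts (Points.map E q))
      rw [← spPts_map, ← map_comp_apply]
      refine congrArg spPts (congrFun (map_eq_map_of_iso ?_) q)
      exact ((wlIso E i.symm) ≪≫ (wlIso (pasteL z g f) (wrIso β (FibCat.fpFst (BasedFunctor.comp z g) f)))).symm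
    have hz₁ := with_toOverCat_comp (with_locP_mono smooth_le_flat hw)
    have hz₂ := with_toOverCat_comp (with_locP_mono smooth_le_lfp hw)
    have hz₃ := with_toOverCat_comp hws
    refine hC.descend (p := Points.map z) (q := Points.map (FibCat.fpSnd z (FibCat.fpFst g f)))
      (continuous_map h𝒵 _) (continuous_map h𝒵 z) (continuous_map hfp _)
      (isSurjective_of_with h𝒵.isStack.1 hz₃)
      (isSurjective_fpSnd hWs.isStack.1 hfp.isStack.1 h𝒵.isStack.1 (isSurjective_of_with h𝒵.isStack.1 hz₃) _)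
      (isOpenMap_map_space h𝒵.isStack.1 ⟨_, hW⟩ z hz₁ hz₂) ?_ ?_ (fun a b hab => ?_) hC'
    · have key : IsOpenMap (Points.map (BasedFunctor.comp e' (BasedFunctor.id _))) :=
        (equivHomeo hzg hGs he').isOpenMap
      have h1 := with_fpSnd (FibCat.fpFst g f) hz₁
      have h2 := with_fpSnd (FibCat.fpFst g f) hz₂
      obtain ⟨E', hE', ⟨γ⟩, -⟩ := exists_inverse hE
      have h3 := isOpenMap_map_space hfp.isStack.1 ⟨⟨G, hG⟩, hGA⟩ (BasedFunctor.comp E' (FibCat.fpSnd z (FibCat.fpFst g f)))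
        (with_comp_equiv hE' h1) (with_comp_equiv hE' h2)
      have e₂ : Points.map (FibCat.fpSnd z (FibCat.fpFst g f)) =
          Points.map (BasedFunctor.comp E' (FibCat.fpSnd z (FibCat.fpFst g f))) ∘ Points.map E := funext fun q => by
        rw [Function.comp_apply, map_comp_apply]
        refine congrArg (Points.map _) ?_
        rw [← map_comp_apply, map_eq_map_of_iso γ, map_id_apply]
      rw [e₂]
      exact h3.comp (equivHomeo hX' hGs hE).isOpenMap
    · funext q
      rw [Function.comp_apply, Function.comp_apply, ← map_comp_apply, ← map_comp_apply]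
      exact congrFun (map_eq_map_of_iso (FibCat.fpIso z (FibCat.fpFst g f))) q
    · exact exists_fp_point hfp.isStack.1 h𝒵.isStack.1 hWs.isStack.1 (FibCat.fpFst g f) z b a hab
  · intro h U y
    obtain ⟨G, a, e, he, ⟨i⟩, hra, -⟩ := exists_rep_over h𝒳.isStack.1 h𝒴.isStack.1 hf
      (BasedFunctor.comp (AlgSt.toOverCat U) y)
    obtain ⟨hG, hGA⟩ := AlgSpace.isAlgSpaceP_of_repBySp a hra (AlgSpace.isAlgSpaceP_pyon U)
    have hU := AlgSp.IsAlgSpace.yon_obj U
    let aa : (⟨G, hG⟩ : AlgSp.Sp S) ⟶ (AlgSp.yon S).obj U := ObjectProperty.homMk a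
    have hu : (AlgSp.UnivSp fun _ _ b => C (AlgSp.Points.map b)) aa := fun Z Z' hZ g fst snd sq => by
      have hZ' := AlgSpace.isAlgSpace_baseChange hGA hU hZ sq
      have hZs := isAlgStack_ofSp hZ
      let w := Stk.ofPshMap g.hom
      let y₁ := BasedFunctor.comp (AlgSt.toOverCat U) y
      haveI := idFun_full (𝒳 := AlgSt.ofSch U)
      haveI := idFun_faithful (𝒳 := AlgSt.ofSch U)
      let M₂ := fpMap (F := w) (G := Stk.ofPshMap a) (F' := w)
        (G' := FibCat.fpFst y₁ f) (a := BasedFunctor.id _) (b := e)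
        (s := BasedFunctor.id (AlgSt.ofSch U)) (Iso.refl _) i
      have hsq := (sq.map (sheafToPresheaf (AlgSp.J S) (Type (u + 1)))).flip
      let E := BasedFunctor.comp (BasedFunctor.comp (pbFun hsq.w) M₂) (pasteL w y₁ f)
      have hE : FibCat.IsEquivOver E := isEquivOver_comp (isEquivOver_comp (pbFun_isEquivOver hsq)
        (show FibCat.IsEquivOver M₂ from fpMap_isEquivOver _ _ isEquivOver_id he)) (pasteL_isEquivOver w y₁ f)
      refine hC.congr_of_eq ((spHomeo hZ').symm.trans
        (equivHomeo (isAlgStack_ofSp hZ') (isAlgStack_fp' hZs h𝒳 h𝒴 _ f) hE)) (spHomeo hZ) ?_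
        (h _ hZs (BasedFunctor.comp w y₁))
      funext q
      obtain ⟨q, rfl⟩ := (spHomeo hZ').surjective q
      rw [Function.comp_apply, Function.comp_apply, Homeomorph.trans_apply, Homeomorph.symm_apply_apply]
      show AlgSp.Points.map snd (spPts q) = spPts (Points.map _ (Points.map E q))
      rw [← spPts_map, ← map_comp_apply]
      rfl
    exact repOf_of_equiv (E := BasedFunctor.comp e (fpMap (a := AlgSt.toOverCat U) (b := BasedFunctor.id 𝒳)
        (s := BasedFunctor.id 𝒴) (F := BasedFunctor.comp (AlgSt.toOverCat U) y) (G := f) (F' := y) (G' := f)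
        (Iso.refl _) (Iso.refl _)))
      (by haveI := idFun_full (𝒳 := 𝒴)
          haveI := idFun_faithful (𝒳 := 𝒴)
          exact isEquivOver_comp he (fpMap_isEquivOver _ _ (toOverCat_isEquivOver U) isEquivOver_id))
      (wrIso i (AlgSt.toOverCat U)) (repOf_ofPsh_of a (h := hG) hGA hu)

section Instances

variable {A B A' B' : Type (u + 1)} [TopologicalSpace A] [TopologicalSpace B] [TopologicalSpace A']
  [TopologicalSpace B'] {f₀ : A → B} {f' : A' → B'} {p : B' → B} {q : A' → A}

theorem isOpenMap_descend (hq : Continuous q) (hqs : Function.Surjective q) (hpo : IsOpenMap p)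
    (w : p ∘ f' = f₀ ∘ q) (h : IsOpenMap f') : IsOpenMap f₀ := fun O hO => by
  rw [← Set.image_preimage_eq O hqs, ← Set.image_comp, ← w, Set.image_comp]
  exact hpo _ (h _ (hO.preimage hq))

theorem injective_descend (hps : Function.Surjective p) (hex : ∀ a b, p b = f₀ a → ∃ a', f' a' = b ∧ q a' = a)
    (h : Function.Injective f') : Function.Injective f₀ := fun a b e => by
  obtain ⟨z, hz⟩ := hps (f₀ a)
  obtain ⟨a', ha, rfl⟩ := hex a z hz
  obtain ⟨b', hb, rfl⟩ := hex b z (hz.trans e)
  exact congrArg q (h (ha.trans hb.symm))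

theorem surjective_descend (hps : Function.Surjective p) (w : p ∘ f' = f₀ ∘ q) (h : Function.Surjective f') :
    Function.Surjective f₀ := fun b => by
  obtain ⟨b', rfl⟩ := hps b
  obtain ⟨a', rfl⟩ := h b'
  exact ⟨q a', (congrFun w a').symm⟩

end Instances

theorem topP_isOpenMap : TopP.{u} @IsOpenMap where
  congr h k _ hf := k.isOpenMap.comp (hf.comp h.isOpenMap)
  descend _ _ hq _ hqs hpo _ w _ h := isOpenMap_descend hq hqs hpo w h

theorem topP_isClosedMap : TopP.{u} @IsClosedMap where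
  congr h k _ hf := k.isClosedMap.comp (hf.comp h.isClosedMap)
  descend {A B A' B' _ _ _ _ f₀ f' p q} _ _ hq hps hqs hpo _ w hex h := fun K hK => by
    have e : p ⁻¹' (f₀ '' K) = f' '' (q ⁻¹' K) := by
      ext b
      constructor
      · rintro ⟨a, ha, hab⟩
        obtain ⟨a', rfl, rfl⟩ := hex a b hab.symm
        exact ⟨a', ha, rfl⟩
      · rintro ⟨a', ha, rfl⟩
        exact ⟨q a', ha, (congrFun w a').symm⟩
    have h1 : IsClosed (p ⁻¹' (f₀ '' K)) := e ▸ h _ (hK.preimage hq)
    rw [← isOpen_compl_iff, ← Set.preimage_compl] at h1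
    rw [← isOpen_compl_iff, ← Set.image_preimage_eq (f₀ '' K)ᶜ hps]
    exact hpo _ h1

theorem topP_isQuotientMap : TopP.{u} @Topology.IsQuotientMap where
  congr h k _ hf := k.isQuotientMap.comp (hf.comp h.isQuotientMap)
  descend {A B A' B' _ _ _ _ f₀ f' p q} hf hp hq hps _ hpo _ w _ h := by
    refine ⟨⟨TopologicalSpace.ext_iff.2 fun s => ⟨fun hs => hs.preimage hf, fun hs => ?_⟩⟩,
      surjective_descend hps w h.surjective⟩
    have h1 : IsOpen (f' ⁻¹' (p ⁻¹' s)) := by
      rw [← Set.preimage_comp, w, Set.preimage_comp]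
      exact hs.preimage hq
    rw [← Set.image_preimage_eq s hps]
    exact hpo _ (h.isOpen_preimage.1 h1)

theorem topP_injective : TopP.{u} (fun {A B} _ _ (f : A → B) => Function.Injective f) where
  congr h k _ hf := k.injective.comp (hf.comp h.injective)
  descend _ _ _ hps _ _ _ _ hex h := injective_descend hps hex h

theorem topP_isHomeomorph : TopP.{u} @IsHomeomorph where
  congr h k _ hf := k.isHomeomorph.comp (hf.comp h.isHomeomorph)
  descend hf _ hq hps hqs hpo _ w hex h :=
    ⟨hf, isOpenMap_descend hq hqs hpo w h.isOpenMap,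
      injective_descend hps hex h.bijective.1, surjective_descend hps w h.bijective.2⟩

end Groth.Agent.StAlg16
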