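import Groth.Agent.Lib.StAlg16.Points

/-! Universally injective morphisms and the diagonal, on points. -/

universe u

open CategoryTheory CategoryTheory.Functor CategoryTheory.Limits AlgebraicGeometry Opposite

set_option linter.style.haveILetI false
set_option linter.unusedSectionVars false
set_option backward.isDefEq.respectTransparency false
set_option backward.isDefEq.respectTransparency.types false

namespace Groth.Agent.StAlg16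

open Groth.Agent.FC16 Groth.Agent.StAlg AlgSt

variable {S : Scheme.{u}} {𝒳 𝒴 𝒵 : AlgSt.Cat S}

theorem isUnivInjective_fpFst {f : 𝒳 ⥤ᵇ 𝒴} (g : 𝒵 ⥤ᵇ 𝒴) {K : Precoverage Scheme.{u}}
    (hf : IsUnivInjective K f) : IsUnivInjective K (FibCat.fpFst g f) := fun 𝒲 h𝒲 g' => by
  have h := hf 𝒲 h𝒲 (BasedFunctor.comp g' g)
  intro a b e
  apply (map_bijective (pasteL_isEquivOver g' g f)).1
  apply h
  rw [← map_comp_apply, ← map_comp_apply]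
  exact e

theorem isUnivInjective_comp (h𝒴 : IsAlgStack Scheme.fppfPrecoverage 𝒴) (h𝒵 : IsAlgStack Scheme.fppfPrecoverage 𝒵)
    {f : 𝒳 ⥤ᵇ 𝒴} {g : 𝒴 ⥤ᵇ 𝒵} (hf : IsUnivInjective Scheme.fppfPrecoverage f)
    (hg : IsUnivInjective Scheme.fppfPrecoverage g) :
    IsUnivInjective Scheme.fppfPrecoverage (BasedFunctor.comp f g) := fun 𝒲 h𝒲 h => by
  intro a b e
  obtain ⟨a', rfl⟩ := (map_bijective (pasteR_isEquivOver h g f)).2 a
  obtain ⟨b', rfl⟩ := (map_bijective (pasteR_isEquivOver h g f)).2 b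
  rw [← map_comp_apply, ← map_comp_apply] at e
  change Points.map (BasedFunctor.comp (FibCat.fpFst _ _) (FibCat.fpFst h g)) a' =
    Points.map (BasedFunctor.comp (FibCat.fpFst _ _) (FibCat.fpFst h g)) b' at e
  rw [map_comp_apply, map_comp_apply] at e
  exact congrArg _ (hf _ (StAlg.isAlgStack_fp h𝒵.isStack h𝒵.diag h𝒲 h𝒴 h g) _ (hg 𝒲 h𝒲 h e))

theorem map_diag_fst {f : 𝒳 ⥤ᵇ 𝒴} (x : Points 𝒳) :
    Points.map (FibCat.fpFst f f) (Points.map (FibCat.diag f) x) = x := by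
  obtain ⟨p, rfl⟩ := Points.mk_surjective x
  rfl

theorem map_diag_snd {f : 𝒳 ⥤ᵇ 𝒴} (x : Points 𝒳) :
    Points.map (FibCat.fpSnd f f) (Points.map (FibCat.diag f) x) = x := by
  obtain ⟨p, rfl⟩ := Points.mk_surjective x
  rfl

theorem isSurjective_diag_of_isUnivInjective (h𝒳 : IsAlgStack Scheme.fppfPrecoverage 𝒳) {f : 𝒳 ⥤ᵇ 𝒴}
    (hf : IsUnivInjective Scheme.fppfPrecoverage f) : IsSurjective (FibCat.diag f) := fun w =>
  ⟨Points.map (FibCat.fpFst f f) w, hf 𝒳 h𝒳 f (map_diag_fst _)⟩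

theorem isSurjective_diag_fpFst (h𝒳 : FibCat.IsFibGrpd 𝒳.p) (h𝒴 : FibCat.IsFibGrpd 𝒴.p) (h𝒵 : FibCat.IsFibGrpd 𝒵.p)
    {f : 𝒳 ⥤ᵇ 𝒴} (g : 𝒵 ⥤ᵇ 𝒴) (hf : IsSurjective (FibCat.diag f)) :
    IsSurjective (FibCat.diag (FibCat.fpFst g f)) := fun u => by
  obtain ⟨x, hx⟩ := hf (Points.map (bcMap f g) u)
  have hP := fp_isFibGrpd h𝒳 h𝒳 h𝒴 f f
  have hQ := fp_isFibGrpd h𝒵 h𝒳 h𝒴 g f
  obtain ⟨w, hw, -⟩ := exists_fp_point h𝒳 hP (fp_isFibGrpd hQ hQ h𝒵 _ _) (FibCat.diag f) (bcMap f g) u x hx.symm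
  obtain ⟨w', rfl⟩ := (map_bijective (bcFun_isEquivOver f g)).2 w
  rw [← map_comp_apply] at hw
  exact ⟨w', hw⟩

theorem isUnivInjective_of_isSurjective_diag (h𝒳 : FibCat.IsFibGrpd 𝒳.p) (h𝒴 : FibCat.IsFibGrpd 𝒴.p)
    {f : 𝒳 ⥤ᵇ 𝒴} (hf : IsSurjective (FibCat.diag f)) : IsUnivInjective Scheme.fppfPrecoverage f :=
  fun 𝒲 h𝒲 g a b e => by
    have hW := h𝒲.isStack.1
    have hQ := fp_isFibGrpd hW h𝒳 h𝒴 g f
    obtain ⟨u, hu₁, hu₂⟩ := exists_fp_point hQ hW hQ (FibCat.fpFst g f) (FibCat.fpFst g f) a b e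
    obtain ⟨w, rfl⟩ := isSurjective_diag_fpFst h𝒳 h𝒴 hW g hf u
    rw [map_diag_fst] at hu₁
    rw [map_diag_snd] at hu₂
    exact hu₁.symm.trans hu₂

end Groth.Agent.StAlg16
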