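import Groth.Agent.Lib.StAlg16.Atlas
import Groth.Agent.Lib.AlgSpace.EtaleSheaf

/-! An etale stack with a representable smooth cover by a space is algebraic. -/

universe u

open CategoryTheory CategoryTheory.Functor CategoryTheory.Limits AlgebraicGeometry Opposite

set_option linter.style.haveILetI false
set_option linter.unusedSectionVars false
set_option backward.isDefEq.respectTransparency false
set_option backward.isDefEq.respectTransparency.types false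

namespace Groth.Agent.StAlg16

open Groth.Agent.FC16 Groth.Agent.StAlg AlgSt

variable {S : Scheme.{u}} {𝒰 𝒳 𝒴 𝒵 : AlgSt.Cat S}

theorem locP_yon_iff' {U V : Over S} (k : U ⟶ V) :
    AlgSp.LocP @Smooth ((AlgSp.yon S).map k) ↔ Smooth k.left :=
  ⟨fun h => (AlgSp.repWith_yon_map_iff @Smooth k).1 (AlgSpace.repWith_of_locP (AlgSp.IsAlgSpace.yon_obj V)
    ((AlgSp.repWith_yon_map_iff ⊤ k).2 (by trivial)).1 h),
   fun h => AlgSpace.locP_of_repWith (AlgSp.IsAlgSpace.yon_obj V) ((AlgSp.repWith_yon_map_iff @Smooth k).2 h)⟩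

theorem isStack_overCat_etale (U : Over S) :
    Stk.IsStack (QuotSh.J Scheme.etalePrecoverage S) (FibCat.overCat U) :=
  (isStack_iff_of_isEquivOver _ (toOverCat_isEquivOver U)).1 ((isStack_ofPsh_iff _ _).2 fun T R hR =>
    ((isSheaf_iff_isSheaf_of_type _ _).1 ((AlgSp.yon S).obj U).property) R (AlgSpace.etale_le_fppf R hR))

/-- a smooth, surjective functor lifts schemes after a covering -/
theorem exists_smooth_lift (h𝒴 : FibCat.IsFibGrpd 𝒴.p) (h𝒵 : FibCat.IsFibGrpd 𝒵.p) {z : 𝒵 ⥤ᵇ 𝒴}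
    (hz₁ : AlgSt.RepByAlgSpWith (AlgSp.LocP @Smooth) z)
    (hz₃ : AlgSt.RepByAlgSpWith AlgSp.IsSurjectiveMor z) (U : Over S) (y : FibCat.overCat U ⥤ᵇ 𝒴) :
    ∃ (V : Over S) (k : V ⟶ U) (v : FibCat.overCat V ⥤ᵇ 𝒵),
      Smooth k.left ∧ Surjective k.left ∧
        Nonempty (BasedFunctor.comp (AlgSt.overMap k) y ≅ BasedFunctor.comp v z) := by
  obtain ⟨G, a, e, -, ⟨i₀⟩, hra, hr⟩ := exists_rep_over h𝒵 h𝒴 (repByAlgSp1_of_with hz₁)
    (BasedFunctor.comp (AlgSt.toOverCat U) y)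
  obtain ⟨hG, hGA⟩ := AlgSpace.isAlgSpaceP_of_repBySp a hra (AlgSpace.isAlgSpaceP_pyon U)
  let A : (⟨G, hG⟩ : AlgSp.Sp S) ⟶ (AlgSp.yon S).obj U := ObjectProperty.homMk a
  have hid : IsPullback (𝟙 G) a a (𝟙 (((AlgSp.yon S).obj U).obj)) := IsPullback.of_horiz_isIso ⟨by simp⟩
  have hA₁ : AlgSp.LocP @Smooth A := (hr _ (preIso_of_pullback pbP_locP) hz₁ _ _ _ hid).2.2
  have hA₃ : AlgSp.IsSurjectiveMor A := (hr _ goodP_surjective.preIso hz₃ _ _ _ hid).2.2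
  obtain ⟨V, p, hp, hps⟩ := hGA.atlas
  obtain ⟨k, hk⟩ := (AlgSp.yon S).map_surjective (p ≫ A)
  have hV := AlgSp.IsAlgSpace.yon_obj V
  have hU := AlgSp.IsAlgSpace.yon_obj U
  let P' := BasedFunctor.comp (AlgSt.ofOverCat V) (Stk.ofPshMap (P := ((AlgSp.yon S).obj V).obj) p.hom)
  let v : FibCat.overCat V ⥤ᵇ 𝒵 := BasedFunctor.comp (BasedFunctor.comp P' e) (FibCat.fpSnd _ z)
  refine ⟨V, k, v, ?_, surjective_left_of_isSurjectiveMor k fun x => ?_, ?_⟩
  · refine (locP_yon_iff' k).1 ?_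
    rw [hk]
    exact AlgSpace.locP_comp hV hGA hU (AlgSpace.locP_mono (fun _ _ f (_ : Etale f) => (inferInstance : Smooth f))
      (AlgSpace.locP_of_repWith hGA hp)) hA₁
  · obtain ⟨g, rfl⟩ := hA₃ x
    obtain ⟨v, rfl⟩ := AlgSpace.surjective_map_of_repWith hps g
    exact ⟨v, by rw [hk]; exact AlgSp.Points.map_comp p A v⟩
  · have hk' : mapOf (BasedFunctor.comp (Stk.ofPshMap (P := ((AlgSp.yon S).obj V).obj) p.hom) (Stk.ofPshMap a)) =
        ((AlgSp.yon S).map k).hom := by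
      rw [mapOf_comp, mapOf_ofPshMap, mapOf_ofPshMap, hk]; rfl
    let j : BasedFunctor.comp (BasedFunctor.comp P' (Stk.ofPshMap a)) (AlgSt.toOverCat U) ≅ AlgSt.overMap k :=
      wlIso (AlgSt.ofOverCat V) (wrIso (isoMapOf _ ≪≫ eqToIso (congrArg Stk.ofPshMap hk')) (AlgSt.toOverCat U) ≪≫
        overMapIso k) ≪≫ wrIso (eqToIso (ofOver_toOver V)) (AlgSt.overMap k)
    let i : BasedFunctor.comp (AlgSt.overMap k) y ≅ BasedFunctor.comp v z :=
      wrIso j.symm y ≪≫ wlIso P' (wrIso i₀.symm (BasedFunctor.comp (AlgSt.toOverCat U) y)) ≪≫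
        wlIso (BasedFunctor.comp P' e) (FibCat.fpIso (BasedFunctor.comp (AlgSt.toOverCat U) y) z)
    exact ⟨i⟩

/-- maps from schemes to an etale stack with a representable smooth cover are representable -/
theorem rep1_of_rep_cover_etale (h𝒰 : FibCat.IsFibGrpd 𝒰.p) (h𝒳 : Stk.IsStack (QuotSh.J Scheme.etalePrecoverage S) 𝒳)
    (hU : AlgSt.RepByAlgSp 𝒰) {u : 𝒰 ⥤ᵇ 𝒳} (hu₁ : AlgSt.RepByAlgSpWith (AlgSp.LocP @Smooth) u)
    (hu₃ : AlgSt.RepByAlgSpWith AlgSp.IsSurjectiveMor u)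
    (U : Over S) (y : FibCat.overCat U ⥤ᵇ 𝒳) : AlgSt.RepByAlgSp1 y := fun T z => by
  have gX := h𝒳.1
  haveI := faithful_overCat y
  have hovU := isStack_overCat_etale U
  have hovT := isStack_overCat_etale T
  have gD : FibCat.IsFibGrpd (FibCat.fp z y).p := fp_isFibGrpd (overCat_isFibGrpd T) (overCat_isFibGrpd U) gX z y
  obtain ⟨G, e, he⟩ := exists_psh.{u + 1} (𝒳 := FibCat.fp z y)
    (isFibSetoid_fp_of_faithful z y (isFibSetoid_of_rep (rep_overCat T)) (overCat_isFibGrpd U) gX)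
  have hG : Presheaf.IsSheaf (QuotSh.J Scheme.etalePrecoverage S) G := (isSheaf_iff_isSheaf_of_type _ _).2 ((isStack_ofPsh_iff _ G).1
    ((isStack_iff_of_isEquivOver _ he).2 (isStack_fp _ z y hovT hovU (isPrestack_of_isStack _ h𝒳))))
  let π := mapOf (BasedFunctor.comp (BasedFunctor.comp e (FibCat.fpFst z y)) (AlgSt.ofOverCat T))
  obtain ⟨V, k, v, hk1, hk3, ⟨i⟩⟩ := exists_smooth_lift gX h𝒰 hu₁ hu₃ T z
  have sq := IsPullback.of_hasPullback π ((AlgSp.pyon S).map k)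
  have hP : AlgSp.IsAlgSpaceP (pullback π ((AlgSp.pyon S).map k)) := by
    let kz := BasedFunctor.comp (AlgSt.overMap k) z
    have h1 : AlgSt.RepByAlgSp1 kz := repByAlgSp1_iff.2 (with_of_iso i.symm (repByAlgSp1_iff.1
      (rep1_comp (overCat_isFibGrpd V) h𝒰 (rep1_of_rep (rep_overCat V) hU v) (repByAlgSp1_of_with hu₁))))
    have h2 : AlgSt.RepByAlgSp (FibCat.fp kz y) :=
      (repByAlgSp_congr (fpSwap_isEquivOver y kz)).1 (rep_fp (overCat_isFibGrpd V) gX h1 (rep_overCat U) y)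
    have h3 : AlgSt.RepByAlgSp (FibCat.fp (AlgSt.overMap k) (FibCat.fpFst z y)) :=
      (repByAlgSp_congr (pasteL_isEquivOver (AlgSt.overMap k) z y)).2 h2
    haveI := idFun_full (𝒳 := FibCat.overCat T)
    haveI := idFun_faithful (𝒳 := FibCat.overCat T)
    have hsq := sq.flip
    let ii : BasedFunctor.comp (Stk.ofPshMap π) (AlgSt.toOverCat T) ≅ BasedFunctor.comp e (FibCat.fpFst z y) :=
      wrIso (isoMapOf _).symm (AlgSt.toOverCat T) ≪≫
        wlIso (BasedFunctor.comp e (FibCat.fpFst z y)) (eqToIso (ofOver_toOver T))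
    let M := fpMap (F := Stk.ofPshMap ((AlgSp.yon S).map k).hom) (G := Stk.ofPshMap π) (F' := AlgSt.overMap k)
      (G' := FibCat.fpFst z y) (a := AlgSt.toOverCat V) (b := e) (s := AlgSt.toOverCat T) (overMapIso k).symm ii.symm
    haveI : (AlgSt.toOverCat T).toFunctor.Full :=
      haveI := isEquivalence_of_isEquivOver (toOverCat_isEquivOver T); inferInstance
    haveI : (AlgSt.toOverCat T).toFunctor.Faithful :=
      haveI := isEquivalence_of_isEquivOver (toOverCat_isEquivOver T); inferInstance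
    have hM : FibCat.IsEquivOver M := fpMap_isEquivOver (F := Stk.ofPshMap ((AlgSp.yon S).map k).hom)
      (G := Stk.ofPshMap π) (F' := AlgSt.overMap k) (G' := FibCat.fpFst z y) (a := AlgSt.toOverCat V) (b := e)
      (s := AlgSt.toOverCat T) (overMapIso k).symm ii.symm (toOverCat_isEquivOver V) he
    exact (rep_ofPsh_iff.1 ((repByAlgSp_congr
      (isEquivOver_comp (pbFun_isEquivOver hsq) hM)).2 h3))
  obtain ⟨hs, hA⟩ := hP
  have hk : (AlgSp.IsSurjectiveMor ⊓ AlgSp.LocP @Smooth) ((AlgSp.yon S).map k) := by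
    refine ⟨fun x => ?_, (locP_yon_iff' k).2 hk1⟩
    obtain ⟨t, rfl⟩ := (AlgSp.Points.schemeHomeo T).surjective x
    obtain ⟨w, rfl⟩ := hk3.surj t
    exact ⟨AlgSp.Points.schemeHomeo V w, AlgSp.Points.map_yon_map_apply k w⟩
  have hp : AlgSp.RepBySpWith (AlgSp.IsSurjectiveMor ⊓ AlgSp.LocP @Smooth) (pullback.fst π ((AlgSp.pyon S).map k)) := by
    have hy := repBySpWith_of_space (P := AlgSp.IsSurjectiveMor ⊓ AlgSp.LocP @Smooth)
      (fun X₁ Y₁ X₂ Y₂ h₁ h₂ _ h₄ a b a' b' sq h => ⟨AlgSpace.surjective_of_isPullback sq h.1,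
        AlgSpace.locP_of_isPullback h₁ h₂ h₄ sq h.2⟩)
      (AlgSp.IsAlgSpace.yon_obj V) (AlgSp.IsAlgSpace.yon_obj T) hk
    intro W ξ F' fst snd sq'
    exact hy (ξ ≫ π) (fst ≫ pullback.snd π ((AlgSp.pyon S).map k)) snd (sq'.paste_horiz sq.flip)
  obtain ⟨hs', hA'⟩ := AlgSpace.isAlgSpaceP_of_smooth_cover (U := ⟨_, hs⟩) hG hA _ hp
  exact ⟨⟨⟨G, hs'⟩, hA'⟩, e, he⟩

/-- a representable smooth cover by a space makes an etale stack algebraic -/
theorem isAlgStack_etale_of_cover (h𝒰 : FibCat.IsFibGrpd 𝒰.p)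
    (h𝒳 : Stk.IsStack (QuotSh.J Scheme.etalePrecoverage S) 𝒳)
    (hU : AlgSt.RepByAlgSp 𝒰) {u : 𝒰 ⥤ᵇ 𝒳} (hu : AlgSt.RepByAlgSpWith (AlgSp.LocP @Smooth) u)
    (hu₃ : AlgSt.RepByAlgSpWith AlgSp.IsSurjectiveMor u) : IsAlgStack Scheme.etalePrecoverage 𝒳 := by
  refine ⟨h𝒳, (rep1_diag_iff h𝒳.1).2 (rep1_of_rep_cover_etale h𝒰 h𝒳 hU hu hu₃), ?_⟩
  obtain ⟨W, w, hw, hws⟩ := (isDM_of_rep hU).1.atlas
  exact ⟨W, BasedFunctor.comp w u, with_comp goodP_locP (overCat_isFibGrpd W) h𝒰 hw hu,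
    with_comp goodP_surjective (overCat_isFibGrpd W) h𝒰 hws hu₃⟩

end Groth.Agent.StAlg16
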