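import Groth.Agent.Lib.StAlg16.Squares
import Groth.Prelude.Def_AlgSpCov

/-! Properties of morphisms of stacks read on squares of smooth charts. -/

universe u

open CategoryTheory CategoryTheory.Functor CategoryTheory.Limits AlgebraicGeometry Opposite

set_option linter.style.haveILetI false
set_option linter.unusedSectionVars false
set_option backward.isDefEq.respectTransparency false
set_option backward.isDefEq.respectTransparency.types false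

namespace Groth.Agent.StAlg16

open Groth.Agent.FC16 Groth.Agent.StAlg AlgSt

variable {S : Scheme.{u}} {𝒳 𝒴 : AlgSt.Cat S}

theorem with_comp_equiv {Q : MorphismProperty (AlgSp.Sp S)}
    {𝒜 ℬ 𝒞 : BasedCategory.{u, u + 1} (Over S)} {a : 𝒜 ⥤ᵇ ℬ} (ha : FibCat.IsEquivOver a) {g : ℬ ⥤ᵇ 𝒞}
    (hg : AlgSt.RepByAlgSpWith Q g) : AlgSt.RepByAlgSpWith Q (BasedFunctor.comp a g) :=
  (with_congr (f := g) (f' := BasedFunctor.comp a g) (a := a) (b := BasedFunctor.id _) ha isEquivOver_id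
    (Iso.refl _)).1 hg

/-- the chart of `V ×_𝒴 𝒳` coming from a square of charts and a chart of `V ×_𝒴 V₀` -/
theorem exists_mu (h𝒳 : FibCat.IsFibGrpd 𝒳.p) (h𝒴 : FibCat.IsFibGrpd 𝒴.p)
    {f : 𝒳 ⥤ᵇ 𝒴} {U₀ V₀ V V' M : Over S} (y : FibCat.overCat V ⥤ᵇ 𝒴) {x₀ : FibCat.overCat U₀ ⥤ᵇ 𝒳}
    {y₀ : FibCat.overCat V₀ ⥤ᵇ 𝒴} {h₀ : U₀ ⟶ V₀}
    (α₀ : BasedFunctor.comp x₀ f ≅ BasedFunctor.comp (AlgSt.overMap h₀) y₀)
    {w : FibCat.overCat V' ⥤ᵇ FibCat.fp y y₀} {b : V' ⟶ V} {b₀ : V' ⟶ V₀}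
    (jb : BasedFunctor.comp w (FibCat.fpFst y y₀) ≅ AlgSt.overMap b)
    (jb₀ : BasedFunctor.comp w (FibCat.fpSnd y y₀) ≅ AlgSt.overMap b₀)
    {p₁ : M ⟶ U₀} {p₂ : M ⟶ V'} (sq : IsPullback p₁ p₂ h₀ b₀) :
    ∃ μ : FibCat.overCat M ⥤ᵇ FibCat.fp y f,
      Nonempty (BasedFunctor.comp μ (FibCat.fpFst y f) ≅ AlgSt.overMap (p₂ ≫ b)) ∧
      ∀ Q : MorphismProperty (AlgSp.Sp S), GoodP Q → AlgSt.RepByAlgSpWith Q w → AlgSt.RepByAlgSpWith Q x₀ →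
        AlgSt.RepByAlgSpWith Q μ := by
  haveI := idFun_full (𝒳 := 𝒴)
  haveI := idFun_faithful (𝒳 := 𝒴)
  haveI := idFun_full (𝒳 := FibCat.overCat V₀)
  haveI := idFun_faithful (𝒳 := FibCat.overCat V₀)
  let H₀ := AlgSt.overMap h₀
  let σ := FibCat.fpSnd y y₀
  let Γ := fpMap (F := H₀) (G := AlgSt.overMap b₀) (F' := H₀) (G' := BasedFunctor.comp w σ) (a := BasedFunctor.id _)
    (b := BasedFunctor.id _) (s := BasedFunctor.id (FibCat.overCat V₀)) (Iso.refl _) jb₀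
  let Λ := BasedFunctor.comp (overPullback sq.w) Γ
  have hΛ : FibCat.IsEquivOver Λ :=
    isEquivOver_comp (overPullback_isEquivOver sq) (fpMap_isEquivOver _ _ isEquivOver_id isEquivOver_id)
  obtain ⟨E, hE, -, ⟨β⟩⟩ := exists_inverse (pasteL_isEquivOver w σ H₀)
  let E₁ := BasedFunctor.comp (BasedFunctor.comp Λ (fpSwap H₀ (BasedFunctor.comp w σ))) E
  have hE₁ : FibCat.IsEquivOver E₁ := isEquivOver_comp (isEquivOver_comp hΛ (fpSwap_isEquivOver _ _)) hE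
  let T₁ := FibCat.fpSnd w (FibCat.fpFst σ H₀)
  let Θ := fpMap (F := y) (G := BasedFunctor.comp H₀ y₀) (F' := y) (G' := BasedFunctor.comp x₀ f)
    (a := BasedFunctor.id _) (b := BasedFunctor.id _) (s := BasedFunctor.id 𝒴) (Iso.refl _) α₀
  obtain ⟨E', hE', -, ⟨β'⟩⟩ := exists_inverse (pasteR_isEquivOver y f x₀)
  let E₂ := BasedFunctor.comp (BasedFunctor.comp (pasteR y y₀ H₀) Θ) E'
  have hE₂ : FibCat.IsEquivOver E₂ :=
    isEquivOver_comp (isEquivOver_comp (pasteR_isEquivOver _ _ _) (fpMap_isEquivOver _ _ isEquivOver_id isEquivOver_id)) hE'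
  let T₂ := FibCat.fpFst (FibCat.fpSnd y f) x₀
  refine ⟨BasedFunctor.comp (BasedFunctor.comp E₁ T₁) (BasedFunctor.comp E₂ T₂), ⟨?_⟩, fun Q hQ hw hx => ?_⟩
  · let i₂ : BasedFunctor.comp (BasedFunctor.comp E₂ T₂) (FibCat.fpFst y f) ≅
        BasedFunctor.comp (FibCat.fpFst σ H₀) (FibCat.fpFst y y₀) :=
      wlIso (BasedFunctor.comp (pasteR y y₀ H₀) Θ)
        (wrIso β' (FibCat.fpFst y (BasedFunctor.comp x₀ f)))
    let i₁ : BasedFunctor.comp E₁ (FibCat.fpFst w (FibCat.fpFst σ H₀)) ≅ AlgSt.overMap p₂ :=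
      wlIso (BasedFunctor.comp Λ (fpSwap H₀ (BasedFunctor.comp w σ)))
        (wrIso β (FibCat.fpFst (BasedFunctor.comp w σ) H₀))
    exact wlIso (BasedFunctor.comp E₁ T₁) i₂ ≪≫
      wrIso (wlIso E₁ (FibCat.fpIso w (FibCat.fpFst σ H₀)).symm) (FibCat.fpFst y y₀) ≪≫
      wlIso (BasedFunctor.comp E₁ (FibCat.fpFst w (FibCat.fpFst σ H₀))) jb ≪≫
      wrIso i₁ (AlgSt.overMap b) ≪≫ overMapComp p₂ b
  · exact with_comp hQ (overCat_isFibGrpd M)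
      (fp_isFibGrpd (fp_isFibGrpd (overCat_isFibGrpd V) (overCat_isFibGrpd V₀) h𝒴 y y₀) (overCat_isFibGrpd U₀)
        (overCat_isFibGrpd V₀) σ H₀)
      (with_comp_equiv hE₁ (with_fpSnd _ hw)) (with_comp_equiv hE₂ (with_fpFst _ hx))

/-- A smooth square inherits a property read on one square of charts. -/
theorem of_locQ {P : MorphismProperty (AlgSp.Sp S)} (hP : AlgSp.IsSmoothLocalST P)
    (h𝒳 : FibCat.IsFibGrpd 𝒳.p) (h𝒴 : FibCat.IsFibGrpd 𝒴.p) {f : 𝒳 ⥤ᵇ 𝒴} (hf : AlgSt.LocQ P f)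
    {U V : Over S} {y : FibCat.overCat V ⥤ᵇ 𝒴} (hy : AlgSt.RepByAlgSpWith (AlgSp.LocP @Smooth) y)
    {c : FibCat.overCat U ⥤ᵇ FibCat.fp y f} {h : U ⟶ V}
    (j : BasedFunctor.comp c (FibCat.fpFst y f) ≅ AlgSt.overMap h)
    (hc : AlgSt.RepByAlgSpWith (AlgSp.LocP @Smooth) c) : P ((AlgSp.yon S).map h) := by
  obtain ⟨U₀, V₀, x₀, y₀, h₀, α₀, hx₀, hxs₀, hy₀, hh₀⟩ := hf
  obtain ⟨V', w, hw, hws⟩ := exists_fp_chart h𝒴 y (repByAlgSp1_of_with hy₀)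
  obtain ⟨b, ⟨jb⟩⟩ := exists_overMap_iso (BasedFunctor.comp w (FibCat.fpFst y y₀))
  obtain ⟨b₀, ⟨jb₀⟩⟩ := exists_overMap_iso (BasedFunctor.comp w (FibCat.fpSnd y y₀))
  have hfp₀ := fp_isFibGrpd (overCat_isFibGrpd V) (overCat_isFibGrpd V₀) h𝒴 y y₀
  have hb : Smooth b.left := of_with_locP_overMap b
    (with_of_iso jb (with_comp goodP_locP (overCat_isFibGrpd V') hfp₀ (hw @Smooth) (with_fpFst y hy₀)))
  have hb₀ : Smooth b₀.left := of_with_locP_overMap b₀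
    (with_of_iso jb₀ (with_comp goodP_locP (overCat_isFibGrpd V') hfp₀ (hw @Smooth) (with_fpSnd y₀ hy)))
  have sq := IsPullback.of_hasPullback h₀ b₀
  obtain ⟨μ, ⟨jμ⟩, hμ⟩ := exists_mu h𝒳 h𝒴 y α₀ jb jb₀ sq
  have hμsm := hμ _ goodP_locP (hw @Smooth) hx₀
  have hμsu := hμ _ goodP_surjective hws hxs₀
  have hfp := fp_isFibGrpd (overCat_isFibGrpd V) h𝒳 h𝒴 y f
  obtain ⟨W, k, l, ⟨i⟩, hsq, hP'⟩ := exists_chart_square hfp (repByAlgSp1_of_with hc) _ μ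
  have hl : Smooth l.left := (hP' @Smooth).2 hμsm
  have key : k ≫ pullback.snd h₀ b₀ ≫ b = l ≫ h := eq_of_overMap_iso
    ((overMapComp k _).symm ≪≫ wlIso (AlgSt.overMap k) jμ.symm ≪≫ wrIso i (FibCat.fpFst y f) ≪≫
      wlIso (AlgSt.overMap l) j ≪≫ overMapComp l h)
  have hU := AlgSp.IsAlgSpace.yon_obj U
  have hV := AlgSp.IsAlgSpace.yon_obj V
  refine (hP.locality hU hV _).2 fun z => ?_
  obtain ⟨t, rfl⟩ := (AlgSp.Points.schemeHomeo U).surjective z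
  obtain ⟨m, hm⟩ := surjective_ofChart hfp hμsu (Points.ofChart c t)
  obtain ⟨o, -, ho⟩ := hsq m t hm
  refine ⟨(AlgSp.yon S).obj W, (AlgSp.yon S).obj V', (AlgSp.yon S).map l, (AlgSp.yon S).map b,
    (AlgSp.yon S).map (k ≫ pullback.snd h₀ b₀), AlgSp.Points.schemeHomeo W o,
    AlgSp.IsAlgSpace.yon_obj W, AlgSp.IsAlgSpace.yon_obj V',
    AlgSpace.locP_of_repWith hU ((AlgSp.repWith_yon_map_iff _ _).2 hl),
    AlgSpace.locP_of_repWith hV ((AlgSp.repWith_yon_map_iff _ _).2 hb), ?_, ?_, ?_⟩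
  · rw [← Functor.map_comp, ← Functor.map_comp, Category.assoc, key]
  · exact (AlgSp.Points.map_yon_map_apply l o).trans (congrArg _ ho)
  · rw [Functor.map_comp]
    have hM := AlgSp.IsAlgSpace.yon_obj (Limits.pullback h₀ b₀)
    have hV' := AlgSp.IsAlgSpace.yon_obj V'
    refine hP.precomp (AlgSp.IsAlgSpace.yon_obj W) hM hV' _ _
      (AlgSpace.locP_of_repWith hM ((AlgSp.repWith_yon_map_iff _ _).2 ((hP' @Smooth).1 hc))) ?_
    exact hP.baseChange (AlgSp.IsAlgSpace.yon_obj U₀) (AlgSp.IsAlgSpace.yon_obj V₀) hM hV' _ ((AlgSp.yon S).map b₀) _ _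
      (sq.map (AlgSp.yon S))
      (AlgSpace.locP_of_repWith (AlgSp.IsAlgSpace.yon_obj V₀) ((AlgSp.repWith_yon_map_iff _ _).2 hb₀)) hh₀

end Groth.Agent.StAlg16
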