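import Groth.Agent.Lib.StAlg16.OpenSub
import Groth.Agent.Lib.StAlg16.LocPInst

/-! The largest open substack on which a morphism has a smooth-local property. -/

universe u w

open CategoryTheory CategoryTheory.Functor CategoryTheory.Limits AlgebraicGeometry Opposite

set_option linter.style.haveILetI false
set_option linter.unusedSectionVars false
set_option backward.isDefEq.respectTransparency false
set_option backward.isDefEq.respectTransparency.types false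

namespace Groth.Agent.StAlg16

open Groth.Agent.FC16 Groth.Agent.StAlg AlgSt

variable {S : Scheme.{u}} {𝒳 𝒳' 𝒴 : AlgSt.Cat S} {P : MorphismProperty (AlgSp.Sp S)}

/-- the restriction of `k` to opens -/
noncomputable abbrev openRes {U U' : Over S} (k : U' ⟶ U) (O : U.left.Opens) (O' : U'.left.Opens)
    (h : O' ≤ k.left ⁻¹ᵁ O) : openPart O' ⟶ openPart O :=
  Over.homMk (k.left.resLE O O' h) (by
    show _ ≫ O.ι ≫ U.hom = O'.ι ≫ U'.hom
    rw [Scheme.Hom.resLE_comp_ι_assoc, Over.w k])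

theorem openRes_comp {U U' : Over S} (k : U' ⟶ U) (O : U.left.Opens) (O' : U'.left.Opens)
    (h : O' ≤ k.left ⁻¹ᵁ O) : openRes k O O' h ≫ openIncl O = openIncl O' ≫ k :=
  Over.OverMorphism.ext (Scheme.Hom.resLE_comp_ι k.left h)

theorem locP_smooth_openRes {U U' : Over S} (k : U' ⟶ U) [Smooth k.left] (O : U.left.Opens) (O' : U'.left.Opens)
    (h : O' ≤ k.left ⁻¹ᵁ O) : AlgSp.LocP @Smooth ((AlgSp.yon S).map (openRes k O O' h)) :=
  (locP_yon_iff _).2 (IsZariskiLocalAtSource.resLE (P := @Smooth) h inferInstance)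

theorem with_id_overCat {R : MorphismProperty Scheme.{u}} [AlgSpace.EtaleLocal R] [R.ContainsIdentities]
    (U : Over S) : AlgSt.RepByAlgSpWith (AlgSp.LocP R) (BasedFunctor.id (FibCat.overCat U)) :=
  (with_congr (f := AlgSt.overMap (𝟙 U)) (a := BasedFunctor.id _) (b := BasedFunctor.id _) isEquivOver_id
    isEquivOver_id (BasedNatIso.mkNatIso (NatIso.ofComponents (fun b => Over.isoMk (Iso.refl _) (by
      show 𝟙 _ ≫ b.hom ≫ 𝟙 U = b.hom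
      simp)))
      (fun b => IsHomLift.of_fac' _ _ _ rfl rfl (by simp; rfl)))).1 (with_locP_overMap (𝟙 U) (R.id_mem _))

/-- descent of `P` along a family of smooth morphisms to an open -/
theorem prop_of_covered (hP : AlgSp.IsSmoothLocalST P) {A V : Over S} (h : A ⟶ V)
    (H : ∀ t : ↥A.left, ∃ (B : Over S) (a : B ⟶ A) (s : ↥B.left), Smooth a.left ∧ a.left s = t ∧
      P ((AlgSp.yon S).map (a ≫ h))) : P ((AlgSp.yon S).map h) := by
  refine (hP.locality (AlgSp.IsAlgSpace.yon_obj A) (AlgSp.IsAlgSpace.yon_obj V) _).2 fun z => ?_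
  obtain ⟨t, rfl⟩ := (AlgSp.Points.schemeHomeo A).surjective z
  obtain ⟨B, a, s, ha, hs, hh⟩ := H t
  refine ⟨_, _, (AlgSp.yon S).map a, 𝟙 _, (AlgSp.yon S).map (a ≫ h), AlgSp.Points.schemeHomeo B s,
    AlgSp.IsAlgSpace.yon_obj B, AlgSp.IsAlgSpace.yon_obj V, (locP_yon_iff a).2 ha,
    AlgSpace.locP_id (AlgSp.IsAlgSpace.yon_obj V), ?_, ?_, hh⟩
  · rw [Functor.map_comp, Category.comp_id]
  · rw [AlgSp.Points.map_yon_map_apply, hs]

/-- composing squares, keeping track of the chart of the source -/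
theorem exists_comp_chart' {𝒵 : AlgSt.Cat S} (h𝒳 : FibCat.IsFibGrpd 𝒳.p) (h𝒴 : FibCat.IsFibGrpd 𝒴.p)
    (h𝒵 : FibCat.IsFibGrpd 𝒵.p) {f : 𝒳 ⥤ᵇ 𝒴} {g : 𝒴 ⥤ᵇ 𝒵} {U V W : Over S} {z : FibCat.overCat W ⥤ᵇ 𝒵}
    {cg : FibCat.overCat V ⥤ᵇ FibCat.fp z g} {l : V ⟶ W}
    (jg : BasedFunctor.comp cg (FibCat.fpFst z g) ≅ AlgSt.overMap l)
    {c : FibCat.overCat U ⥤ᵇ FibCat.fp (BasedFunctor.comp cg (FibCat.fpSnd z g)) f} {h : U ⟶ V}
    (j : BasedFunctor.comp c (FibCat.fpFst (BasedFunctor.comp cg (FibCat.fpSnd z g)) f) ≅ AlgSt.overMap h) :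
    ∃ c' : FibCat.overCat U ⥤ᵇ FibCat.fp z (BasedFunctor.comp f g),
      Nonempty (BasedFunctor.comp c' (FibCat.fpFst z (BasedFunctor.comp f g)) ≅ AlgSt.overMap (h ≫ l)) ∧
      Nonempty (BasedFunctor.comp c' (FibCat.fpSnd z (BasedFunctor.comp f g)) ≅
        BasedFunctor.comp c (FibCat.fpSnd (BasedFunctor.comp cg (FibCat.fpSnd z g)) f)) ∧
      ∀ Q : MorphismProperty (AlgSp.Sp S), GoodP Q → AlgSt.RepByAlgSpWith Q cg → AlgSt.RepByAlgSpWith Q c →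
        AlgSt.RepByAlgSpWith Q c' := by
  obtain ⟨E, hE, -, ⟨β⟩⟩ := exists_inverse (pasteL_isEquivOver cg (FibCat.fpSnd z g) f)
  let T := FibCat.fpSnd cg (FibCat.fpFst (FibCat.fpSnd z g) f)
  let c' := BasedFunctor.comp (BasedFunctor.comp c (BasedFunctor.comp E T)) (pasteR z g f)
  refine ⟨c', ⟨?_⟩, ⟨?_⟩, fun Q hQ hg hc => ?_⟩
  · exact wlIso (BasedFunctor.comp c E)
        (wrIso (FibCat.fpIso cg (FibCat.fpFst (FibCat.fpSnd z g) f)).symm (FibCat.fpFst z g)) ≪≫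
      wlIso (BasedFunctor.comp (BasedFunctor.comp c E) (FibCat.fpFst cg _)) jg ≪≫
      wrIso (wlIso c (wrIso β (FibCat.fpFst (BasedFunctor.comp cg (FibCat.fpSnd z g)) f)) ≪≫ j) (AlgSt.overMap l) ≪≫
      overMapComp h l
  · exact wlIso c (wrIso β (FibCat.fpSnd (BasedFunctor.comp cg (FibCat.fpSnd z g)) f))
  · exact with_equiv_comp (pasteR_isEquivOver z g f)
      (with_comp hQ (overCat_isFibGrpd U)
        (fp_isFibGrpd (overCat_isFibGrpd V) h𝒳 h𝒴 _ f) hc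
        (with_comp_equiv hE (with_fpSnd _ hg)))

section Chart

variable {f : 𝒳 ⥤ᵇ 𝒴} {U V : Over S} {y : FibCat.overCat V ⥤ᵇ 𝒴}
  {c : FibCat.overCat U ⥤ᵇ FibCat.fp y f} {h : U ⟶ V}

/-- `P` on an open substack, read on a good square -/
theorem locQ_qsub_iff (hP : AlgSp.IsSmoothLocalST P) (h𝒳 : IsAlgStack Scheme.fppfPrecoverage 𝒳)
    (h𝒴 : IsAlgStack Scheme.fppfPrecoverage 𝒴) (hy : AlgSt.RepByAlgSpWith (AlgSp.LocP @Smooth) y)
    (hys : AlgSt.RepByAlgSpWith AlgSp.IsSurjectiveMor y)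
    (j : BasedFunctor.comp c (FibCat.fpFst y f) ≅ AlgSt.overMap h)
    (hc : AlgSt.RepByAlgSpWith (AlgSp.LocP @Smooth) c) (hcs : AlgSt.RepByAlgSpWith AlgSp.IsSurjectiveMor c)
    {T : Set (Points 𝒳)} (hT : IsOpen T) {O : U.left.Opens}
    (hO : (O : Set U.left) = Points.ofChart (BasedFunctor.comp c (FibCat.fpSnd y f)) ⁻¹' T) :
    AlgSt.LocQ P (BasedFunctor.comp (AlgSt.subIncl 𝒳 (Qsub T)) f) ↔ P ((AlgSp.yon S).map (openIncl O ≫ h)) := by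
  have hA := isAlgStack_fullSub_qsub hT h𝒳
  obtain ⟨O₁, E, hO₁, hE, hE'⟩ := exists_fp_subIncl hT h𝒳 (BasedFunctor.comp c (FibCat.fpSnd y f))
  obtain rfl : O = O₁ := TopologicalSpace.Opens.ext (hO.trans hO₁.symm)
  obtain ⟨c', ⟨j'⟩, hc'⟩ := exists_comp_chart hA.isStack.1 h𝒳.isStack.1 h𝒴.isStack.1
    (f := AlgSt.subIncl 𝒳 (Qsub T)) j (c := E) (eqToIso hE')
  have hE₁ : AlgSt.RepByAlgSpWith (AlgSp.LocP @Smooth) E := with_equiv_comp hE (with_id_overCat _)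
  have hE₂ : AlgSt.RepByAlgSpWith AlgSp.IsSurjectiveMor E :=
    with_surjective_of_isSurjective (overCat_isFibGrpd _)
      (fp_isFibGrpd (overCat_isFibGrpd U) hA.isStack.1 h𝒳.isStack.1 _ _) (repByAlgSp1_of_with hE₁)
      (map_bijective hE).2
  exact iff_of_good hP hA.isStack.1 h𝒴.isStack.1 hy hys j'
    (hc' _ goodP_locP hc hE₁) (hc' _ goodP_surjective hcs hE₂)

end Chart

/-- the largest open substack on which `f` has `P` -/
theorem exists_largest_locQ (hP : AlgSp.IsSmoothLocalST P) (h𝒳 : IsAlgStack Scheme.fppfPrecoverage 𝒳)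
    (h𝒴 : IsAlgStack Scheme.fppfPrecoverage 𝒴) (f : 𝒳 ⥤ᵇ 𝒴) :
    ∃ T : Set (Points 𝒳), IsOpen T ∧ AlgSt.LocQ P (BasedFunctor.comp (AlgSt.subIncl 𝒳 (Qsub T)) f) ∧
      ∀ T', IsOpen T' → AlgSt.LocQ P (BasedFunctor.comp (AlgSt.subIncl 𝒳 (Qsub T')) f) → T' ⊆ T := by
  obtain ⟨V, y, hy, hys⟩ := h𝒴.atlas
  obtain ⟨U, h, c, ⟨j⟩, hc, hcs⟩ := exists_good h𝒳 h𝒴 f y
  let x := BasedFunctor.comp c (FibCat.fpSnd y f)
  let 𝒯 : Set (Set (Points 𝒳)) :=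
    {T | IsOpen T ∧ AlgSt.LocQ P (BasedFunctor.comp (AlgSt.subIncl 𝒳 (Qsub T)) f)}
  have hopen : IsOpen (⋃₀ 𝒯) := isOpen_sUnion fun T hT => hT.1
  refine ⟨⋃₀ 𝒯, hopen, ?_, fun T' hT' h' => Set.subset_sUnion_of_mem (show T' ∈ 𝒯 from ⟨hT', h'⟩)⟩
  let pre : ∀ {T : Set (Points 𝒳)}, IsOpen T → U.left.Opens := fun {T} hT =>
    ⟨Points.ofChart x ⁻¹' T, hT.preimage (continuous_ofChart h𝒳 x)⟩
  refine (locQ_qsub_iff hP h𝒳 h𝒴 hy hys j hc hcs hopen (O := pre hopen) rfl).2 (prop_of_covered hP _ fun t => ?_)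
  obtain ⟨T, hT, ht⟩ := t.2
  have hle : pre hT.1 ≤ (𝟙 U : U ⟶ U).left ⁻¹ᵁ pre hopen := fun s hs => Set.subset_sUnion_of_mem hT hs
  refine ⟨_, openRes (𝟙 U) (pre hopen) (pre hT.1) hle, ⟨t.1, ht⟩,
    IsZariskiLocalAtSource.resLE (P := @Smooth) hle inferInstance, ?_, ?_⟩
  · exact (pre hopen).ι.injective
      (congrArg (fun q : (pre hT.1).toScheme ⟶ U.left => q ⟨t.1, ht⟩) (Scheme.Hom.resLE_comp_ι (𝟙 U : U ⟶ U).left hle))
  · rw [← Category.assoc, openRes_comp, Category.comp_id]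
    exact (locQ_qsub_iff hP h𝒳 h𝒴 hy hys j hc hcs hT.1 (O := pre hT.1) rfl).1 hT.2

theorem exists_largest_substack_locQ (hP : AlgSp.IsSmoothLocalST P) (h𝒳 : IsAlgStack Scheme.fppfPrecoverage 𝒳)
    (h𝒴 : IsAlgStack Scheme.fppfPrecoverage 𝒴) (f : 𝒳 ⥤ᵇ 𝒴) :
    ∃ Q : 𝒳.obj → Prop, AlgSt.IsOpenSubstack 𝒳 Q Scheme.fppfPrecoverage ∧
      AlgSt.LocQ P (BasedFunctor.comp (AlgSt.subIncl 𝒳 Q) f) ∧
      ∀ Q' : 𝒳.obj → Prop, AlgSt.IsOpenSubstack 𝒳 Q' Scheme.fppfPrecoverage →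
        AlgSt.LocQ P (BasedFunctor.comp (AlgSt.subIncl 𝒳 Q') f) → ∀ a, Q' a → Q a := by
  obtain ⟨T, hT, hTP, hmax⟩ := exists_largest_locQ hP h𝒳 h𝒴 f
  refine ⟨Qsub T, isOpenSubstack_qsub hT h𝒳, hTP, fun Q' hQ' h' a ha => ?_⟩
  have e : Q' = Qsub (Set.range (Points.map (AlgSt.subIncl 𝒳 Q'))) :=
    funext fun b => propext (substack_eq_qsub h𝒳 hQ' b)
  refine qsub_mono (hmax _ (isOpen_range_subIncl h𝒳 hQ') ?_) ((substack_eq_qsub h𝒳 hQ' a).1 ha)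
  rw [← e]
  exact h'

section Precomp

variable {g : 𝒳' ⥤ᵇ 𝒳} {f : 𝒳 ⥤ᵇ 𝒴}

/-- inverse and direct image of an open set with `P` along a smooth morphism -/
theorem locQ_qsub_comp_smooth_iff (hP : AlgSp.IsSmoothLocalST P) (h𝒳' : IsAlgStack Scheme.fppfPrecoverage 𝒳')
    (h𝒳 : IsAlgStack Scheme.fppfPrecoverage 𝒳) (h𝒴 : IsAlgStack Scheme.fppfPrecoverage 𝒴)
    (hg : AlgSt.LocQ (AlgSp.LocP @Smooth) g) {T : Set (Points 𝒳)} (hT : IsOpen T) :
    (AlgSt.LocQ P (BasedFunctor.comp (AlgSt.subIncl 𝒳 (Qsub T)) f) →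
        AlgSt.LocQ P (BasedFunctor.comp (AlgSt.subIncl 𝒳' (Qsub (Points.map g ⁻¹' T))) (BasedFunctor.comp g f))) ∧
      ∀ T' : Set (Points 𝒳'), IsOpen T' → Points.map g '' T' = T →
        AlgSt.LocQ P (BasedFunctor.comp (AlgSt.subIncl 𝒳' (Qsub T')) (BasedFunctor.comp g f)) →
        AlgSt.LocQ P (BasedFunctor.comp (AlgSt.subIncl 𝒳 (Qsub T)) f) := by
  have gX' := h𝒳'.isStack.1; have gX := h𝒳.isStack.1; have gY := h𝒴.isStack.1
  obtain ⟨V, y, hy, hys⟩ := h𝒴.atlas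
  obtain ⟨U, h, c, ⟨j⟩, hc, hcs⟩ := exists_good h𝒳 h𝒴 f y
  let x := BasedFunctor.comp c (FibCat.fpSnd y f)
  have hx := with_fpSnd_chart goodP_locP gX gY hc hy
  obtain ⟨U', k, d, ⟨i⟩, hd, hds⟩ := exists_good h𝒳' h𝒳 g x
  haveI : Smooth k.left := (locP_yon_iff k).1 (of_locQ isSmoothLocalST_smooth gX' gX hg hx i hd)
  obtain ⟨c', ⟨j'⟩, ⟨i₂⟩, hc'⟩ := exists_comp_chart' gX' gX gY j i
  let x' := BasedFunctor.comp c' (FibCat.fpSnd y (BasedFunctor.comp g f))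
  have hc'₁ := hc' _ goodP_locP hc hd
  have hc'₂ := hc' _ goodP_surjective hcs hds
  have hxx : ∀ s, Points.map g (Points.ofChart x' s) = Points.ofChart x (k.left s) := fun s => by
    rw [ofChart_congr i₂, ← ofChart_overMap, ← ofChart_congr (squareIso i), ofChart_eq, ofChart_eq, ← map_comp_apply]
  let O : U.left.Opens := ⟨Points.ofChart x ⁻¹' T, hT.preimage (continuous_ofChart h𝒳 x)⟩
  constructor
  · intro hTP
    have hT' : IsOpen (Points.map g ⁻¹' T) := hT.preimage (continuous_map h𝒳 g)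
    let O' : U'.left.Opens := k.left ⁻¹ᵁ O
    refine (locQ_qsub_iff hP h𝒳' h𝒴 hy hys j' hc'₁ hc'₂ hT' (O := O') ?_).2 ?_
    · ext s
      exact (iff_of_eq (congrArg (· ∈ T) (hxx s))).symm
    · rw [← Category.assoc, ← openRes_comp k O O' le_rfl, Category.assoc, Functor.map_comp]
      exact hP.precomp (AlgSp.IsAlgSpace.yon_obj _) (AlgSp.IsAlgSpace.yon_obj _) (AlgSp.IsAlgSpace.yon_obj _) _ _
        (locP_smooth_openRes k O O' le_rfl) ((locQ_qsub_iff hP h𝒳 h𝒴 hy hys j hc hcs hT (O := O) rfl).1 hTP)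
  · intro T' hT' himg hTP
    let O' : U'.left.Opens := ⟨Points.ofChart x' ⁻¹' T', hT'.preimage (continuous_ofChart h𝒳' x')⟩
    have hle : O' ≤ k.left ⁻¹ᵁ O := fun s hs => by
      show Points.ofChart x (k.left s) ∈ T
      rw [← hxx, ← himg]
      exact ⟨_, hs, rfl⟩
    refine (locQ_qsub_iff hP h𝒳 h𝒴 hy hys j hc hcs hT (O := O) rfl).2 (prop_of_covered hP _ fun t => ?_)
    obtain ⟨z, hz, hzt⟩ : Points.ofChart x t.1 ∈ Points.map g '' T' := by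
      rw [himg]
      exact t.2
    obtain ⟨s, hs, hst⟩ : ∃ s, k.left s = t.1 ∧ Points.ofChart x' s = z := by
      obtain ⟨w, hw₁, hw₂⟩ := exists_fp_point gX' gX (overCat_isFibGrpd U) g x (Points.mk (chartPt U t.1)) z hzt.symm
      obtain ⟨o, ho⟩ := surjective_ofChart (fp_isFibGrpd (overCat_isFibGrpd U) gX' gX x g) hds w
      refine ⟨o, ?_, ?_⟩
      · rw [← ho, ofChart_eq, ← map_comp_apply, map_eq_map_of_iso i, map_overMap_chartPt] at hw₁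
        simpa only [ptOf_chartPt] using congrArg ptOf hw₁
      · rw [ofChart_congr i₂, ofChart_eq, map_comp_apply, ← ofChart_eq, ho, hw₂]
    have hs' : s ∈ O' := show Points.ofChart x' s ∈ T' from hst ▸ hz
    refine ⟨_, openRes k O O' hle, ⟨s, hs'⟩,
      IsZariskiLocalAtSource.resLE (P := @Smooth) hle inferInstance, ?_, ?_⟩
    · exact O.ι.injective ((congrArg (fun q : O'.toScheme ⟶ U.left => q ⟨s, hs'⟩)
        (Scheme.Hom.resLE_comp_ι k.left hle)).trans hs)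
    · rw [← Category.assoc, openRes_comp, Category.assoc]
      exact (locQ_qsub_iff hP h𝒳' h𝒴 hy hys j' hc'₁ hc'₂ hT' (O := O') rfl).1 hTP

theorem qsub_preimage_iff (h𝒳' : FibCat.IsFibGrpd 𝒳'.p) (h𝒳 : FibCat.IsFibGrpd 𝒳.p) (g : 𝒳' ⥤ᵇ 𝒳)
    (T : Set (Points 𝒳)) (a : 𝒳'.obj) : Qsub T (g.obj a) ↔ Qsub (Points.map g ⁻¹' T) a := by
  refine ⟨fun h p φ => h (p.map g) (g.map φ), fun h => ?_⟩
  haveI := FC16.isFibered h𝒳'
  let U := 𝒳'.p.obj a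
  let x : FibCat.overCat U ⥤ᵇ 𝒳' := ofObj (x := a) (U := U) rfl
  refine qsub_of_hom (g.map (ofObjIso (x := a) (U := U) rfl).inv)
    ((qsub_obj_iff h𝒳 T (BasedFunctor.comp x g) (Over.mk (𝟙 U))).2 fun t => ?_)
  have ht := (qsub_obj_iff h𝒳' _ x (Over.mk (𝟙 U))).1 (qsub_of_hom (ofObjIso (x := a) (U := U) rfl).hom h) t
  rw [ofChart_eq, map_comp_apply]
  exact ht

/-- formation of the largest open substack with `P` commutes with smooth precomposition -/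
theorem largest_comp_smooth (hP : AlgSp.IsSmoothLocalST P) (h𝒳' : IsAlgStack Scheme.fppfPrecoverage 𝒳')
    (h𝒳 : IsAlgStack Scheme.fppfPrecoverage 𝒳) (h𝒴 : IsAlgStack Scheme.fppfPrecoverage 𝒴)
    (hg : AlgSt.LocQ (AlgSp.LocP @Smooth) g) (Q : 𝒳.obj → Prop)
    (hQ₁ : AlgSt.IsOpenSubstack 𝒳 Q Scheme.fppfPrecoverage)
    (hQ₂ : AlgSt.LocQ P (BasedFunctor.comp (AlgSt.subIncl 𝒳 Q) f))
    (hQ₃ : ∀ Q' : 𝒳.obj → Prop, AlgSt.IsOpenSubstack 𝒳 Q' Scheme.fppfPrecoverage →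
      AlgSt.LocQ P (BasedFunctor.comp (AlgSt.subIncl 𝒳 Q') f) → ∀ a, Q' a → Q a) :
    AlgSt.IsOpenSubstack 𝒳' (fun a ↦ Q (g.obj a)) Scheme.fppfPrecoverage ∧
      AlgSt.LocQ P (BasedFunctor.comp (AlgSt.subIncl 𝒳' (fun a ↦ Q (g.obj a))) (BasedFunctor.comp g f)) ∧
      ∀ Q' : 𝒳'.obj → Prop, AlgSt.IsOpenSubstack 𝒳' Q' Scheme.fppfPrecoverage →
        AlgSt.LocQ P (BasedFunctor.comp (AlgSt.subIncl 𝒳' Q') (BasedFunctor.comp g f)) →
        ∀ a, Q' a → Q (g.obj a) := by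
  have gX' := h𝒳'.isStack.1; have gX := h𝒳.isStack.1
  have hT := isOpen_range_subIncl h𝒳 hQ₁
  have e : Q = Qsub (Set.range (Points.map (AlgSt.subIncl 𝒳 Q))) := funext fun b => propext (substack_eq_qsub h𝒳 hQ₁ b)
  revert hT e
  generalize Set.range (Points.map (AlgSt.subIncl 𝒳 Q)) = T
  intro hT e
  subst e
  have eg : (fun a ↦ Qsub T (g.obj a)) = Qsub (Points.map g ⁻¹' T) :=
    funext fun a => propext (qsub_preimage_iff gX' gX g T a)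
  refine ⟨?_, ?_, fun Q' hQ' h' a ha => ?_⟩
  · rw [eg]
    exact isOpenSubstack_qsub (hT.preimage (continuous_map h𝒳 g)) h𝒳'
  · rw [eg]
    exact (locQ_qsub_comp_smooth_iff hP h𝒳' h𝒳 h𝒴 hg hT).1 hQ₂
  · have hT' := isOpen_range_subIncl h𝒳' hQ'
    have e' : Q' = Qsub (Set.range (Points.map (AlgSt.subIncl 𝒳' Q'))) :=
      funext fun b => propext (substack_eq_qsub h𝒳' hQ' b)
    rw [e'] at h' ha
    have hsm : ∀ ⦃R : MorphismProperty Scheme.{u}⦄ [AlgSpace.EtaleLocal R], @Smooth ≤ R →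
        AlgSt.LocQ (AlgSp.LocP R) g := fun R _ hle => by
      obtain ⟨U, V, x, y, h, α, h1, h2, h3, h4⟩ := hg
      exact ⟨U, V, x, y, h, α, h1, h2, h3, AlgSpace.locP_mono hle h4⟩
    have hopen := (isOpenMor_of_flat_lfp h𝒳' h𝒳 (hsm smooth_le_flat) (hsm smooth_le_lfp)) _ hT'
    have h'' := (locQ_qsub_comp_smooth_iff hP h𝒳' h𝒳 h𝒴 hg hopen).2 _ hT' rfl h'
    refine hQ₃ _ (isOpenSubstack_qsub hopen h𝒳) h'' _ ((qsub_preimage_iff gX' gX g _ a).2 ?_)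
    exact qsub_mono (Set.subset_preimage_image _ _) ha

end Precomp

end Groth.Agent.StAlg16
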