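import Groth.Agent.Lib.StAlg16.Topology
import Mathlib.AlgebraicGeometry.Morphisms.IsIso
import Groth.Agent.Lib.StAlg16.LocQApps

/-! Open substacks and open sets of points. -/

universe u w

open CategoryTheory CategoryTheory.Functor CategoryTheory.Limits AlgebraicGeometry Opposite

set_option linter.style.haveILetI false
set_option linter.unusedSectionVars false
set_option backward.isDefEq.respectTransparency false
set_option backward.isDefEq.respectTransparency.types false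

namespace Groth.Agent.StAlg16

open Groth.Agent.FC16 Groth.Agent.StAlg AlgSt

variable {S : Scheme.{u}} {𝒳 : AlgSt.Cat S}

/-- the objects all whose points lie in `T` -/
def Qsub (T : Set (Points 𝒳)) (a : 𝒳.obj) : Prop := ∀ (p : FPt 𝒳) (_ : p.obj ⟶ a), Points.mk p ∈ T

theorem qsub_of_hom {T : Set (Points 𝒳)} {a b : 𝒳.obj} (φ : a ⟶ b) (h : Qsub T b) : Qsub T a :=
  fun p ψ => h p (ψ ≫ φ)

theorem qsub_closedUnderIso (T : Set (Points 𝒳)) : ObjectProperty.IsClosedUnderIsomorphisms (Qsub T) :=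
  ⟨fun e h => qsub_of_hom e.inv h⟩

theorem qsub_mono {T T' : Set (Points 𝒳)} (h : T ⊆ T') {a : 𝒳.obj} (ha : Qsub T a) : Qsub T' a :=
  fun p φ => h (ha p φ)

theorem qsub_pt {T : Set (Points 𝒳)} {p : FPt 𝒳} (h : Points.mk p ∈ T) : Qsub T p.obj := fun q φ => by
  rwa [Points.sound (p := q) (q := p) ⟨q, 𝟙 _, φ, trivial⟩]

/-- membership, read on a chart -/
theorem qsub_obj_iff (h𝒳 : FibCat.IsFibGrpd 𝒳.p) (T : Set (Points 𝒳)) {U : Over S} (x : FibCat.overCat U ⥤ᵇ 𝒳)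
    (b : (FibCat.overCat U).obj) :
    Qsub T (x.obj b) ↔ ∀ t : ↥b.left.left, Points.ofChart x (b.hom.left t) ∈ T := by
  have key : ∀ q : FPt (FibCat.overCat b.left), Points.mk (q.map (BasedFunctor.comp (AlgSt.overMap b.hom) x)) =
      Points.ofChart x (b.hom.left (ptOf (Points.mk q))) := fun q => by
    rw [← ofChart_overMap, ofChart_eq, mk_chartPt_ptOf]
    rfl
  constructor
  · intro h t
    have e := key (chartPt b.left t)
    rw [ptOf_chartPt] at e
    rw [← e]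
    exact h _ (x.map (Over.homMk (Over.homMk (b.left.left.fromSpecResidueField t) rfl) rfl))
  · intro h p φ
    let m : Over.mk p.str ⟶ b.left := eqToHom p.lies.symm ≫ 𝒳.p.map φ ≫ eqToHom (x.w_obj b)
    haveI h1 : 𝒳.p.IsHomLift m φ := IsHomLift.of_fac 𝒳.p m φ p.lies (x.w_obj b) rfl
    let q : FPt (FibCat.overCat b.left) := ⟨p.K, p.str, Over.mk m, rfl⟩
    let r : FPt 𝒳 := q.map (BasedFunctor.comp (AlgSt.overMap b.hom) x)
    let g : (AlgSt.overMap b.hom).obj (Over.mk m) ⟶ b := Over.homMk m rfl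
    haveI h2 : 𝒳.p.IsHomLift m (x.map g) := by
      haveI : (FibCat.overCat U).p.IsHomLift m g := IsHomLift.map (FibCat.overCat U).p g
      exact BasedFunctor.preserves_isHomLift x m g
    obtain ⟨e, -, -⟩ := exists_iso_of_lifts h𝒳 m (z := p.obj) (z' := r.obj) φ (x.map g)
    rw [show Points.mk p = Points.mk r from Points.sound ⟨p, 𝟙 _, e.hom, trivial⟩, key q]
    exact h _

/-- the open part of a chart -/
noncomputable abbrev openPart {U : Over S} (O : U.left.Opens) : Over S := Over.mk (O.ι ≫ U.hom)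

noncomputable abbrev openIncl {U : Over S} (O : U.left.Opens) : openPart O ⟶ U := Over.homMk O.ι

section Open

variable {T : Set (Points 𝒳)} (hT : IsOpen T)

theorem fullSub_isHomLift_iff {Q : 𝒳.obj → Prop} {a b : (fullSub 𝒳 Q).obj} {U V : Over S} (f : U ⟶ V) (φ : a ⟶ b) :
    (fullSub 𝒳 Q).p.IsHomLift f φ ↔ 𝒳.p.IsHomLift f φ.hom :=
  (BasedFunctor.isHomLift_iff (subIncl 𝒳 Q) f φ).symm

theorem fullSub_isFibGrpd (h𝒳 : FibCat.IsFibGrpd 𝒳.p) {Q : 𝒳.obj → Prop}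
    (hQ : ∀ {a b : 𝒳.obj} (_ : a ⟶ b), Q b → Q a) : FibCat.IsFibGrpd (fullSub 𝒳 Q).p where
  exists_lift {y R} f := by
    obtain ⟨x, φ, h⟩ := h𝒳.exists_lift (x := y.obj) f
    exact ⟨⟨x, hQ φ y.property⟩, ObjectProperty.homMk φ, (fullSub_isHomLift_iff _ _).2 h⟩
  isStronglyCartesian {x y} φ := by
    haveI : 𝒳.p.IsStronglyCartesian ((fullSub 𝒳 Q).p.map φ) φ.hom := h𝒳.isStronglyCartesian φ.hom
    haveI : (fullSub 𝒳 Q).p.IsHomLift ((fullSub 𝒳 Q).p.map φ) φ := IsHomLift.map _ φ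
    refine ⟨fun {a'} g ψ hψ => ?_⟩
    haveI := (fullSub_isHomLift_iff _ _).1 hψ
    obtain ⟨χ, ⟨hχ, hc⟩, hu⟩ := IsStronglyCartesian.universal_property' (p := 𝒳.p)
      (f := (fullSub 𝒳 Q).p.map φ) (φ := φ.hom) g ψ.hom
    refine ⟨ObjectProperty.homMk χ, ⟨(fullSub_isHomLift_iff _ _).2 hχ, ObjectProperty.hom_ext _ hc⟩, fun χ' h' => ?_⟩
    exact ObjectProperty.hom_ext _ (hu χ'.hom
      ⟨(fullSub_isHomLift_iff _ _).1 h'.1, congrArg (fun t => t.hom) h'.2⟩)

include hT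

theorem isStack_fullSub_qsub (h𝒳 : IsAlgStack Scheme.fppfPrecoverage 𝒳) :
    Stk.IsStack (QuotSh.J Scheme.fppfPrecoverage S) (fullSub 𝒳 (Qsub T)) := by
  refine ⟨fullSub_isFibGrpd h𝒳.isStack.1 (fun φ h => qsub_of_hom φ h), fun U R hR => ?_⟩
  haveI : (Stk.resSieve R 𝒳).IsEquivalence := h𝒳.isStack.2 R hR
  let ι := Stk.sieveIncl R
  let j := subIncl 𝒳 (Qsub T)
  haveI : (Stk.resSieve R (fullSub 𝒳 (Qsub T))).Faithful := ⟨fun {G H α β} e => by
    have : BasedCategory.whiskerRight α j = BasedCategory.whiskerRight β j :=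
      (Stk.resSieve R 𝒳).map_injective (congrArg (fun γ => BasedCategory.whiskerRight γ j) e)
    apply BasedNatTrans.homCategory.ext
    apply NatTrans.ext
    funext z
    exact ObjectProperty.hom_ext _ (congrArg (fun δ => δ.toNatTrans.app z) this)⟩
  haveI : (Stk.resSieve R (fullSub 𝒳 (Qsub T))).Full := ⟨fun {G H} γ => by
    obtain ⟨α, hα⟩ := (Stk.resSieve R 𝒳).map_surjective (X := BasedFunctor.comp G j) (Y := BasedFunctor.comp H j)
      (BasedCategory.whiskerRight γ j)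
    refine ⟨{ toNatTrans :=
                { app := fun z => ObjectProperty.homMk (α.toNatTrans.app z)
                  naturality := fun z z' g => ObjectProperty.hom_ext _ (α.toNatTrans.naturality g) }
              isHomLift' := fun z => (fullSub_isHomLift_iff _ _).2 (α.isHomLift' z) }, ?_⟩
    apply BasedNatTrans.homCategory.ext
    apply NatTrans.ext
    funext z
    exact ObjectProperty.hom_ext _ (congrArg (fun δ => δ.toNatTrans.app z) hα)⟩
  haveI : (Stk.resSieve R (fullSub 𝒳 (Qsub T))).EssSurj := ⟨fun t => by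
    let a := (Stk.resSieve R 𝒳).objPreimage (BasedFunctor.comp t j)
    let i : BasedFunctor.comp ι a ≅ BasedFunctor.comp t j := (Stk.resSieve R 𝒳).objObjPreimageIso _
    let O : U.left.Opens := ⟨Points.ofChart a ⁻¹' T, hT.preimage (continuous_ofChart h𝒳 a)⟩
    have hfac : ∀ ⦃Z : Over S⦄ (f : Z ⟶ U), R f → Set.range f.left ⊆ Set.range O.ι := fun Z f hf => by
      rintro _ ⟨z, rfl⟩
      rw [Scheme.Opens.range_ι]
      let s : (Stk.sieveCat R).obj := ⟨Over.mk f, hf⟩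
      have hs : Qsub T (a.obj (Over.mk f)) := qsub_of_hom (appIso i s).hom (t.obj s).property
      exact (qsub_obj_iff h𝒳.isStack.1 T a (Over.mk f)).1 hs z
    have hW : Presieve.IsSheaf (QuotSh.J Scheme.fppfPrecoverage S) (yoneda.obj (openPart O)) :=
      (isStack_overCat_iff _ _).1 (isAlgStack_overCat (openPart O)).isStack
    have hU : Presieve.IsSheaf (QuotSh.J Scheme.fppfPrecoverage S) (yoneda.obj U) :=
      (isStack_overCat_iff _ _).1 (isAlgStack_overCat U).isStack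
    haveI : Mono (openIncl O) := Over.mono_of_mono_left _
    let lift : ∀ ⦃Z : Over S⦄ (f : Z ⟶ U), R f → (Z ⟶ openPart O) := fun Z f hf =>
      Over.homMk (IsOpenImmersion.lift O.ι f.left (hfac f hf)) (by
        show _ ≫ O.ι ≫ U.hom = Z.hom
        rw [IsOpenImmersion.lift_fac_assoc]
        exact Over.w f)
    have lift_fac : ∀ ⦃Z : Over S⦄ (f : Z ⟶ U) (hf : R f), lift f hf ≫ openIncl O = f := fun Z f hf =>
      Over.OverMorphism.ext (IsOpenImmersion.lift_fac _ _ _)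
    let fam : Presieve.FamilyOfElements (yoneda.obj (openPart O)) R.arrows := fun Z f hf => lift f hf
    have hfam : fam.Compatible := fun Y₁ Y₂ Z g₁ g₂ f₁ f₂ h₁ h₂ e => by
      show g₁ ≫ lift f₁ h₁ = g₂ ≫ lift f₂ h₂
      rw [← cancel_mono (openIncl O), Category.assoc, Category.assoc, lift_fac f₁ h₁, lift_fac f₂ h₂]
      exact e
    let s : U ⟶ openPart O := (hW R hR).amalgamate fam hfam
    have hs : s ≫ openIncl O = 𝟙 U := (hU R hR).isSeparatedFor.ext fun Z f hf => by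
      show f ≫ s ≫ openIncl O = f ≫ 𝟙 U
      have e : f ≫ s = lift f hf := (hW R hR).valid_glue hfam f hf
      rw [reassoc_of% e, lift_fac f hf, Category.comp_id]
    have hall : ∀ v : ↥U.left, Points.ofChart a v ∈ T := fun v => by
      have e : O.ι (s.left v) = v := by
        show (s ≫ openIncl O).left v = v
        rw [hs]
        rfl
      rw [← e]
      exact (s.left v).2
    let a' : FibCat.overCat U ⥤ᵇ fullSub 𝒳 (Qsub T) :=
      { toFunctor := ObjectProperty.lift _ a.toFunctor fun b =>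
          (qsub_obj_iff h𝒳.isStack.1 T a b).2 fun t => hall _
        w := a.w }
    exact ⟨a', ⟨BasedNatIso.mkNatIso
      (NatIso.ofComponents (fun z => ObjectProperty.isoMk _ (appIso i z))
        (fun g => ObjectProperty.hom_ext _ (i.hom.toNatTrans.naturality g)))
      (fun z => (fullSub_isHomLift_iff _ _).2 (isHomLift_appIso_hom i z rfl))⟩⟩⟩
  exact { }

/-- the inclusion of the objects with points in an open set is an open immersion, with a chart -/
theorem exists_fp_subIncl (h𝒳 : IsAlgStack Scheme.fppfPrecoverage 𝒳) {U : Over S} (y : FibCat.overCat U ⥤ᵇ 𝒳) :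
    ∃ (O : U.left.Opens) (E : FibCat.overCat (openPart O) ⥤ᵇ FibCat.fp y (subIncl 𝒳 (Qsub T))),
      (O : Set U.left) = Points.ofChart y ⁻¹' T ∧ FibCat.IsEquivOver E ∧
        BasedFunctor.comp E (FibCat.fpFst y (subIncl 𝒳 (Qsub T))) = AlgSt.overMap (openIncl O) := by
  let O : U.left.Opens := ⟨Points.ofChart y ⁻¹' T, hT.preimage (continuous_ofChart h𝒳 y)⟩
  have gX := h𝒳.isStack.1
  let L : FibCat.overCat (openPart O) ⥤ᵇ fullSub 𝒳 (Qsub T) :=
    { toFunctor := ObjectProperty.lift _ (BasedFunctor.comp (AlgSt.overMap (openIncl O)) y).toFunctor fun b =>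
        (qsub_obj_iff gX T y ((AlgSt.overMap (openIncl O)).obj b)).2 fun t => (b.hom.left t).2
      w := (BasedFunctor.comp (AlgSt.overMap (openIncl O)) y).w }
  let E : FibCat.overCat (openPart O) ⥤ᵇ FibCat.fp y (subIncl 𝒳 (Qsub T)) :=
    FibCat.fpLift (AlgSt.overMap (openIncl O)) L
      (Iso.refl (BasedFunctor.comp (AlgSt.overMap (openIncl O)) y))
  refine ⟨O, E, rfl, ?_, rfl⟩
  haveI : Mono (openIncl O) := Over.mono_of_mono_left _
  haveI : E.toFunctor.Faithful := ⟨fun {a b φ φ'} e =>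
    Over.OverMorphism.ext (congrArg (fun t => t.hom.fst.left) e)⟩
  haveI : E.toFunctor.Full := ⟨fun {a b} ψ => by
    have w1 : ψ.hom.fst.left ≫ b.hom ≫ openIncl O = a.hom ≫ openIncl O := Over.w ψ.hom.fst
    rw [← Category.assoc, cancel_mono] at w1
    refine ⟨Over.homMk ψ.hom.fst.left w1, fp_hom_ext (Over.OverMorphism.ext rfl) (ObjectProperty.hom_ext _ ?_)⟩
    have w2 : y.map ψ.hom.fst ≫ 𝟙 _ = 𝟙 _ ≫ ψ.hom.snd.hom := fp_w ψ
    exact (Category.comp_id _).symm.trans (w2.trans (Category.id_comp _))⟩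
  refine isEquivOver_of _ fun η => ?_
  let b : (FibCat.overCat U).obj := η.obj.fst
  have hb : Qsub T (y.obj b) := qsub_of_hom η.obj.iso.hom η.obj.snd.property
  have hr : Set.range b.hom.left ⊆ Set.range O.ι := by
    rintro _ ⟨t, rfl⟩
    rw [Scheme.Opens.range_ι]
    exact (qsub_obj_iff gX T y b).1 hb t
  let l : b.left ⟶ openPart O := Over.homMk (IsOpenImmersion.lift O.ι b.hom.left hr) (by
    show _ ≫ O.ι ≫ U.hom = _
    rw [IsOpenImmersion.lift_fac_assoc]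
    exact Over.w b.hom)
  let o : (FibCat.overCat (openPart O)).obj := Over.mk l
  let a : (AlgSt.overMap (openIncl O)).obj o ≅ b :=
    Over.isoMk (Iso.refl _) ((Category.id_comp _).trans (Over.OverMorphism.ext (IsOpenImmersion.lift_fac _ _ _)).symm)
  refine ⟨o, fpIsoMk a (ObjectProperty.isoMk _ (y.toFunctor.mapIso a ≪≫ η.obj.iso)) ?_,
    @isHomLift_of_fst _ _ _ _ _ _ _ _ _ _ _ _ _ ?_⟩
  · show y.map a.hom ≫ η.obj.iso.hom = 𝟙 _ ≫ (y.map a.hom ≫ η.obj.iso.hom)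
    rw [Category.id_comp]
  · refine IsHomLift.of_fac' _ _ _ rfl rfl ?_
    change 𝟙 _ = _
    simp
    rfl

theorem isOpenImm_subIncl_qsub (h𝒳 : IsAlgStack Scheme.fppfPrecoverage 𝒳) :
    AlgSt.IsOpenImm (subIncl 𝒳 (Qsub T)) := fun U y => by
  obtain ⟨O, E, -, hE, he⟩ := exists_fp_subIncl hT h𝒳 y
  refine ⟨⟨(AlgSp.yon S).obj (openPart O), AlgSp.IsAlgSpace.yon_obj _⟩,
    BasedFunctor.comp (AlgSt.toOverCat (openPart O)) E, isEquivOver_comp (toOverCat_isEquivOver _) hE, ?_⟩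
  have e : AlgSt.spMapOfOver (BasedFunctor.comp (BasedFunctor.comp (AlgSt.toOverCat (openPart O)) E)
      (FibCat.fpFst y (subIncl 𝒳 (Qsub T)))) = (AlgSp.yon S).map (openIncl O) := by
    apply ObjectProperty.hom_ext
    rw [spMapOfOver_hom, show BasedFunctor.comp (BasedFunctor.comp (AlgSt.toOverCat (openPart O)) E)
      (FibCat.fpFst y (subIncl 𝒳 (Qsub T))) = BasedFunctor.comp (AlgSt.toOverCat (openPart O))
        (AlgSt.overMap (openIncl O)) from congrArg (BasedFunctor.comp (AlgSt.toOverCat (openPart O))) he]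
    ext T' x
    rfl
  show AlgSp.RepWith @IsOpenImmersion _
  rw [e]
  exact (AlgSp.repWith_yon_map_iff _ _).2 (inferInstanceAs (IsOpenImmersion O.ι))

theorem isAlgStack_fullSub_qsub (h𝒳 : IsAlgStack Scheme.fppfPrecoverage 𝒳) :
    IsAlgStack Scheme.fppfPrecoverage (fullSub 𝒳 (Qsub T)) := by
  have gX := h𝒳.isStack.1
  have hst := isStack_fullSub_qsub hT h𝒳
  have hj := repByAlgSp1_of_with (isOpenImm_subIncl_qsub hT h𝒳)
  refine ⟨hst, (rep1_diag_iff hst.1).2 (forall_rep1_of_rep1 hst.1 gX hj ((rep1_diag_iff gX).1 h𝒳.diag)), ?_⟩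
  obtain ⟨U, x, hx, hxs⟩ := h𝒳.atlas
  obtain ⟨O, E, -, hE, -⟩ := exists_fp_subIncl hT h𝒳 x
  exact ⟨openPart O, BasedFunctor.comp E (FibCat.fpSnd x (subIncl 𝒳 (Qsub T))),
    with_comp_equiv hE (with_fpSnd _ hx), with_comp_equiv hE (with_fpSnd _ hxs)⟩

theorem isOpenSubstack_qsub (h𝒳 : IsAlgStack Scheme.fppfPrecoverage 𝒳) :
    AlgSt.IsOpenSubstack 𝒳 (Qsub T) Scheme.fppfPrecoverage :=
  ⟨qsub_closedUnderIso T, isAlgStack_fullSub_qsub hT h𝒳, isOpenImm_subIncl_qsub hT h𝒳⟩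

end Open

theorem range_map_subIncl_qsub (T : Set (Points 𝒳)) : Set.range (Points.map (subIncl 𝒳 (Qsub T))) = T := by
  ext z
  constructor
  · rintro ⟨w, rfl⟩
    obtain ⟨p, rfl⟩ := Points.mk_surjective w
    exact p.obj.property (p.map (subIncl 𝒳 (Qsub T))) (𝟙 _)
  · intro hz
    obtain ⟨p, rfl⟩ := Points.mk_surjective z
    exact ⟨Points.mk ⟨p.K, p.str, ⟨p.obj, qsub_pt hz⟩, p.lies⟩, rfl⟩

variable {Q : 𝒳.obj → Prop}

theorem substack_of_hom (h𝒳 : FibCat.IsFibGrpd 𝒳.p) (hQ : AlgSt.IsOpenSubstack 𝒳 Q Scheme.fppfPrecoverage)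
    {a b : 𝒳.obj} (φ : a ⟶ b) (hb : Q b) : Q a := by
  haveI := hQ.1
  haveI h1 : 𝒳.p.IsHomLift (𝒳.p.map φ) φ := IsHomLift.map 𝒳.p φ
  obtain ⟨a', φ', hφ'⟩ := hQ.2.1.isStack.1.exists_lift (x := (⟨b, hb⟩ : (fullSub 𝒳 Q).obj)) (𝒳.p.map φ)
  haveI := (fullSub_isHomLift_iff _ _).1 hφ'
  obtain ⟨e, -, -⟩ := exists_iso_of_lifts h𝒳 (𝒳.p.map φ) φ'.hom φ
  exact ObjectProperty.prop_of_iso Q e a'.property

theorem isOpen_range_subIncl (h𝒳 : IsAlgStack Scheme.fppfPrecoverage 𝒳)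
    (hQ : AlgSt.IsOpenSubstack 𝒳 Q Scheme.fppfPrecoverage) :
    IsOpen (Set.range (Points.map (subIncl 𝒳 Q))) :=
  (isOpenMor_of_flat_lfp hQ.2.1 h𝒳
    (locQ_of_imm (R := @Flat) isSmoothLocalST_flat isLocalOnBase_fppf_locP_flat
      (fun _ _ g (_ : IsOpenImmersion g) => inferInstance) hQ.2.1 h𝒳 hQ.2.2)
    (locQ_of_imm (R := @LocallyOfFinitePresentation) isSmoothLocalST_lfp isLocalOnBase_fppf_locP_lfp
      (fun _ _ g (_ : IsOpenImmersion g) => inferInstance) hQ.2.1 h𝒳 hQ.2.2)).isOpen_range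

/-- an open substack is the substack of its points -/
theorem substack_eq_qsub (h𝒳 : IsAlgStack Scheme.fppfPrecoverage 𝒳)
    (hQ : AlgSt.IsOpenSubstack 𝒳 Q Scheme.fppfPrecoverage) (a : 𝒳.obj) :
    Q a ↔ Qsub (Set.range (Points.map (subIncl 𝒳 Q))) a := by
  have gX := h𝒳.isStack.1
  refine ⟨fun ha p φ => ⟨Points.mk ⟨p.K, p.str, ⟨p.obj, substack_of_hom gX hQ φ ha⟩, p.lies⟩, rfl⟩, fun ha => ?_⟩
  haveI := FC16.isFibered gX
  haveI := hQ.1
  let U := 𝒳.p.obj a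
  let x : FibCat.overCat U ⥤ᵇ 𝒳 := ofObj (x := a) (U := U) rfl
  let j := subIncl 𝒳 Q
  obtain ⟨F, e, he, hk⟩ := hQ.2.2 U x
  let k := AlgSt.spMapOfOver (BasedFunctor.comp e (FibCat.fpFst x j))
  have hk' : AlgSp.RepWith @IsOpenImmersion k := hk
  have sq := hk'.1.isPullback (𝟙 ((AlgSp.yon S).obj U))
  haveI := sq.isIso_fst_of_isIso
  let W := hk'.1.pullback (𝟙 ((AlgSp.yon S).obj U))
  let f₁ := hk'.1.fst (𝟙 ((AlgSp.yon S).obj U))
  let g : W ⟶ U := hk'.1.snd (𝟙 ((AlgSp.yon S).obj U))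
  have hg : IsOpenImmersion g.left := hk'.2 _ _ _ sq
  have hf₁ : FibCat.IsEquivOver (AlgSt.ofSpMap f₁) := by
    haveI : IsIso f₁.hom := inferInstanceAs (IsIso ((sheafToPresheaf (AlgSp.J S) (Type (u + 1))).map f₁))
    exact ofPshMap_isEquivOver f₁.hom
  let E' : FibCat.overCat W ⥤ᵇ FibCat.fp x j :=
    BasedFunctor.comp (BasedFunctor.comp (AlgSt.ofOverCat W) (AlgSt.ofSpMap f₁)) e
  have hE' : FibCat.IsEquivOver E' := isEquivOver_comp (isEquivOver_comp (ofOverCat_isEquivOver W) hf₁) he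
  have hE'g : Nonempty (BasedFunctor.comp E' (FibCat.fpFst x j) ≅ AlgSt.overMap g) := by
    let i : BasedFunctor.comp (AlgSt.ofSpMap k) (AlgSt.toOverCat U) ≅ BasedFunctor.comp e (FibCat.fpFst x j) :=
      wrIso (eqToIso (congrArg Stk.ofPshMap (spMapOfOver_hom (BasedFunctor.comp e (FibCat.fpFst x j)))) ≪≫
        (isoMapOf _).symm) (AlgSt.toOverCat U) ≪≫
        wlIso (BasedFunctor.comp e (FibCat.fpFst x j)) (eqToIso (ofOver_toOver U))
    have e₀ : f₁ ≫ k = (AlgSp.yon S).map g := by rw [sq.w, Category.comp_id]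
    exact ⟨wlIso (BasedFunctor.comp (AlgSt.ofOverCat W) (AlgSt.ofSpMap f₁)) i.symm ≪≫
      wlIso (AlgSt.ofOverCat W) (wrIso (ofSpMapComp f₁ k ≪≫ eqToIso (congrArg AlgSt.ofSpMap e₀)) (AlgSt.toOverCat U)) ≪≫
      wlIso (AlgSt.ofOverCat W) (StAlg.overMapIso g) ≪≫ wrIso (eqToIso (ofOver_toOver W)) (AlgSt.overMap g)⟩
  obtain ⟨ig⟩ := hE'g
  have hsurj : Function.Surjective g.left := fun t => by
    have hq : Qsub (Set.range (Points.map j)) (x.obj (Over.mk (𝟙 U))) :=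
      qsub_of_hom (ofObjIso (x := a) (U := U) rfl).hom ha
    have ht : Points.ofChart x t ∈ Set.range (Points.map j) :=
      (qsub_obj_iff gX _ x (Over.mk (𝟙 U))).1 hq t
    obtain ⟨w, hw⟩ := ht
    obtain ⟨z, hz, -⟩ := exists_fp_point hQ.2.1.isStack.1 gX (overCat_isFibGrpd U) j x (Points.mk (chartPt U t)) w hw.symm
    obtain ⟨o, rfl⟩ := (map_bijective hE').2 z
    refine ⟨ptOf o, ?_⟩
    rw [← ptOf_map_overMap, ← map_eq_map_of_iso ig, map_comp_apply, hz, ptOf_chartPt]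
  haveI := hg
  haveI : Surjective g.left := ⟨hsurj⟩
  haveI : IsIso g.left := (isIso_iff_isOpenImmersion_and_surjective g.left).2 ⟨inferInstance, inferInstance⟩
  haveI : IsIso g := by
    haveI : IsIso ((Over.forget S).map g) := inferInstanceAs (IsIso g.left)
    exact isIso_of_reflects_iso g (Over.forget S)
  let z := E'.obj (Over.mk (𝟙 W))
  let c : Over.mk (𝟙 U) ≅ z.obj.fst :=
    (Over.isoMk (asIso g).symm (by
      show inv g ≫ 𝟙 W ≫ g = 𝟙 U
      simp) : Over.mk (𝟙 U) ≅ (AlgSt.overMap g).obj (Over.mk (𝟙 W))) ≪≫ (appIso ig (Over.mk (𝟙 W))).symm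
  exact ObjectProperty.prop_of_iso Q
    ((ofObjIso (x := a) (U := U) rfl).symm ≪≫ x.toFunctor.mapIso c ≪≫ z.obj.iso).symm z.obj.snd.property

theorem bijOn_open_substacks (h𝒳 : IsAlgStack Scheme.fppfPrecoverage 𝒳) :
    Set.BijOn (fun Q : 𝒳.obj → Prop => Set.range (Points.map (subIncl 𝒳 Q)))
      {Q | AlgSt.IsOpenSubstack 𝒳 Q Scheme.fppfPrecoverage} {T | IsOpen T} :=
  ⟨fun Q hQ => isOpen_range_subIncl h𝒳 hQ,
    fun Q hQ Q' hQ' (e : Set.range _ = Set.range _) => funext fun a => propext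
      ((substack_eq_qsub h𝒳 hQ a).trans ((iff_of_eq (by rw [e])).trans (substack_eq_qsub h𝒳 hQ' a).symm)),
    fun T hT => ⟨Qsub T, isOpenSubstack_qsub hT h𝒳, range_map_subIncl_qsub T⟩⟩

theorem substack_le_iff (h𝒳 : IsAlgStack Scheme.fppfPrecoverage 𝒳) {Q' : 𝒳.obj → Prop}
    (hQ : AlgSt.IsOpenSubstack 𝒳 Q Scheme.fppfPrecoverage) (hQ' : AlgSt.IsOpenSubstack 𝒳 Q' Scheme.fppfPrecoverage) :
    (∀ y, Q y → Q' y) ↔
      Set.range (Points.map (subIncl 𝒳 Q)) ⊆ Set.range (Points.map (subIncl 𝒳 Q')) := by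
  constructor
  · rintro h _ ⟨w, rfl⟩
    obtain ⟨p, rfl⟩ := Points.mk_surjective w
    exact ⟨Points.mk ⟨p.K, p.str, ⟨p.obj.obj, h _ p.obj.property⟩, p.lies⟩, rfl⟩
  · exact fun h a ha => (substack_eq_qsub h𝒳 hQ' a).2 (qsub_mono h ((substack_eq_qsub h𝒳 hQ a).1 ha))

end Groth.Agent.StAlg16
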