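import Groth.Agent.Lib.StAlg.Stack
import Groth.Agent.Lib.StAlg.Descent
import Groth.Agent.S10104

/-! Algebraic stacks in setoids are algebraic spaces. -/

universe v₄ u₄ v₃ u₃ v₂ u₂ u

open CategoryTheory CategoryTheory.Functor CategoryTheory.Limits AlgebraicGeometry Opposite

set_option linter.style.haveILetI false
set_option linter.unusedSectionVars false
set_option backward.isDefEq.respectTransparency false
set_option backward.isDefEq.respectTransparency.types false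

namespace Groth.Agent.StAlg16

open Groth.Agent.FC16 Groth.Agent.StAlg

variable {S : Scheme.{u}}

theorem repBySpWith_inf {P Q : MorphismProperty (AlgSp.Sp S)} {F G : AlgSp.PSp S} {a : F ⟶ G}
    (hP : AlgSp.RepBySpWith P a) (hQ : AlgSp.RepBySpWith Q a) : AlgSp.RepBySpWith (P ⊓ Q) a := by
  intro U ξ F' fst snd sq
  obtain ⟨h, hA, hp⟩ := hP ξ fst snd sq
  obtain ⟨_, _, hq⟩ := hQ ξ fst snd sq
  exact ⟨h, hA, hp, hq⟩

theorem rep_of_isFibSetoid {𝒳 : AlgSt.Cat S} (h𝒳 : AlgSt.IsAlgStack Scheme.fppfPrecoverage 𝒳)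
    (hs : FibCat.IsFibSetoid 𝒳.p) : AlgSt.RepByAlgSp 𝒳 := by
  obtain ⟨G, e, he⟩ := exists_psh.{u + 1} hs
  have hG : Presieve.IsSheaf (QuotSh.J Scheme.fppfPrecoverage S) G :=
    (isStack_ofPsh_iff _ G).1 ((isStack_iff_of_isEquivOver _ he).2 h𝒳.isStack)
  let F : AlgSp.Sp S := ⟨G, (isSheaf_iff_isSheaf_of_type _ _).2 hG⟩
  obtain ⟨U, x, hsm, hsu⟩ := h𝒳.atlas
  obtain ⟨e', he', ⟨α⟩, ⟨β⟩⟩ := exists_inverse he
  let Φ : AlgSt.ofSch U ⥤ᵇ Stk.ofPsh G := BasedFunctor.comp (BasedFunctor.comp (AlgSt.toOverCat U) x) e'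
  let p : (AlgSp.yon S).obj U ⟶ F := ObjectProperty.homMk (mapOf Φ)
  have key : ∀ {P : MorphismProperty (AlgSp.Sp S)}, PreIso P → AlgSt.RepByAlgSpWith P x →
      AlgSp.RepBySpWith P p.hom := fun {P} hPi h =>
    repBySpWith_of_with hPi ((with_congr (f := x) (f' := Stk.ofPshMap (mapOf Φ)) (a := AlgSt.toOverCat U)
      (b := e) (toOverCat_isEquivOver U) he
      (wrIso (isoMapOf Φ).symm e ≪≫ wlIso (BasedFunctor.comp (AlgSt.toOverCat U) x) β)).1 h)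
  have hp : AlgSp.RepBySpWith
      (AlgSp.IsSurjectiveMor ⊓ AlgSp.LocP @Flat ⊓ AlgSp.LocP @LocallyOfFinitePresentation) p.hom :=
    repBySpWith_inf (repBySpWith_inf (key goodP_surjective.preIso hsu)
      (key (goodP_locP (P := @Flat)).preIso (with_locP_mono smooth_le_flat hsm)))
      (key (goodP_locP (P := @LocallyOfFinitePresentation)).preIso (with_locP_mono smooth_le_lfp hsm))
  have hF : AlgSp.IsAlgSpace F :=
    S10104.result S F ⟨(AlgSp.yon S).obj U, AlgSp.IsAlgSpace.yon_obj U⟩ p hp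
  exact ⟨⟨F, hF⟩, e, he⟩

/-- An algebraic stack is an algebraic space iff it is fibred in setoids. -/
theorem isFibSetoid_iff_rep {𝒳 : AlgSt.Cat S} (h𝒳 : AlgSt.IsAlgStack Scheme.fppfPrecoverage 𝒳) :
    FibCat.IsFibSetoid 𝒳.p ↔ AlgSt.RepByAlgSp 𝒳 :=
  ⟨rep_of_isFibSetoid h𝒳, isFibSetoid_of_rep⟩

/-- Faithful morphisms of algebraic stacks are representable by algebraic spaces. -/
theorem rep1_of_faithful {𝒳 𝒴 : AlgSt.Cat S} (h𝒳 : AlgSt.IsAlgStack Scheme.fppfPrecoverage 𝒳)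
    (h𝒴 : AlgSt.IsAlgStack Scheme.fppfPrecoverage 𝒴) (f : 𝒳 ⥤ᵇ 𝒴) [f.toFunctor.Faithful] :
    AlgSt.RepByAlgSp1 f := fun U y =>
  rep_of_isFibSetoid (isAlgStack_fp h𝒴.isStack h𝒴.diag (isDM_of_rep (rep_overCat U)).1 h𝒳 y f)
    (isFibSetoid_fp_of_faithful y f (isFibSetoid_of_rep (rep_overCat U)) h𝒳.isStack.1 h𝒴.isStack.1)

theorem faithful_iff_rep1 {𝒳 𝒴 : AlgSt.Cat S} (h𝒳 : AlgSt.IsAlgStack Scheme.fppfPrecoverage 𝒳)
    (h𝒴 : AlgSt.IsAlgStack Scheme.fppfPrecoverage 𝒴) (f : 𝒳 ⥤ᵇ 𝒴) :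
    f.toFunctor.Faithful ↔ AlgSt.RepByAlgSp1 f :=
  ⟨fun _ => rep1_of_faithful h𝒳 h𝒴 f, faithful_of_rep1 h𝒳.isStack.1 h𝒴.isStack.1⟩

end Groth.Agent.StAlg16
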