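import Groth.Agent.Lib.StAlg16.LocQ

/-! Squares of charts with smooth map to the fibre product: existence and operations. -/

universe u

open CategoryTheory CategoryTheory.Functor CategoryTheory.Limits AlgebraicGeometry Opposite

set_option linter.style.haveILetI false
set_option linter.unusedSectionVars false
set_option backward.isDefEq.respectTransparency false
set_option backward.isDefEq.respectTransparency.types false

namespace Groth.Agent.StAlg16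

open Groth.Agent.FC16 Groth.Agent.StAlg AlgSt

variable {S : Scheme.{u}} {𝒳 𝒴 𝒵 : AlgSt.Cat S}

theorem with_equiv_comp {Q : MorphismProperty (AlgSp.Sp S)}
    {𝒜 ℬ 𝒞 : BasedCategory.{u, u + 1} (Over S)} {g : 𝒜 ⥤ᵇ ℬ} {b : ℬ ⥤ᵇ 𝒞} (hb : FibCat.IsEquivOver b)
    (hg : AlgSt.RepByAlgSpWith Q g) : AlgSt.RepByAlgSpWith Q (BasedFunctor.comp g b) := by
  obtain ⟨b', hb', ⟨α⟩, -⟩ := exists_inverse hb
  exact (with_congr (f := g) (f' := BasedFunctor.comp g b) (a := BasedFunctor.id _) (b := b') isEquivOver_id hb'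
    (wlIso g α)).1 hg

theorem isAlgStack_overCat (V : Over S) : IsAlgStack Scheme.fppfPrecoverage (FibCat.overCat V) :=
  (isDM_of_rep (rep_overCat V)).1

/-- over every chart of the target there is a square with smooth surjective map to the fibre product -/
theorem exists_good (h𝒳 : IsAlgStack Scheme.fppfPrecoverage 𝒳) (h𝒴 : IsAlgStack Scheme.fppfPrecoverage 𝒴)
    (f : 𝒳 ⥤ᵇ 𝒴) {V : Over S} (y : FibCat.overCat V ⥤ᵇ 𝒴) :
    ∃ (U : Over S) (h : U ⟶ V) (c : FibCat.overCat U ⥤ᵇ FibCat.fp y f),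
      Nonempty (BasedFunctor.comp c (FibCat.fpFst y f) ≅ AlgSt.overMap h) ∧
      AlgSt.RepByAlgSpWith (AlgSp.LocP @Smooth) c ∧ AlgSt.RepByAlgSpWith AlgSp.IsSurjectiveMor c := by
  obtain ⟨U, c, hsm, hsu⟩ := (StAlg.isAlgStack_fp h𝒴.isStack h𝒴.diag (isAlgStack_overCat V) h𝒳 y f).atlas
  obtain ⟨h, hh⟩ := exists_overMap_iso (BasedFunctor.comp c (FibCat.fpFst y f))
  exact ⟨U, h, c, hh, hsm, hsu⟩

theorem with_fpSnd_chart {Q : MorphismProperty (AlgSp.Sp S)} (hQ : GoodP Q) (h𝒳 : FibCat.IsFibGrpd 𝒳.p)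
    (h𝒴 : FibCat.IsFibGrpd 𝒴.p) {f : 𝒳 ⥤ᵇ 𝒴} {U V : Over S} {y : FibCat.overCat V ⥤ᵇ 𝒴}
    {c : FibCat.overCat U ⥤ᵇ FibCat.fp y f} (hc : AlgSt.RepByAlgSpWith Q c) (hy : AlgSt.RepByAlgSpWith Q y) :
    AlgSt.RepByAlgSpWith Q (BasedFunctor.comp c (FibCat.fpSnd y f)) :=
  with_comp hQ (overCat_isFibGrpd U) (fp_isFibGrpd (overCat_isFibGrpd V) h𝒳 h𝒴 y f) hc (with_fpSnd f hy)

/-- the 2-commutativity of a square -/
noncomputable def squareIso {f : 𝒳 ⥤ᵇ 𝒴} {U V : Over S} {y : FibCat.overCat V ⥤ᵇ 𝒴}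
    {c : FibCat.overCat U ⥤ᵇ FibCat.fp y f} {h : U ⟶ V}
    (j : BasedFunctor.comp c (FibCat.fpFst y f) ≅ AlgSt.overMap h) :
    BasedFunctor.comp (BasedFunctor.comp c (FibCat.fpSnd y f)) f ≅ BasedFunctor.comp (AlgSt.overMap h) y :=
  wlIso c (FibCat.fpIso y f).symm ≪≫ wrIso j y

theorem locQ_of_good {P : MorphismProperty (AlgSp.Sp S)} (h𝒳 : FibCat.IsFibGrpd 𝒳.p) (h𝒴 : FibCat.IsFibGrpd 𝒴.p)
    {f : 𝒳 ⥤ᵇ 𝒴} {U V : Over S} {y : FibCat.overCat V ⥤ᵇ 𝒴} (hy : AlgSt.RepByAlgSpWith (AlgSp.LocP @Smooth) y)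
    (hys : AlgSt.RepByAlgSpWith AlgSp.IsSurjectiveMor y)
    {c : FibCat.overCat U ⥤ᵇ FibCat.fp y f} {h : U ⟶ V}
    (j : BasedFunctor.comp c (FibCat.fpFst y f) ≅ AlgSt.overMap h)
    (hc : AlgSt.RepByAlgSpWith (AlgSp.LocP @Smooth) c) (hcs : AlgSt.RepByAlgSpWith AlgSp.IsSurjectiveMor c)
    (hh : P ((AlgSp.yon S).map h)) : AlgSt.LocQ P f :=
  ⟨U, V, _, y, h, squareIso j, with_fpSnd_chart goodP_locP h𝒳 h𝒴 hc hy,
    with_fpSnd_chart goodP_surjective h𝒳 h𝒴 hcs hys, hy, hh⟩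

/-- composing squares -/
theorem exists_comp_chart (h𝒳 : FibCat.IsFibGrpd 𝒳.p) (h𝒴 : FibCat.IsFibGrpd 𝒴.p) (h𝒵 : FibCat.IsFibGrpd 𝒵.p)
    {f : 𝒳 ⥤ᵇ 𝒴} {g : 𝒴 ⥤ᵇ 𝒵} {U V W : Over S} {z : FibCat.overCat W ⥤ᵇ 𝒵}
    {cg : FibCat.overCat V ⥤ᵇ FibCat.fp z g} {l : V ⟶ W}
    (jg : BasedFunctor.comp cg (FibCat.fpFst z g) ≅ AlgSt.overMap l)
    {c : FibCat.overCat U ⥤ᵇ FibCat.fp (BasedFunctor.comp cg (FibCat.fpSnd z g)) f} {h : U ⟶ V}
    (j : BasedFunctor.comp c (FibCat.fpFst (BasedFunctor.comp cg (FibCat.fpSnd z g)) f) ≅ AlgSt.overMap h) :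
    ∃ c' : FibCat.overCat U ⥤ᵇ FibCat.fp z (BasedFunctor.comp f g),
      Nonempty (BasedFunctor.comp c' (FibCat.fpFst z (BasedFunctor.comp f g)) ≅ AlgSt.overMap (h ≫ l)) ∧
      ∀ Q : MorphismProperty (AlgSp.Sp S), GoodP Q → AlgSt.RepByAlgSpWith Q cg → AlgSt.RepByAlgSpWith Q c →
        AlgSt.RepByAlgSpWith Q c' := by
  obtain ⟨E, hE, -, ⟨β⟩⟩ := exists_inverse (pasteL_isEquivOver cg (FibCat.fpSnd z g) f)
  let T := FibCat.fpSnd cg (FibCat.fpFst (FibCat.fpSnd z g) f)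
  let c' := BasedFunctor.comp (BasedFunctor.comp c (BasedFunctor.comp E T)) (pasteR z g f)
  refine ⟨c', ⟨?_⟩, fun Q hQ hg hc => ?_⟩
  · exact wlIso (BasedFunctor.comp c E)
        (wrIso (FibCat.fpIso cg (FibCat.fpFst (FibCat.fpSnd z g) f)).symm (FibCat.fpFst z g)) ≪≫
      wlIso (BasedFunctor.comp (BasedFunctor.comp c E) (FibCat.fpFst cg _)) jg ≪≫
      wrIso (wlIso c (wrIso β (FibCat.fpFst (BasedFunctor.comp cg (FibCat.fpSnd z g)) f)) ≪≫ j) (AlgSt.overMap l) ≪≫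
      overMapComp h l
  · exact with_equiv_comp (pasteR_isEquivOver z g f)
      (with_comp hQ (overCat_isFibGrpd U)
        (fp_isFibGrpd (overCat_isFibGrpd V) h𝒳 h𝒴 _ f) hc
        (with_comp_equiv hE (with_fpSnd _ hg)))

/-- base change of a square along a morphism of charts -/
theorem exists_bc_chart {f : 𝒳 ⥤ᵇ 𝒴} {U V V' M : Over S} {y : FibCat.overCat V ⥤ᵇ 𝒴}
    {c : FibCat.overCat U ⥤ᵇ FibCat.fp y f} {h : U ⟶ V}
    (j : BasedFunctor.comp c (FibCat.fpFst y f) ≅ AlgSt.overMap h)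
    {b : V' ⟶ V} {p₁ : M ⟶ U} {p₂ : M ⟶ V'} (sq : IsPullback p₁ p₂ h b) :
    ∃ c' : FibCat.overCat M ⥤ᵇ FibCat.fp (BasedFunctor.comp (AlgSt.overMap b) y) f,
      Nonempty (BasedFunctor.comp c' (FibCat.fpFst (BasedFunctor.comp (AlgSt.overMap b) y) f) ≅ AlgSt.overMap p₂) ∧
      ∀ Q : MorphismProperty (AlgSp.Sp S), AlgSt.RepByAlgSpWith Q c → AlgSt.RepByAlgSpWith Q c' := by
  haveI := idFun_full (𝒳 := FibCat.overCat V)
  haveI := idFun_faithful (𝒳 := FibCat.overCat V)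
  let B := AlgSt.overMap b
  let π := FibCat.fpFst y f
  obtain ⟨E, hE, -, ⟨β⟩⟩ := exists_inverse (pasteR_isEquivOver B π c)
  let Γ := fpMap (F := B) (G := AlgSt.overMap h) (F' := B) (G' := BasedFunctor.comp c π) (a := BasedFunctor.id _)
    (b := BasedFunctor.id _) (s := BasedFunctor.id (FibCat.overCat V)) (Iso.refl _) j
  let Λ := BasedFunctor.comp (overPullback sq.flip.w) Γ
  have hΛ : FibCat.IsEquivOver Λ :=
    isEquivOver_comp (overPullback_isEquivOver sq.flip) (fpMap_isEquivOver _ _ isEquivOver_id isEquivOver_id)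
  let T := FibCat.fpFst (FibCat.fpSnd B π) c
  refine ⟨BasedFunctor.comp (BasedFunctor.comp (BasedFunctor.comp Λ E) T) (pasteL B y f), ⟨?_⟩, fun Q hQ => ?_⟩
  · exact wlIso Λ (wrIso β (FibCat.fpFst B (BasedFunctor.comp c π))) ≪≫
      (Iso.refl _ : BasedFunctor.comp Λ (FibCat.fpFst B (BasedFunctor.comp c π)) ≅ AlgSt.overMap p₂)
  · exact with_equiv_comp (pasteL_isEquivOver B y f)
      (with_comp_equiv (isEquivOver_comp hΛ hE) (with_fpFst _ hQ))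

/-- replacing the chart of the target by an isomorphic one -/
theorem exists_iso_chart {f : 𝒳 ⥤ᵇ 𝒴} {U V : Over S} {y y' : FibCat.overCat V ⥤ᵇ 𝒴} (i : y' ≅ y)
    {c : FibCat.overCat U ⥤ᵇ FibCat.fp y f} {h : U ⟶ V}
    (j : BasedFunctor.comp c (FibCat.fpFst y f) ≅ AlgSt.overMap h) :
    ∃ c' : FibCat.overCat U ⥤ᵇ FibCat.fp y' f,
      Nonempty (BasedFunctor.comp c' (FibCat.fpFst y' f) ≅ AlgSt.overMap h) ∧
      ∀ Q : MorphismProperty (AlgSp.Sp S), AlgSt.RepByAlgSpWith Q c → AlgSt.RepByAlgSpWith Q c' := by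
  haveI := idFun_full (𝒳 := 𝒴)
  haveI := idFun_faithful (𝒳 := 𝒴)
  let M := fpMap (F := y) (G := f) (F' := y') (G' := f) (a := BasedFunctor.id _) (b := BasedFunctor.id _)
    (s := BasedFunctor.id 𝒴) i (Iso.refl _)
  exact ⟨BasedFunctor.comp c M, ⟨j⟩, fun Q h =>
    with_equiv_comp (fpMap_isEquivOver _ _ isEquivOver_id isEquivOver_id) h⟩

/-- squares for a base change of the morphism -/
theorem exists_fst_chart {f : 𝒳 ⥤ᵇ 𝒴} {g : 𝒵 ⥤ᵇ 𝒴} {U V : Over S} {z : FibCat.overCat V ⥤ᵇ 𝒵}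
    {c : FibCat.overCat U ⥤ᵇ FibCat.fp (BasedFunctor.comp z g) f} {h : U ⟶ V}
    (j : BasedFunctor.comp c (FibCat.fpFst (BasedFunctor.comp z g) f) ≅ AlgSt.overMap h) :
    ∃ c' : FibCat.overCat U ⥤ᵇ FibCat.fp z (FibCat.fpFst g f),
      Nonempty (BasedFunctor.comp c' (FibCat.fpFst z (FibCat.fpFst g f)) ≅ AlgSt.overMap h) ∧
      ∀ Q : MorphismProperty (AlgSp.Sp S), AlgSt.RepByAlgSpWith Q c → AlgSt.RepByAlgSpWith Q c' := by
  obtain ⟨E, hE, -, ⟨β⟩⟩ := exists_inverse (pasteL_isEquivOver z g f)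
  exact ⟨BasedFunctor.comp c E, ⟨wlIso c (wrIso β (FibCat.fpFst (BasedFunctor.comp z g) f)) ≪≫ j⟩,
    fun Q h => with_equiv_comp hE h⟩

theorem iff_of_good {P : MorphismProperty (AlgSp.Sp S)} (hP : AlgSp.IsSmoothLocalST P) (h𝒳 : FibCat.IsFibGrpd 𝒳.p)
    (h𝒴 : FibCat.IsFibGrpd 𝒴.p)
    {f : 𝒳 ⥤ᵇ 𝒴} {U V : Over S} {y : FibCat.overCat V ⥤ᵇ 𝒴} (hy : AlgSt.RepByAlgSpWith (AlgSp.LocP @Smooth) y)
    (hys : AlgSt.RepByAlgSpWith AlgSp.IsSurjectiveMor y)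
    {c : FibCat.overCat U ⥤ᵇ FibCat.fp y f} {h : U ⟶ V}
    (j : BasedFunctor.comp c (FibCat.fpFst y f) ≅ AlgSt.overMap h)
    (hc : AlgSt.RepByAlgSpWith (AlgSp.LocP @Smooth) c) (hcs : AlgSt.RepByAlgSpWith AlgSp.IsSurjectiveMor c) :
    AlgSt.LocQ P f ↔ P ((AlgSp.yon S).map h) :=
  ⟨fun hf => of_locQ hP h𝒳 h𝒴 hf hy j hc, locQ_of_good h𝒳 h𝒴 hy hys j hc hcs⟩

theorem locQ_iff_forall {P : MorphismProperty (AlgSp.Sp S)} (hP : AlgSp.IsSmoothLocalST P)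
    (h𝒳 : IsAlgStack Scheme.fppfPrecoverage 𝒳) (h𝒴 : IsAlgStack Scheme.fppfPrecoverage 𝒴) (f : 𝒳 ⥤ᵇ 𝒴) :
    AlgSt.LocQ P f ↔
      ∀ (U V : Over S) (x : FibCat.overCat U ⥤ᵇ 𝒳) (y : FibCat.overCat V ⥤ᵇ 𝒴) (h : U ⟶ V)
        (α : BasedFunctor.comp x f ≅ BasedFunctor.comp (AlgSt.overMap h) y),
        AlgSt.RepByAlgSpWith (AlgSp.LocP @Smooth) x → AlgSt.RepByAlgSpWith (AlgSp.LocP @Smooth) y →
        AlgSt.RepByAlgSpWith (AlgSp.LocP @Smooth) (FibCat.fpLift x (AlgSt.overMap h) α) → P ((AlgSp.yon S).map h) := by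
  constructor
  · intro hf U V x y h α _ hy hL
    exact of_locQ hP h𝒳.isStack.1 h𝒴.isStack.1 hf hy
      (c := BasedFunctor.comp (FibCat.fpLift x (AlgSt.overMap h) α) (fpSwap f y)) (h := h)
      (Iso.refl _) (with_equiv_comp (fpSwap_isEquivOver f y) hL)
  · intro H
    obtain ⟨V, y, hy, hys⟩ := h𝒴.atlas
    obtain ⟨U, h, c, ⟨j⟩, hc, hcs⟩ := exists_good h𝒳 h𝒴 f y
    refine locQ_of_good h𝒳.isStack.1 h𝒴.isStack.1 hy hys j hc hcs
      (H U V _ y h (squareIso j) (with_fpSnd_chart goodP_locP h𝒳.isStack.1 h𝒴.isStack.1 hc hy) hy ?_)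
    let i : BasedFunctor.comp c (fpSwap y f) ≅
        FibCat.fpLift (BasedFunctor.comp c (FibCat.fpSnd y f)) (AlgSt.overMap h) (squareIso j) :=
      BasedNatIso.mkNatIso
        (NatIso.ofComponents (fun T => fpIsoMk (Iso.refl _) (appIso j T) (by
          show f.map (𝟙 _) ≫ ((c.obj T).obj.iso.inv ≫ y.map (appIso j T).hom) =
            (c.obj T).obj.iso.inv ≫ y.map (appIso j T).hom
          simp)) (fun {T T'} φ => fp_hom_ext
            (by show (c.map φ).hom.snd ≫ 𝟙 _ = 𝟙 _ ≫ (c.map φ).hom.snd; simp)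
            (j.hom.toNatTrans.naturality φ)))
        (fun T => @isHomLift_of_fst _ _ _ _ _ _ _ _ _ _ _ _ _
          (IsHomLift.id ((BasedFunctor.comp c (FibCat.fpSnd y f)).w_obj T)))
    exact with_of_iso i (with_equiv_comp (fpSwap_isEquivOver y f) hc)

end Groth.Agent.StAlg16
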