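import Groth.Agent.Lib.StAlg16.OpenSub
import Groth.Agent.Lib.StAlg16.SubstackLift
import Groth.Agent.Lib.StAlg16.GoodSquares
import Groth.Agent.Lib.AlgSpDescent.RepBase2
import Groth.Agent.Lib.AlgSpace.ImmDescent

/-! The largest open substack on which a representable morphism has a property. -/

universe u

open CategoryTheory CategoryTheory.Functor CategoryTheory.Limits AlgebraicGeometry Opposite

set_option linter.style.haveILetI false
set_option linter.unusedSectionVars false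
set_option backward.isDefEq.respectTransparency false
set_option backward.isDefEq.respectTransparency.types false

namespace Groth.Agent.StAlg16

open Groth.Agent.FC16 Groth.Agent.StAlg AlgSt

variable {S : Scheme.{u}} {𝒳 𝒴 : AlgSt.Cat S} {P Q R : MorphismProperty (AlgSp.Sp S)}

/-- `w` is the largest open subspace on which `a` has `P` -/
def MaxOpen (P : MorphismProperty (AlgSp.Sp S)) {X Y W : AlgSp.Space S} (a : X ⟶ Y) (w : W ⟶ X) : Prop :=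
  AlgSp.RepWith @IsOpenImmersion w.hom ∧ P (w ≫ a).hom ∧
    ∀ (W₁ : AlgSp.Space S) (w₁ : W₁ ⟶ X), AlgSp.RepWith @IsOpenImmersion w₁.hom → P (w₁ ≫ a).hom →
      ∃ k : W₁ ⟶ W, k ≫ w = w₁

/-- existence of largest open subspaces -/
def HasLargest (P Q : MorphismProperty (AlgSp.Sp S)) : Prop :=
  ∀ (X Y : AlgSp.Space S) (f : X ⟶ Y), Q f.hom → ∃ (W : AlgSp.Space S) (w : W ⟶ X), MaxOpen P f w

/-- largest open subspaces commute with base change -/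
def LargestBC (P Q R : MorphismProperty (AlgSp.Sp S)) : Prop :=
  ∀ (X Y X' Y' : AlgSp.Space S) (f : X ⟶ Y) (g : Y' ⟶ Y) (f' : X' ⟶ Y') (g' : X' ⟶ X),
    IsPullback g'.hom f'.hom f.hom g.hom → Q f.hom → R g.hom →
    ∀ (W : AlgSp.Space S) (w : W ⟶ X), MaxOpen P f w →
      ∀ (W' : AlgSp.Space S) (w' : W' ⟶ X') (k : W' ⟶ W), IsPullback k.hom w'.hom w.hom g'.hom →
        MaxOpen P f' w'

theorem isLocalOnBase_fppf_repWith_openImm :
    AlgSp.IsLocalOnBase (AlgSp.IsFppfCover (S := S)) (AlgSp.RepWith @IsOpenImmersion) :=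
  isLocalOnBase_fppf_of_fpqc AlgSpDescent.isLocalOnBase_fpqc_repWith_isOpenImmersion

theorem pbP_repWith_openImm : PbP (AlgSp.RepWith (S := S) @IsOpenImmersion) :=
  fun _ _ _ _ _ _ _ _ _ _ _ _ sq h => AlgSpace.repWith_of_isPullback sq h

/-- the property of a base change of a morphism with the property -/
theorem prop_of_baseChange (hPb : PbP P) (hP : AlgSp.IsLocalOnBase AlgSp.IsFppfCover P) {f : 𝒳 ⥤ᵇ 𝒴}
    (hf : AlgSt.RepByAlgSpWith P f) {A Z : AlgSp.Space S} {z : AlgSt.ofSp Z.obj ⥤ᵇ 𝒴}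
    {a : A ⟶ Z} {e : AlgSt.ofSp A.obj ⥤ᵇ FibCat.fp z f} (he : FibCat.IsEquivOver e)
    (i : BasedFunctor.comp e (FibCat.fpFst z f) ≅ AlgSt.ofSpMap a.hom) : P a.hom :=
  desc_of_local hP A.property Z.property a.hom (repBySpWith_of_with (preIso_of_pullback hPb)
    ((with_congr (f := FibCat.fpFst z f) (f' := AlgSt.ofSpMap a.hom) (a := e) (b := BasedFunctor.id _) he
      isEquivOver_id i.symm).1 (with_fpFst z hf)))

/-- `T` is the set of points of the largest open subspace of a base change of `f` on which it has `P` -/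
def IsPLocus (P : MorphismProperty (AlgSp.Sp S)) (f : 𝒳 ⥤ᵇ 𝒴) {Z : AlgSp.Space S} (z : AlgSt.ofSp Z.obj ⥤ᵇ 𝒴)
    (T : Set (Points (FibCat.fp z f))) : Prop :=
  ∃ (A : AlgSp.Space S) (a : A ⟶ Z) (e : AlgSt.ofSp A.obj ⥤ᵇ FibCat.fp z f) (W : AlgSp.Space S) (w : W ⟶ A),
    FibCat.IsEquivOver e ∧ Nonempty (BasedFunctor.comp e (FibCat.fpFst z f) ≅ AlgSt.ofSpMap a.hom) ∧
      MaxOpen P a w ∧ ∀ q, Points.map e q ∈ T ↔ spPts q ∈ Set.range (AlgSp.Points.map w.hom)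

theorem exists_isPLocus (hQb : PbP Q) (hQ : AlgSp.IsLocalOnBase AlgSp.IsFppfCover Q)
    (h𝒳 : FibCat.IsFibGrpd 𝒳.p) (h𝒴 : FibCat.IsFibGrpd 𝒴.p) {f : 𝒳 ⥤ᵇ 𝒴}
    (hf : AlgSt.RepByAlgSpWith Q f) (h₃ : HasLargest P Q) {Z : AlgSp.Space S} (z : AlgSt.ofSp Z.obj ⥤ᵇ 𝒴) :
    ∃ T, IsPLocus P f z T := by
  obtain ⟨A, a, e, he, ⟨i⟩, ha⟩ := exists_baseChange_space hQb hQ h𝒳 h𝒴 hf Z z
  obtain ⟨W, w, hw⟩ := h₃ A Z a ha
  refine ⟨Points.map e '' (spPts ⁻¹' Set.range (AlgSp.Points.map w.hom)), A, a, e, W, w, he, ⟨i⟩, hw, fun q => ?_⟩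
  exact (map_bijective he).1.mem_set_image

theorem IsPLocus.subset (hPb : PbP P) {f : 𝒳 ⥤ᵇ 𝒴} {Z : AlgSp.Space S} {z : AlgSt.ofSp Z.obj ⥤ᵇ 𝒴}
    {T T' : Set (Points (FibCat.fp z f))} (h : IsPLocus P f z T) (h' : IsPLocus P f z T') : T ⊆ T' := by
  obtain ⟨A, a, e, W, w, he, ⟨i⟩, ⟨hw, hwP, -⟩, hT⟩ := h
  obtain ⟨A', a', e', W', w', he', ⟨i'⟩, ⟨-, -, hmax⟩, hT'⟩ := h'
  obtain ⟨G, hG, -, ⟨β⟩⟩ := exists_inverse he'
  let Φ := BasedFunctor.comp e G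
  have hΦ : FibCat.IsEquivOver Φ := isEquivOver_comp he hG
  let φ : A ⟶ A' := ObjectProperty.homMk (ObjectProperty.homMk (mapOf Φ))
  haveI : IsIso φ.hom.hom := isIso_mapOf hΦ
  haveI : IsIso φ.hom := by
    haveI : IsIso ((sheafToPresheaf (AlgSp.J S) (Type (u + 1))).map φ.hom) := inferInstanceAs (IsIso φ.hom.hom)
    exact isIso_of_reflects_iso φ.hom (sheafToPresheaf (AlgSp.J S) (Type (u + 1)))
  let iφ : BasedFunctor.comp (AlgSt.ofSpMap φ.hom) e' ≅ e :=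
    wrIso (isoMapOf Φ).symm e' ≪≫ wlIso e β
  have hφa : φ ≫ a' = a := by
    apply ObjectProperty.hom_ext
    apply ObjectProperty.hom_ext
    have e₁ := mapOf_congr (P := A.obj.obj) (Q := Z.obj.obj)
      (wlIso (AlgSt.ofSpMap φ.hom) i'.symm ≪≫ wrIso iφ (FibCat.fpFst z f) ≪≫ i)
    rw [mapOf_comp, mapOf_ofPshMap, mapOf_ofPshMap, mapOf_ofPshMap] at e₁
    exact e₁
  have hwφ : AlgSp.RepWith @IsOpenImmersion (w ≫ φ).hom := (MorphismProperty.cancel_right_of_respectsIso _ _ _).2 hw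
  obtain ⟨k, hk⟩ := hmax W (w ≫ φ) hwφ (by rw [Category.assoc, hφa]; exact hwP)
  intro x hx
  obtain ⟨q, rfl⟩ := (map_bijective he).2 x
  obtain ⟨o, ho⟩ := (hT q).1 hx
  rw [← map_eq_map_of_iso iφ, map_comp_apply, hT' _, spPts_map, ← ho, ← AlgSp.Points.map_comp]
  refine ⟨AlgSp.Points.map k.hom o, ?_⟩
  rw [← AlgSp.Points.map_comp]
  exact congrFun (congrArg (fun t : W ⟶ A' => AlgSp.Points.map t.hom) hk) o

theorem IsPLocus.unique (hPb : PbP P) {f : 𝒳 ⥤ᵇ 𝒴} {Z : AlgSp.Space S} {z : AlgSt.ofSp Z.obj ⥤ᵇ 𝒴}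
    {T T' : Set (Points (FibCat.fp z f))} (h : IsPLocus P f z T) (h' : IsPLocus P f z T') : T = T' :=
  (h.subset hPb h').antisymm (h'.subset hPb h)

section Transport

variable (f : 𝒳 ⥤ᵇ 𝒴)

/-- comparison along an isomorphism of the base functor -/
noncomputable def fpCongr {𝒵 : AlgSt.Cat S} {z z' : 𝒵 ⥤ᵇ 𝒴} (i : z ≅ z') : FibCat.fp z f ⥤ᵇ FibCat.fp z' f :=
  fpMap (F := z) (G := f) (F' := z') (G' := f) (a := BasedFunctor.id _) (b := BasedFunctor.id _)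
    (s := BasedFunctor.id 𝒴) i.symm (Iso.refl _)

theorem fpCongr_isEquivOver {𝒵 : AlgSt.Cat S} {z z' : 𝒵 ⥤ᵇ 𝒴} (i : z ≅ z') :
    FibCat.IsEquivOver (fpCongr f i) := by
  haveI := idFun_full (𝒳 := 𝒴)
  haveI := idFun_faithful (𝒳 := 𝒴)
  exact fpMap_isEquivOver _ _ isEquivOver_id isEquivOver_id

/-- base change along a map of the base -/
noncomputable def fpPull {𝒵 𝒵' : AlgSt.Cat S} (d : 𝒵' ⥤ᵇ 𝒵) (z : 𝒵 ⥤ᵇ 𝒴) :
    FibCat.fp (BasedFunctor.comp d z) f ⥤ᵇ FibCat.fp z f :=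
  fpMap (F := BasedFunctor.comp d z) (G := f) (F' := z) (G' := f) (a := d) (b := BasedFunctor.id _)
    (s := BasedFunctor.id 𝒴) (Iso.refl _) (Iso.refl _)

variable {f}

theorem IsPLocus.congr {Z : AlgSp.Space S} {z z' : AlgSt.ofSp Z.obj ⥤ᵇ 𝒴} (i : z ≅ z')
    {T : Set (Points (FibCat.fp z f))} (h : IsPLocus P f z T) :
    IsPLocus P f z' (Points.map (fpCongr f i) '' T) := by
  obtain ⟨A, a, e, W, w, he, ⟨j⟩, hw, hT⟩ := h
  refine ⟨A, a, BasedFunctor.comp e (fpCongr f i), W, w, isEquivOver_comp he (fpCongr_isEquivOver f i), ⟨j⟩, hw,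
    fun q => ?_⟩
  rw [map_comp_apply, (map_bijective (fpCongr_isEquivOver f i)).1.mem_set_image]
  exact hT q

theorem IsPLocus.baseChange (hQb : PbP Q) (hQ : AlgSp.IsLocalOnBase AlgSp.IsFppfCover Q)
    (hf : AlgSt.RepByAlgSpWith Q f) (h₄ : LargestBC P Q R) {Z Z' : AlgSp.Space S}
    {z : AlgSt.ofSp Z.obj ⥤ᵇ 𝒴} (d : Z' ⟶ Z) (hd : R d.hom)
    {T : Set (Points (FibCat.fp z f))} (h : IsPLocus P f z T) :
    IsPLocus P f (BasedFunctor.comp (AlgSt.ofSpMap d.hom) z) (Points.map (fpPull f (AlgSt.ofSpMap d.hom) z) ⁻¹' T) := by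
  obtain ⟨A, a, e, W, w, he, ⟨i⟩, hw, hT⟩ := h
  have sq : IsPullback (pullback.fst a.hom d.hom) (pullback.snd a.hom d.hom) a.hom d.hom :=
    IsPullback.of_hasPullback a.hom d.hom
  let A' : AlgSp.Space S := ⟨pullback a.hom d.hom, AlgSpace.isAlgSpace_pullback Z.property A.property Z'.property sq⟩
  let g : A' ⟶ A := ObjectProperty.homMk (pullback.fst a.hom d.hom)
  let a' : A' ⟶ Z' := ObjectProperty.homMk (pullback.snd a.hom d.hom)
  have sqW : IsPullback (pullback.fst w.hom g.hom) (pullback.snd w.hom g.hom) w.hom g.hom :=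
    IsPullback.of_hasPullback w.hom g.hom
  let W' : AlgSp.Space S :=
    ⟨pullback w.hom g.hom, AlgSpace.isAlgSpace_pullback A.property W.property A'.property sqW⟩
  let k : W' ⟶ W := ObjectProperty.homMk (pullback.fst w.hom g.hom)
  let w' : W' ⟶ A' := ObjectProperty.homMk (pullback.snd w.hom g.hom)
  have hw' : MaxOpen P a' w' :=
    h₄ A Z A' Z' a d a' g sq (prop_of_baseChange hQb hQ hf he i) hd W w hw W' w' k sqW
  have sqp := (sq.map (sheafToPresheaf (AlgSp.J S) (Type (u + 1)))).flip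
  haveI := idFun_full (𝒳 := AlgSt.ofSp Z.obj)
  haveI := idFun_faithful (𝒳 := AlgSt.ofSp Z.obj)
  let E₂ := fpMap (F := AlgSt.ofSpMap d.hom) (G := AlgSt.ofSpMap a.hom) (F' := AlgSt.ofSpMap d.hom)
    (G' := FibCat.fpFst z f) (a := BasedFunctor.id _) (b := e) (s := BasedFunctor.id _) (Iso.refl _) i
  let E₁₂ : AlgSt.ofSp A'.obj ⥤ᵇ FibCat.fp (AlgSt.ofSpMap d.hom) (FibCat.fpFst z f) :=
    BasedFunctor.comp (pbFun sqp.w) E₂
  let E := BasedFunctor.comp E₁₂ (pasteL (AlgSt.ofSpMap d.hom) z f)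
  have hE : FibCat.IsEquivOver E :=
    isEquivOver_comp (isEquivOver_comp (pbFun_isEquivOver sqp)
      (fpMap_isEquivOver _ _ isEquivOver_id he)) (pasteL_isEquivOver _ _ _)
  refine ⟨A', a', E, W', w', hE, ⟨Iso.refl _⟩, hw', fun q => ?_⟩
  let j : BasedFunctor.comp E (fpPull f (AlgSt.ofSpMap d.hom) z) ≅ BasedFunctor.comp (AlgSt.ofSpMap g.hom) e :=
    wlIso E₁₂ (pasteLMapIso (AlgSt.ofSpMap d.hom) z f)
  rw [Set.mem_preimage, ← map_comp_apply, map_eq_map_of_iso j, map_comp_apply, hT, spPts_map]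
  exact (Set.ext_iff.1 (AlgSpace.range_eq_preimage_range sqW) (spPts q)).symm

end Transport

/-- the part of a base change over an open substack -/
theorem exists_sub_baseChange (h𝒳 : IsAlgStack Scheme.fppfPrecoverage 𝒳)
    {f : 𝒳 ⥤ᵇ 𝒴} {T : Set (Points 𝒳)} (hT : IsOpen T) {A Z : AlgSp.Space S} {z : AlgSt.ofSp Z.obj ⥤ᵇ 𝒴}
    {a : A ⟶ Z} {e : AlgSt.ofSp A.obj ⥤ᵇ FibCat.fp z f} (he : FibCat.IsEquivOver e)
    (i : BasedFunctor.comp e (FibCat.fpFst z f) ≅ AlgSt.ofSpMap a.hom) :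
    ∃ (W : AlgSp.Space S) (w : W ⟶ A) (e₁ : AlgSt.ofSp W.obj ⥤ᵇ FibCat.fp z (BasedFunctor.comp (AlgSt.subIncl 𝒳 (Qsub T)) f)),
      AlgSp.RepWith @IsOpenImmersion w.hom ∧
      (∀ q, Points.map (FibCat.fpSnd z f) (Points.map e q) ∈ T ↔ spPts q ∈ Set.range (AlgSp.Points.map w.hom)) ∧
      FibCat.IsEquivOver e₁ ∧
      Nonempty (BasedFunctor.comp e₁ (FibCat.fpFst z (BasedFunctor.comp (AlgSt.subIncl 𝒳 (Qsub T)) f)) ≅
        AlgSt.ofSpMap (w ≫ a).hom) := by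
  have gX := h𝒳.isStack.1
  have hA := isAlgStack_fullSub_qsub hT h𝒳
  let u := BasedFunctor.comp e (FibCat.fpSnd z f)
  let jT := AlgSt.subIncl 𝒳 (Qsub T)
  obtain ⟨W, w, e', he', ⟨i'⟩, hw⟩ := exists_baseChange_space pbP_repWith_openImm isLocalOnBase_fppf_repWith_openImm
    hA.isStack.1 gX (isOpenImm_subIncl_qsub hT h𝒳) A u
  haveI := idFun_full (𝒳 := 𝒳)
  haveI := idFun_faithful (𝒳 := 𝒳)
  let N := fpMap (F := u) (G := jT) (F' := FibCat.fpSnd z f) (G' := jT) (a := e) (b := BasedFunctor.id _)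
    (s := BasedFunctor.id 𝒳) (Iso.refl _) (Iso.refl _)
  have hN : FibCat.IsEquivOver N := fpMap_isEquivOver _ _ he isEquivOver_id
  refine ⟨W, w, BasedFunctor.comp (BasedFunctor.comp e' N) (pasteR z f jT), hw, fun q => ?_,
    isEquivOver_comp (isEquivOver_comp he' hN) (pasteR_isEquivOver _ _ _),
    ⟨wrIso i' (BasedFunctor.comp e (FibCat.fpFst z f)) ≪≫ wlIso (AlgSt.ofSpMap w.hom) i ≪≫
      ofSpMapComp w.hom a.hom⟩⟩
  constructor
  · intro hq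
    obtain ⟨x, hx⟩ := (range_map_subIncl_qsub T).ge hq
    rw [← map_comp_apply] at hx
    obtain ⟨o, ho, -⟩ := exists_fp_point hA.isStack.1 gX (isStack_ofSp A.obj).1 jT u q x hx.symm
    obtain ⟨o', rfl⟩ := (map_bijective he').2 o
    refine ⟨spPts o', ?_⟩
    rw [← spPts_map, ← map_eq_map_of_iso i', map_comp_apply, ho]
  · rintro ⟨o, ho⟩
    obtain ⟨o', rfl⟩ := spPts_bijective.2 o
    rw [← spPts_map] at ho
    rw [← spPts_bijective.1 ho, ← map_eq_map_of_iso i', ← map_comp_apply e, map_comp_apply e',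
      ← map_comp_apply (FibCat.fpFst u jT) u, map_eq_map_of_iso (FibCat.fpIso u jT), map_comp_apply]
    exact (range_map_subIncl_qsub T).le ⟨_, rfl⟩

/-- an open set whose preimage in a covering base change is the locus of `P` gives the largest substack with `P` -/
theorem qsub_spec (hPb : PbP P) (hP : AlgSp.IsLocalOnBase AlgSp.IsFppfCover P)
    (h𝒳 : IsAlgStack Scheme.fppfPrecoverage 𝒳) (h𝒴 : FibCat.IsFibGrpd 𝒴.p) {f : 𝒳 ⥤ᵇ 𝒴}
    (hf : AlgSt.RepByAlgSp1 f) {V : AlgSp.Space S} {y : AlgSt.ofSp V.obj ⥤ᵇ 𝒴}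
    (hy₁ : AlgSt.RepByAlgSpWith (AlgSp.LocP @Flat) y)
    (hy₂ : AlgSt.RepByAlgSpWith (AlgSp.LocP @LocallyOfFinitePresentation) y)
    (hy₃ : AlgSt.RepByAlgSpWith AlgSp.IsSurjectiveMor y) {T : Set (Points 𝒳)} (hT : IsOpen T)
    (hL : IsPLocus P f y (Points.map (FibCat.fpSnd y f) ⁻¹' T)) :
    AlgSt.RepByAlgSpWith P (BasedFunctor.comp (AlgSt.subIncl 𝒳 (Qsub T)) f) ∧
      ∀ T₁, IsOpen T₁ → AlgSt.RepByAlgSpWith P (BasedFunctor.comp (AlgSt.subIncl 𝒳 (Qsub T₁)) f) → T₁ ⊆ T := by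
  have gX := h𝒳.isStack.1
  obtain ⟨A, a, e, W, w, he, ⟨i⟩, ⟨hw, hwP, hmax⟩, hTW⟩ := hL
  constructor
  · have hA := isAlgStack_fullSub_qsub hT h𝒳
    obtain ⟨W₁, w₁, e₁, hw₁, hq, he₁, hi₁⟩ := exists_sub_baseChange h𝒳 hT he i
    refine (with_iff_baseChange_cover hPb hP hA.isStack.1 h𝒴
      (rep1_comp hA.isStack.1 gX (repByAlgSp1_of_with (isOpenImm_subIncl_qsub hT h𝒳)) hf) V y hy₁ hy₂ hy₃).2
      ⟨W₁, w₁ ≫ a, e₁, he₁, hi₁, ?_⟩
    have hr : Set.range (AlgSp.Points.map w₁.hom) = Set.range (AlgSp.Points.map w.hom) := by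
      ext o
      obtain ⟨q, rfl⟩ := spPts_bijective.2 o
      exact (hq q).symm.trans (hTW q)
    obtain ⟨k₁, hk₁⟩ := AlgSpace.exists_factor_of_range hw w₁.hom hr.le
    obtain ⟨k₂, hk₂⟩ := AlgSpace.exists_factor_of_range hw₁ w.hom hr.ge
    have hmono : ∀ {F G : AlgSp.Sp S} {j : F ⟶ G}, AlgSp.RepWith @IsOpenImmersion j → Mono j := fun {F G j} hj =>
      AlgSpace.mono_of_repWith j (AlgSpace.repWith_mono (fun _ _ g (_ : IsOpenImmersion g) => (inferInstance : Mono g)) hj)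
    haveI := hmono hw
    haveI := hmono hw₁
    haveI : IsIso k₁ := ⟨k₂, by rw [← cancel_mono w₁.hom, Category.assoc, hk₂, hk₁, Category.id_comp],
      by rw [← cancel_mono w.hom, Category.assoc, hk₁, hk₂, Category.id_comp]⟩
    refine hPb W.property V.property W₁.property V.property (w ≫ a).hom (𝟙 _) (w₁ ≫ a).hom k₁
      (IsPullback.of_horiz_isIso ⟨?_⟩) hwP
    show k₁ ≫ w.hom ≫ a.hom = (w₁.hom ≫ a.hom) ≫ 𝟙 _
    rw [reassoc_of% hk₁, Category.comp_id]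
  · intro T₁ hT₁ hP₁ x hx
    obtain ⟨W₁, w₁, e₁, hw₁, hq, he₁, ⟨i₁⟩⟩ := exists_sub_baseChange h𝒳 hT₁ he i
    obtain ⟨k, hk⟩ := hmax W₁ w₁ hw₁ (prop_of_baseChange hPb hP hP₁ he₁ i₁)
    obtain ⟨p, rfl⟩ : x ∈ Set.range (Points.map (FibCat.fpSnd y f)) :=
      isSurjective_of_with gX (with_fpSnd f hy₃) x
    obtain ⟨q, rfl⟩ := (map_bijective he).2 p
    obtain ⟨o, ho⟩ := (hq q).1 hx
    refine (hTW q).2 ⟨AlgSp.Points.map k.hom o, ?_⟩
    rw [← AlgSp.Points.map_comp, ← ho]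
    exact congrFun (congrArg (fun t : W₁ ⟶ A => AlgSp.Points.map t.hom) hk) o

end Groth.Agent.StAlg16
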