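import Groth.Agent.Lib.StAlg16.Cover
import Groth.Agent.Lib.StAlg16.SmoothLocal
import Groth.Agent.Lib.StAlg.Descent
import Groth.Agent.Lib.AlgSpace.FppfLocal

/-! A stack with a representable smooth cover by a space is algebraic. -/

universe u

open CategoryTheory CategoryTheory.Functor CategoryTheory.Limits AlgebraicGeometry Opposite

set_option linter.style.haveILetI false
set_option linter.unusedSectionVars false
set_option backward.isDefEq.respectTransparency false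
set_option backward.isDefEq.respectTransparency.types false

namespace Groth.Agent.StAlg16

open Groth.Agent.FC16 Groth.Agent.StAlg AlgSt

variable {S : Scheme.{u}} {𝒰 𝒳 : AlgSt.Cat S}

/-- a functor out of a slice is faithful -/
theorem faithful_overCat {U : Over S} (y : FibCat.overCat U ⥤ᵇ 𝒳) : y.toFunctor.Faithful :=
  ⟨fun {a b φ ψ} e => by
    have : (y.toFunctor ⋙ 𝒳.p).map φ = (y.toFunctor ⋙ 𝒳.p).map ψ := congrArg 𝒳.p.map e
    rw [Functor.congr_hom y.w φ, Functor.congr_hom y.w ψ, cancel_epi, cancel_mono] at this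
    exact Over.OverMorphism.ext this⟩

theorem rep1_of_rep_cover (h𝒰 : FibCat.IsFibGrpd 𝒰.p) (h𝒳 : Stk.IsStack (QuotSh.J Scheme.fppfPrecoverage S) 𝒳)
    (hU : AlgSt.RepByAlgSp 𝒰) {u : 𝒰 ⥤ᵇ 𝒳} (hu₁ : AlgSt.RepByAlgSpWith (AlgSp.LocP @Flat) u)
    (hu₂ : AlgSt.RepByAlgSpWith (AlgSp.LocP @LocallyOfFinitePresentation) u)
    (hu₃ : AlgSt.RepByAlgSpWith AlgSp.IsSurjectiveMor u)
    (U : Over S) (y : FibCat.overCat U ⥤ᵇ 𝒳) : AlgSt.RepByAlgSp1 y := fun T z => by
  have gX := h𝒳.1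
  haveI := faithful_overCat y
  have hovU := (isDM_of_rep (rep_overCat (S := S) U)).1.isStack
  have hovT := (isDM_of_rep (rep_overCat (S := S) T)).1.isStack
  have gD : FibCat.IsFibGrpd (FibCat.fp z y).p := fp_isFibGrpd (overCat_isFibGrpd T) (overCat_isFibGrpd U) gX z y
  obtain ⟨G, e, he⟩ := exists_psh.{u + 1} (𝒳 := FibCat.fp z y)
    (isFibSetoid_fp_of_faithful z y (isFibSetoid_of_rep (rep_overCat T)) (overCat_isFibGrpd U) gX)
  have hG : Presheaf.IsSheaf (AlgSp.J S) G := (isSheaf_iff_isSheaf_of_type _ _).2 ((isStack_ofPsh_iff _ G).1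
    ((isStack_iff_of_isEquivOver _ he).2 (isStack_fp _ z y hovT hovU (isPrestack_of_isStack _ h𝒳))))
  let π := mapOf (BasedFunctor.comp (BasedFunctor.comp e (FibCat.fpFst z y)) (AlgSt.ofOverCat T))
  obtain ⟨V, k, v, hc, ⟨i⟩⟩ := exists_cover_lift gX h𝒰 hu₁ hu₂ hu₃ T z
  let F : AlgSp.Sp S := ⟨G, hG⟩
  let πs : F ⟶ (AlgSp.yon S).obj T := ObjectProperty.homMk π
  have sq := IsPullback.of_hasPullback πs ((AlgSp.yon S).map k)
  have hk1 : Flat k.left := (AlgSp.repWith_yon_map_iff @Flat k).1 (AlgSpace.repWith_of_locP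
    (AlgSp.IsAlgSpace.yon_obj T) ((AlgSp.repWith_yon_map_iff ⊤ k).2 (by trivial)).1 (hc.1 PUnit.unit).1)
  have hk2 : LocallyOfFinitePresentation k.left := (AlgSp.repWith_yon_map_iff @LocallyOfFinitePresentation k).1
    (AlgSpace.repWith_of_locP
      (AlgSp.IsAlgSpace.yon_obj T) ((AlgSp.repWith_yon_map_iff ⊤ k).2 (by trivial)).1 (hc.1 PUnit.unit).2)
  have hk3 : Surjective k.left := surjective_left_of_isSurjectiveMor k fun x => by
    obtain ⟨_, q, hq⟩ := hc.2 x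
    exact ⟨q, hq⟩
  have hP : AlgSp.IsAlgSpace (pullback πs ((AlgSp.yon S).map k)) := by
    let kz := BasedFunctor.comp (AlgSt.overMap k) z
    have h1 : AlgSt.RepByAlgSp1 kz := repByAlgSp1_iff.2 (with_of_iso i.symm (repByAlgSp1_iff.1
      (rep1_comp (overCat_isFibGrpd V) h𝒰 (rep1_of_rep (rep_overCat V) hU v) (repByAlgSp1_of_with hu₁))))
    have h2 : AlgSt.RepByAlgSp (FibCat.fp kz y) :=
      (repByAlgSp_congr (fpSwap_isEquivOver y kz)).1 (rep_fp (overCat_isFibGrpd V) gX h1 (rep_overCat U) y)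
    have h3 : AlgSt.RepByAlgSp (FibCat.fp (AlgSt.overMap k) (FibCat.fpFst z y)) :=
      (repByAlgSp_congr (pasteL_isEquivOver (AlgSt.overMap k) z y)).2 h2
    haveI := idFun_full (𝒳 := FibCat.overCat T)
    haveI := idFun_faithful (𝒳 := FibCat.overCat T)
    have hsq := (sq.map (sheafToPresheaf (AlgSp.J S) (Type (u + 1)))).flip
    let ii : BasedFunctor.comp (Stk.ofPshMap π) (AlgSt.toOverCat T) ≅ BasedFunctor.comp e (FibCat.fpFst z y) :=
      wrIso (isoMapOf _).symm (AlgSt.toOverCat T) ≪≫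
        wlIso (BasedFunctor.comp e (FibCat.fpFst z y)) (eqToIso (ofOver_toOver T))
    let M := fpMap (F := Stk.ofPshMap ((AlgSp.yon S).map k).hom) (G := Stk.ofPshMap π) (F' := AlgSt.overMap k)
      (G' := FibCat.fpFst z y) (a := AlgSt.toOverCat V) (b := e) (s := AlgSt.toOverCat T) (overMapIso k).symm ii.symm
    haveI : (AlgSt.toOverCat T).toFunctor.Full :=
      haveI := isEquivalence_of_isEquivOver (toOverCat_isEquivOver T); inferInstance
    haveI : (AlgSt.toOverCat T).toFunctor.Faithful :=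
      haveI := isEquivalence_of_isEquivOver (toOverCat_isEquivOver T); inferInstance
    have hM : FibCat.IsEquivOver M := fpMap_isEquivOver (F := Stk.ofPshMap ((AlgSp.yon S).map k).hom)
      (G := Stk.ofPshMap π) (F' := AlgSt.overMap k) (G' := FibCat.fpFst z y) (a := AlgSt.toOverCat V) (b := e)
      (s := AlgSt.toOverCat T) (overMapIso k).symm ii.symm (toOverCat_isEquivOver V) he
    exact (AlgSp.isAlgSpaceP_obj_iff _).1 (rep_ofPsh_iff.1 ((repByAlgSp_congr
      (isEquivOver_comp (pbFun_isEquivOver hsq) hM)).2 h3))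
  have hF : AlgSp.IsAlgSpace F := AlgSpace.isAlgSpace_of_fppf (pullback.fst πs ((AlgSp.yon S).map k)) hP
    (AlgSpace.repWith_of_isPullback sq.flip ((AlgSp.repWith_yon_map_iff _ k).2 hk1))
    (AlgSpace.repWith_of_isPullback sq.flip ((AlgSp.repWith_yon_map_iff _ k).2 hk2))
    (AlgSpace.repWith_of_isPullback sq.flip ((AlgSp.repWith_yon_map_iff _ k).2 hk3))
  exact ⟨⟨F, hF⟩, e, he⟩

/-- a representable smooth cover by a space makes a stack algebraic -/
theorem isAlgStack_of_cover (h𝒰 : FibCat.IsFibGrpd 𝒰.p) (h𝒳 : Stk.IsStack (QuotSh.J Scheme.fppfPrecoverage S) 𝒳)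
    (hU : AlgSt.RepByAlgSp 𝒰) {u : 𝒰 ⥤ᵇ 𝒳} (hu : AlgSt.RepByAlgSpWith (AlgSp.LocP @Smooth) u)
    (hu₃ : AlgSt.RepByAlgSpWith AlgSp.IsSurjectiveMor u) : IsAlgStack Scheme.fppfPrecoverage 𝒳 := by
  refine ⟨h𝒳, (rep1_diag_iff h𝒳.1).2
    (rep1_of_rep_cover h𝒰 h𝒳 hU (with_locP_mono smooth_le_flat hu) (with_locP_mono smooth_le_lfp hu) hu₃), ?_⟩
  obtain ⟨W, w, hw, hws⟩ := (isDM_of_rep hU).1.atlas
  exact ⟨W, BasedFunctor.comp w u, with_comp goodP_locP (overCat_isFibGrpd W) h𝒰 hw hu,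
    with_comp goodP_surjective (overCat_isFibGrpd W) h𝒰 hws hu₃⟩

end Groth.Agent.StAlg16
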