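import Groth.Agent.Lib.StAlg16.PLocus
import Groth.Agent.Lib.StAlg16.LargestOpen

/-! The largest open substack on which a representable morphism has a property, and its base change. -/

universe u

open CategoryTheory CategoryTheory.Functor CategoryTheory.Limits AlgebraicGeometry Opposite

set_option linter.style.haveILetI false
set_option linter.unusedSectionVars false
set_option backward.isDefEq.respectTransparency false
set_option backward.isDefEq.respectTransparency.types false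

namespace Groth.Agent.StAlg16

open Groth.Agent.FC16 Groth.Agent.StAlg AlgSt

variable {S : Scheme.{u}} {𝒳 𝒴 𝒵 : AlgSt.Cat S} {P Q R : MorphismProperty (AlgSp.Sp S)}

theorem with_of_smooth (h₂ : ∀ (X Y : AlgSp.Space S) (g : X ⟶ Y), AlgSp.LocP @Smooth g.hom → R g.hom)
    {f : 𝒳 ⥤ᵇ 𝒴} (hf : AlgSt.RepByAlgSpWith (AlgSp.LocP @Smooth) f) : AlgSt.RepByAlgSpWith R f := fun U y => by
  obtain ⟨F, e, he, hP⟩ := hf U y
  exact ⟨F, e, he, h₂ F ⟨_, AlgSp.IsAlgSpace.yon_obj U⟩ (ObjectProperty.homMk _) hP⟩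

theorem IsPLocus.ofPasteL {f : 𝒳 ⥤ᵇ 𝒴} {g : 𝒵 ⥤ᵇ 𝒴} {Z : AlgSp.Space S} {c : AlgSt.ofSp Z.obj ⥤ᵇ 𝒵}
    {T : Set (Points (FibCat.fp (BasedFunctor.comp c g) f))} (h : IsPLocus P f (BasedFunctor.comp c g) T) :
    IsPLocus P (FibCat.fpFst g f) c (Points.map (pasteL c g f) ⁻¹' T) := by
  obtain ⟨A, a, e, W, w, he, ⟨i⟩, hw, hT⟩ := h
  obtain ⟨G, hG, -, ⟨β⟩⟩ := exists_inverse (pasteL_isEquivOver c g f)
  refine ⟨A, a, BasedFunctor.comp e G, W, w, isEquivOver_comp he hG,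
    ⟨wlIso e (wrIso β (FibCat.fpFst (BasedFunctor.comp c g) f)) ≪≫ i⟩, hw, fun q => ?_⟩
  rw [Set.mem_preimage, map_comp_apply, ← map_comp_apply G, map_eq_map_of_iso β, map_id_apply]
  exact hT q

/-- the locus in a covering base change is saturated over the source -/
theorem IsPLocus.saturated (hPb : PbP P) (hQb : PbP Q) (hRb : PbP R)
    (hQ : AlgSp.IsLocalOnBase AlgSp.IsFppfCover Q) (hR : AlgSp.IsLocalOnBase AlgSp.IsFppfCover R)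
    (h𝒳 : FibCat.IsFibGrpd 𝒳.p) (h𝒴 : FibCat.IsFibGrpd 𝒴.p) {f : 𝒳 ⥤ᵇ 𝒴}
    (hf : AlgSt.RepByAlgSpWith Q f) (h₄ : LargestBC P Q R) {V : AlgSp.Space S} {z : AlgSt.ofSp V.obj ⥤ᵇ 𝒴}
    (hzR : AlgSt.RepByAlgSpWith R z) {T : Set (Points (FibCat.fp z f))} (hL : IsPLocus P f z T)
    (P₀ Q₀ : Points (FibCat.fp z f)) (h : Points.map (FibCat.fpSnd z f) P₀ = Points.map (FibCat.fpSnd z f) Q₀)
    (hP₀ : P₀ ∈ T) : Q₀ ∈ T := by
  have gV := (isStack_ofSp V.obj).1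
  have gF := fp_isFibGrpd gV h𝒳 h𝒴 z f
  obtain ⟨R₂, p₁, eR, heR, ⟨i₁⟩, hp₁⟩ := exists_baseChange_space hRb hR gV h𝒴 hzR V z
  let p₂ : R₂ ⟶ V := ObjectProperty.homMk (ObjectProperty.homMk (mapOf (BasedFunctor.comp eR (FibCat.fpSnd z z))))
  let i₂ : BasedFunctor.comp eR (FibCat.fpSnd z z) ≅ AlgSt.ofSpMap p₂.hom := isoMapOf _
  have hp₂ : R p₂.hom := prop_of_baseChange hRb hR hzR (isEquivOver_comp heR (fpSwap_isEquivOver z z)) i₂
  let κ : BasedFunctor.comp (AlgSt.ofSpMap p₂.hom) z ≅ BasedFunctor.comp (AlgSt.ofSpMap p₁.hom) z :=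
    wrIso i₂.symm z ≪≫ wlIso eR (FibCat.fpIso z z).symm ≪≫ wrIso i₁ z
  have hsets := IsPLocus.unique hPb (hL.baseChange hQb hQ hf h₄ p₁ hp₁)
    ((hL.baseChange hQb hQ hf h₄ p₂ hp₂).congr κ)
  let u := FibCat.fpSnd z f
  obtain ⟨w, hw₁, hw₂⟩ := exists_fp_point gF h𝒳 gF u u Q₀ P₀ h.symm
  obtain ⟨p, rfl⟩ := Points.mk_surjective w
  let η := p.obj
  let v' := η.obj.fst.obj.fst
  let v := η.obj.snd.obj.fst
  let x := η.obj.snd.obj.snd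
  let α' : z.obj v' ≅ f.obj η.obj.fst.obj.snd := η.obj.fst.obj.iso
  let α : z.obj v ≅ f.obj x := η.obj.snd.obj.iso
  let ξ : η.obj.fst.obj.snd ≅ x := η.obj.iso
  let U := 𝒳.p.obj η.obj.fst.obj.snd
  have hv' : (AlgSt.ofSp V.obj).p.obj v' = U := (snd_p η.obj.fst).symm
  have hv : (AlgSt.ofSp V.obj).p.obj v = U := (snd_p η).trans hv'
  let θ : z.obj v' ≅ z.obj v := α' ≪≫ f.toFunctor.mapIso ξ ≪≫ α.symm
  have hθ : 𝒴.p.IsHomLift (𝟙 U) θ.hom := by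
    haveI := iso_lift η.obj.fst (U := U) hv'
    haveI := iso_lift η.obj.snd (U := U) hv
    haveI : 𝒳.p.IsHomLift (𝟙 U) ξ.hom := iso_lift η (U := U) hv'
    haveI : 𝒴.p.IsHomLift (𝟙 U) α.inv := IsHomLift.lift_id_inv 𝒴.p U α
    haveI : 𝒴.p.IsHomLift (𝟙 U) (f.map ξ.hom) := BasedFunctor.preserves_isHomLift f (𝟙 U) ξ.hom
    exact inferInstanceAs (𝒴.p.IsHomLift (𝟙 U) (α'.hom ≫ f.map ξ.hom ≫ α.inv))
  let o : (FibCat.fp z z).obj := fpObj v' v θ (U := U) hv' hθ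
  obtain ⟨G, -, -, ⟨β⟩⟩ := exists_inverse heR
  let ρ := G.obj o
  let χ : eR.obj ρ ≅ o := appIso β o
  have hρ : (AlgSt.ofSp R₂.obj).p.obj ρ = U := (G.w_obj o).trans hv'
  let φ₂ : (AlgSt.ofSpMap p₂.hom).obj ρ ≅ v := (appIso i₂ ρ).symm ≪≫ (FibCat.fpSnd z z).toFunctor.mapIso χ
  let φ₁ : (AlgSt.ofSpMap p₁.hom).obj ρ ≅ v' := (appIso i₁ ρ).symm ≪≫ (FibCat.fpFst z z).toFunctor.mapIso χ
  let β₂ : z.obj ((AlgSt.ofSpMap p₂.hom).obj ρ) ≅ f.obj x := z.toFunctor.mapIso φ₂ ≪≫ α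
  have hβ₂ : 𝒴.p.IsHomLift (𝟙 U) β₂.hom := by
    haveI := iso_lift η.obj.snd (U := U) hv
    haveI : (AlgSt.ofSp V.obj).p.IsHomLift (𝟙 U) (appIso i₂ ρ).hom := isHomLift_appIso_hom i₂ ρ hρ
    haveI : (AlgSt.ofSp V.obj).p.IsHomLift (𝟙 U) (appIso i₂ ρ).inv := IsHomLift.lift_id_inv _ U (appIso i₂ ρ)
    haveI : (FibCat.fp z z).p.IsHomLift (𝟙 U) χ.hom := isHomLift_appIso_hom β o hv'
    haveI : (AlgSt.ofSp V.obj).p.IsHomLift (𝟙 U) χ.hom.hom.snd := isHomLift_snd (𝟙 U) χ.hom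
    haveI : 𝒴.p.IsHomLift (𝟙 U) (z.map (appIso i₂ ρ).inv) := BasedFunctor.preserves_isHomLift z (𝟙 U) _
    haveI : 𝒴.p.IsHomLift (𝟙 U) (z.map χ.hom.hom.snd) := BasedFunctor.preserves_isHomLift z (𝟙 U) _
    show 𝒴.p.IsHomLift (𝟙 U) (z.map ((appIso i₂ ρ).inv ≫ χ.hom.hom.snd) ≫ α.hom)
    rw [Functor.map_comp]
    infer_instance
  let b : (FibCat.fp (BasedFunctor.comp (AlgSt.ofSpMap p₂.hom) z) f).obj := fpObj ρ x β₂ (U := U) hρ hβ₂
  let bp : FPt (FibCat.fp (BasedFunctor.comp (AlgSt.ofSpMap p₂.hom) z) f) :=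
    ⟨p.K, p.str, b, hρ.trans (hv'.symm.trans p.lies)⟩
  have e₂ : Points.map (fpPull f (AlgSt.ofSpMap p₂.hom) z) (Points.mk bp) = P₀ := by
    rw [← hw₂]
    let m : (fpPull f (AlgSt.ofSpMap p₂.hom) z).obj b ≅ η.obj.snd := fpIsoMk φ₂ (Iso.refl x) (by
      show z.map φ₂.hom ≫ α.hom = (𝟙 _ ≫ β₂.hom ≫ 𝟙 _) ≫ f.map (𝟙 _)
      simp [β₂])
    exact Points.sound ⟨bp.map (fpPull f (AlgSt.ofSpMap p₂.hom) z), 𝟙 _, m.hom, trivial⟩
  have e₁ : Points.map (fpPull f (AlgSt.ofSpMap p₁.hom) z) (Points.map (fpCongr f κ) (Points.mk bp)) = Q₀ := by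
    rw [← hw₁]
    have hχ : z.map χ.hom.hom.fst ≫ θ.hom = (eR.obj ρ).obj.iso.hom ≫ z.map χ.hom.hom.snd := fp_w χ.hom
    let m : (fpPull f (AlgSt.ofSpMap p₁.hom) z).obj ((fpCongr f κ).obj b) ≅ η.obj.fst :=
      fpIsoMk φ₁ ξ.symm (by
        show z.map ((appIso i₁ ρ).inv ≫ χ.hom.hom.fst) ≫ α'.hom =
          (𝟙 _ ≫ (κ.inv.toNatTrans.app ρ ≫ (z.map ((appIso i₂ ρ).inv ≫ χ.hom.hom.snd) ≫ α.hom) ≫ 𝟙 _) ≫ 𝟙 _) ≫
            f.map ξ.inv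
        have hκ : κ.inv.toNatTrans.app ρ =
            z.map (appIso i₁ ρ).inv ≫ (eR.obj ρ).obj.iso.hom ≫ z.map (appIso i₂ ρ).hom := by
          show (z.map (i₁.inv.toNatTrans.app ρ) ≫ (eR.obj ρ).obj.iso.hom) ≫ z.map (i₂.hom.toNatTrans.app ρ) = _
          rw [Category.assoc]
          rfl
        rw [hκ]
        simp only [Category.id_comp, Category.comp_id, Category.assoc, Functor.map_comp]
        rw [← Functor.map_comp_assoc z.toFunctor (appIso i₂ ρ).hom, Iso.hom_inv_id, CategoryTheory.Functor.map_id,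
          Category.id_comp, ← reassoc_of% hχ]
        simp [θ, ← Functor.map_comp])
    exact Points.sound ⟨(bp.map (fpCongr f κ)).map (fpPull f (AlgSt.ofSpMap p₁.hom) z), 𝟙 _, m.hom, trivial⟩
  have hb : Points.mk bp ∈ Points.map (fpPull f (AlgSt.ofSpMap p₂.hom) z) ⁻¹' T := by
    rw [Set.mem_preimage, e₂]
    exact hP₀
  have := hsets.ge ⟨_, hb, rfl⟩
  rwa [Set.mem_preimage, e₁] at this

theorem isOpen_image_fpSnd (h𝒳 : FibCat.IsFibGrpd 𝒳.p) {f : 𝒳 ⥤ᵇ 𝒴} {V : AlgSp.Space S}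
    {z : AlgSt.ofSp V.obj ⥤ᵇ 𝒴} (hz : AlgSt.RepByAlgSpWith (AlgSp.LocP @Smooth) z)
    {T : Set (Points (FibCat.fp z f))} (hL : IsPLocus P f z T) :
    IsOpen (Points.map (FibCat.fpSnd z f) '' T) := by
  obtain ⟨A, a, e, W, w, he, -, hw, hT⟩ := hL
  let u := BasedFunctor.comp e (FibCat.fpSnd z f)
  have hu : AlgSt.RepByAlgSpWith (AlgSp.LocP @Smooth) u := with_comp_equiv he (with_fpSnd f hz)
  have hle : @IsOpenImmersion ≤ @Smooth := fun _ _ g (_ : IsOpenImmersion g) => inferInstance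
  have hwu := with_comp goodP_locP (isStack_ofSp W.obj).1 (isStack_ofSp A.obj).1
    (with_locP_ofSpMap W.property A.property w.hom
      (AlgSpace.locP_of_repWith A.property ⟨hw.1.1, fun _ _ g fst snd sq => hle _ (hw.1.2 g fst snd sq)⟩)) hu
  have e' : Points.map (FibCat.fpSnd z f) '' T =
      Points.map (BasedFunctor.comp (AlgSt.ofSpMap w.hom) u) '' Set.univ := by
    ext t
    constructor
    · rintro ⟨x, hx, rfl⟩
      obtain ⟨q, rfl⟩ := (map_bijective he).2 x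
      obtain ⟨o, ho⟩ := (hT q).1 hx
      obtain ⟨o', rfl⟩ := spPts_bijective.2 o
      rw [← spPts_map] at ho
      exact ⟨o', trivial, by rw [map_comp_apply, spPts_bijective.1 ho, map_comp_apply]⟩
    · rintro ⟨o, -, rfl⟩
      refine ⟨Points.map e (Points.map (AlgSt.ofSpMap w.hom) o), (hT _).2 ⟨spPts o, (spPts_map w.hom o).symm⟩, ?_⟩
      rw [map_comp_apply, map_comp_apply]
  rw [e']
  exact isOpenMap_map_space h𝒳 W _ (with_locP_mono smooth_le_flat hwu) (with_locP_mono smooth_le_lfp hwu) _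
    isOpen_univ

section Main

variable (hPb : PbP P) (hQb : PbP Q) (hRb : PbP R)
  (hP : AlgSp.IsLocalOnBase AlgSp.IsFppfCover P) (hQ : AlgSp.IsLocalOnBase AlgSp.IsFppfCover Q)
  (hR : AlgSp.IsLocalOnBase AlgSp.IsFppfCover R)
  (h₂ : ∀ (X Y : AlgSp.Space S) (g : X ⟶ Y), AlgSp.LocP @Smooth g.hom → R g.hom)
  (h₃ : HasLargest P Q) (h₄ : LargestBC P Q R)
  (h𝒳 : IsAlgStack Scheme.fppfPrecoverage 𝒳) (h𝒴 : IsAlgStack Scheme.fppfPrecoverage 𝒴)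
  {f : 𝒳 ⥤ᵇ 𝒴} (hf : AlgSt.RepByAlgSpWith Q f)

include hPb hQb hRb hP hQ hR h₂ h₃ h₄ h𝒳 h𝒴 hf

theorem exists_largest_open_with :
    ∃ (T : Set (Points 𝒳)) (V : AlgSp.Space S) (y : AlgSt.ofSp V.obj ⥤ᵇ 𝒴), IsOpen T ∧
      AlgSt.RepByAlgSpWith (AlgSp.LocP @Smooth) y ∧ AlgSt.RepByAlgSpWith AlgSp.IsSurjectiveMor y ∧
      IsPLocus P f y (Points.map (FibCat.fpSnd y f) ⁻¹' T) ∧
      AlgSt.RepByAlgSpWith P (BasedFunctor.comp (AlgSt.subIncl 𝒳 (Qsub T)) f) ∧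
      ∀ Q₁ : 𝒳.obj → Prop, AlgSt.IsOpenSubstack 𝒳 Q₁ Scheme.fppfPrecoverage →
        AlgSt.RepByAlgSpWith P (BasedFunctor.comp (AlgSt.subIncl 𝒳 Q₁) f) → ∀ a, Q₁ a → Qsub T a := by
  have gX := h𝒳.isStack.1; have gY := h𝒴.isStack.1
  obtain ⟨V₀, y₀, hy₀, hys₀⟩ := h𝒴.atlas
  let V : AlgSp.Space S := ⟨_, AlgSp.IsAlgSpace.yon_obj V₀⟩
  let y : AlgSt.ofSp V.obj ⥤ᵇ 𝒴 := BasedFunctor.comp (AlgSt.toOverCat V₀) y₀
  have hy : AlgSt.RepByAlgSpWith (AlgSp.LocP @Smooth) y := with_comp_equiv (toOverCat_isEquivOver V₀) hy₀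
  have hys : AlgSt.RepByAlgSpWith AlgSp.IsSurjectiveMor y := with_comp_equiv (toOverCat_isEquivOver V₀) hys₀
  obtain ⟨T₀, hT₀⟩ := exists_isPLocus hQb hQ gX gY hf h₃ y
  have hT : IsOpen (Points.map (FibCat.fpSnd y f) '' T₀) := isOpen_image_fpSnd gX hy hT₀
  have e : Points.map (FibCat.fpSnd y f) ⁻¹' (Points.map (FibCat.fpSnd y f) '' T₀) = T₀ := by
    refine Set.Subset.antisymm (fun q ⟨q', hq', e⟩ => ?_) (Set.subset_preimage_image _ _)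
    exact hT₀.saturated hPb hQb hRb hQ hR gX gY hf h₄ (with_of_smooth h₂ hy) q' q e hq'
  have hL : IsPLocus P f y (Points.map (FibCat.fpSnd y f) ⁻¹' (Points.map (FibCat.fpSnd y f) '' T₀)) := by
    rw [e]; exact hT₀
  obtain ⟨h1, h2⟩ := qsub_spec hPb hP h𝒳 gY (repByAlgSp1_of_with hf) (with_locP_mono smooth_le_flat hy)
    (with_locP_mono smooth_le_lfp hy) hys hT hL
  refine ⟨_, V, y, hT, hy, hys, hL, h1, fun Q₁ hQ₁ h a ha => ?_⟩
  refine qsub_mono (h2 _ (isOpen_range_subIncl h𝒳 hQ₁) ?_) ((substack_eq_qsub h𝒳 hQ₁ a).1 ha)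
  rwa [← show Q₁ = Qsub (Set.range (Points.map (AlgSt.subIncl 𝒳 Q₁))) from
    funext fun b => propext (substack_eq_qsub h𝒳 hQ₁ b)]

theorem largest_open_with_baseChange (Q₀ : 𝒳.obj → Prop)
    (hQ₀ : AlgSt.IsOpenSubstack 𝒳 Q₀ Scheme.fppfPrecoverage)
    (hQ₀P : AlgSt.RepByAlgSpWith P (BasedFunctor.comp (AlgSt.subIncl 𝒳 Q₀) f))
    (hQ₀max : ∀ Q₁ : 𝒳.obj → Prop, AlgSt.IsOpenSubstack 𝒳 Q₁ Scheme.fppfPrecoverage →
      AlgSt.RepByAlgSpWith P (BasedFunctor.comp (AlgSt.subIncl 𝒳 Q₁) f) → ∀ y, Q₁ y → Q₀ y)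
    (h𝒵 : IsAlgStack Scheme.fppfPrecoverage 𝒵) (z : 𝒵 ⥤ᵇ 𝒴) (hz : AlgSt.RepByAlgSpWith R z) :
    AlgSt.IsOpenSubstack (FibCat.fp z f) (fun b ↦ Q₀ b.obj.snd) Scheme.fppfPrecoverage ∧
      AlgSt.RepByAlgSpWith P
        (BasedFunctor.comp (AlgSt.subIncl (FibCat.fp z f) fun b ↦ Q₀ b.obj.snd) (FibCat.fpFst z f)) ∧
        ∀ Q₁ : (FibCat.fp z f).obj → Prop, AlgSt.IsOpenSubstack (FibCat.fp z f) Q₁ Scheme.fppfPrecoverage →
          AlgSt.RepByAlgSpWith P (BasedFunctor.comp (AlgSt.subIncl (FibCat.fp z f) Q₁) (FibCat.fpFst z f)) →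
            ∀ b, Q₁ b → Q₀ b.obj.snd := by
  have gX := h𝒳.isStack.1; have gY := h𝒴.isStack.1; have gZ := h𝒵.isStack.1
  obtain ⟨T, V, y, hT, hy, hys, hL, hTP, hTmax⟩ :=
    exists_largest_open_with hPb hQb hRb hP hQ hR h₂ h₃ h₄ h𝒳 h𝒴 hf
  have eQ : Q₀ = Qsub T := funext fun a => propext
    ⟨hTmax Q₀ hQ₀ hQ₀P a, hQ₀max _ (isOpenSubstack_qsub hT h𝒳) hTP a⟩
  subst eQ
  have hF := StAlg.isAlgStack_fp h𝒴.isStack h𝒴.diag h𝒵 h𝒳 z f
  let T' := Points.map (FibCat.fpSnd z f) ⁻¹' T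
  have hT' : IsOpen T' := hT.preimage (continuous_map h𝒳 _)
  have eT : (fun b : (FibCat.fp z f).obj ↦ Qsub T b.obj.snd) = Qsub T' :=
    funext fun b => propext (qsub_preimage_iff hF.isStack.1 gX (FibCat.fpSnd z f) T b)
  obtain ⟨G, g, eG, heG, ⟨i⟩, hg⟩ := exists_baseChange_space hRb hR gZ gY hz V y
  let c : AlgSt.ofSp G.obj ⥤ᵇ 𝒵 := BasedFunctor.comp eG (FibCat.fpSnd y z)
  let κ : BasedFunctor.comp (AlgSt.ofSpMap g.hom) y ≅ BasedFunctor.comp c z :=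
    wrIso i.symm y ≪≫ wlIso eG (FibCat.fpIso y z)
  have hL₁ := ((hL.baseChange hQb hQ hf h₄ g hg).congr κ).ofPasteL
  have hc : AlgSt.RepByAlgSpWith (AlgSp.LocP @Smooth) c := with_comp_equiv heG (with_fpSnd z hy)
  have hcs : AlgSt.RepByAlgSpWith AlgSp.IsSurjectiveMor c := with_comp_equiv heG (with_fpSnd z hys)
  have hL' : IsPLocus P (FibCat.fpFst z f) c (Points.map (FibCat.fpSnd c (FibCat.fpFst z f)) ⁻¹' T') := by
    convert hL₁ using 1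
    ext q
    constructor
    · intro hq
      obtain ⟨q', hq'⟩ := (map_bijective (fpCongr_isEquivOver f κ)).2 (Points.map (pasteL c z f) q)
      refine ⟨q', ?_, hq'⟩
      show Points.map (FibCat.fpSnd y f) (Points.map (fpPull f (AlgSt.ofSpMap g.hom) y) q') ∈ T
      have e := congrArg (Points.map (FibCat.fpSnd (BasedFunctor.comp c z) f)) hq'
      rw [← map_comp_apply, ← map_comp_apply] at e
      rw [← map_comp_apply]
      refine Eq.subst (motive := fun t => t ∈ T) e.symm ?_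
      rwa [Set.mem_preimage, Set.mem_preimage, ← map_comp_apply] at hq
    · rintro ⟨q', hq', e⟩
      have e' := congrArg (Points.map (FibCat.fpSnd (BasedFunctor.comp c z) f)) e
      rw [← map_comp_apply, ← map_comp_apply] at e'
      rw [Set.mem_preimage, Set.mem_preimage, ← map_comp_apply]
      refine Eq.subst (motive := fun t => t ∈ T) e' ?_
      rwa [Set.mem_preimage, Set.mem_preimage, ← map_comp_apply] at hq'
  obtain ⟨h1, h2⟩ := qsub_spec hPb hP hF gZ (repByAlgSp1_of_with (with_fpFst z hf))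
    (with_locP_mono smooth_le_flat hc) (with_locP_mono smooth_le_lfp hc) hcs hT' hL'
  refine ⟨?_, ?_, fun Q₁ hQ₁ h b hb => ?_⟩
  · rw [eT]; exact isOpenSubstack_qsub hT' hF
  · rw [eT]; exact h1
  · refine (congrFun eT b).symm ▸ qsub_mono (h2 _ (isOpen_range_subIncl hF hQ₁) ?_) ((substack_eq_qsub hF hQ₁ b).1 hb)
    rwa [← show Q₁ = Qsub (Set.range (Points.map (AlgSt.subIncl (FibCat.fp z f) Q₁))) from
      funext fun b => propext (substack_eq_qsub hF hQ₁ b)]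

end Main

end Groth.Agent.StAlg16
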