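import Groth.Agent.Lib.StAlg.Descent
import Groth.Agent.Lib.AlgSpace.DiagChart
import Groth.Agent.Lib.AlgSpDescent.MonoLft

/-! Conditions on the diagonal of a representable morphism. -/

universe u

open CategoryTheory CategoryTheory.Functor CategoryTheory.Limits AlgebraicGeometry Opposite

set_option linter.style.haveILetI false
set_option linter.unusedSectionVars false
set_option backward.isDefEq.respectTransparency false
set_option backward.isDefEq.respectTransparency.types false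

namespace Groth.Agent.StAlg16

open Groth.Agent.FC16 Groth.Agent.StAlg AlgSp Groth.Agent.AlgSpace Groth.Agent.AlgSpDescent

variable {S : Scheme.{u}} {P Q : MorphismProperty (AlgSp.Sp S)} {𝒳 𝒴 : AlgSt.Cat S}

theorem repBySpWith_diag_of_with {X Y : Sp S} (a : X ⟶ Y) (hP : PreIso P)
    (h : AlgSt.RepByAlgSpWith P (FibCat.diag (AlgSt.ofSpMap a))) : RepBySpWith P (pullback.diagonal a).hom := by
  have sq := (IsPullback.of_hasPullback a a).map (sheafToPresheaf (AlgSp.J S) (Type (u + 1)))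
  let E : AlgSt.ofSp (pullback a a) ⥤ᵇ FibCat.fp (AlgSt.ofSpMap a) (AlgSt.ofSpMap a) := pbFun sq.w
  have hE : FibCat.IsEquivOver E := pbFun_isEquivOver sq
  obtain ⟨E', hE', ⟨α⟩, -⟩ := exists_inverse hE
  let Δ := Stk.ofPshMap (pullback.diagonal a).hom
  have hd1 : (pullback.diagonal a).hom ≫ (pullback.fst a a).hom = 𝟙 X.obj :=
    congrArg (fun t => t.hom) (pullback.diagonal_fst a)
  have hd2 : (pullback.diagonal a).hom ≫ (pullback.snd a a).hom = 𝟙 X.obj :=
    congrArg (fun t => t.hom) (pullback.diagonal_snd a)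
  let i : BasedFunctor.comp Δ E ≅ FibCat.diag (AlgSt.ofSpMap a) :=
    isoToPshFp (isoOfPval fun x => by
        show pval (BasedFunctor.comp Δ (Stk.ofPshMap (pullback.fst a a).hom)) x = pval (BasedFunctor.id _) x
        rw [pval_ofPshMap, pval_ofPshMap', pval_id]
        exact app_app hd1 (op x.base) x.sec)
      (isoOfPval fun x => by
        show pval (BasedFunctor.comp Δ (Stk.ofPshMap (pullback.snd a a).hom)) x = pval (BasedFunctor.id _) x
        rw [pval_ofPshMap, pval_ofPshMap', pval_id]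
        exact app_app hd2 (op x.base) x.sec)
  exact repBySpWith_of_with hP ((with_congr (f := Δ) (f' := FibCat.diag (AlgSt.ofSpMap a)) (a := BasedFunctor.id _)
    (b := E') isEquivOver_id hE' (wrIso i.symm E' ≪≫ wlIso Δ α)).2 h)

/-- a condition on the diagonal of a representable morphism, read on the morphism -/
theorem with_of_with_diag (hP : GoodP P) {f : 𝒳 ⥤ᵇ 𝒴} (hf : AlgSt.RepByAlgSp1 f)
    (h : AlgSt.RepByAlgSpWith P (FibCat.diag f))
    (conv : ∀ ⦃X : Sp S⦄, IsAlgSpace X → ∀ ⦃U : Over S⦄ (a : X ⟶ (yon S).obj U),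
      P (pullback.diagonal a) → Q a) : AlgSt.RepByAlgSpWith Q f := fun T w => by
  obtain ⟨X, e, he, -⟩ := repByAlgSp1_iff.1 hf T w
  let a := AlgSt.spMapOfOver (BasedFunctor.comp e (FibCat.fpFst w f))
  let i : BasedFunctor.comp (AlgSt.ofSpMap a) (AlgSt.toOverCat T) ≅ BasedFunctor.comp e (FibCat.fpFst w f) :=
    wrIso (eqToIso (congrArg Stk.ofPshMap (spMapOfOver_hom (BasedFunctor.comp e (FibCat.fpFst w f)))) ≪≫ (isoMapOf _).symm) (AlgSt.toOverCat T) ≪≫
      wlIso (BasedFunctor.comp e (FibCat.fpFst w f)) (eqToIso (ofOver_toOver T))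
  have h' := (with_diag_congr (f := FibCat.fpFst w f) (f' := AlgSt.ofSpMap a) (a := e) (b := AlgSt.toOverCat T)
    he (toOverCat_isEquivOver T) i).1 (with_diag_fpFst f w h)
  exact ⟨X, e, he, conv X.property a (hP.desc X.property
    (isAlgSpace_pullback (IsAlgSpace.yon_obj T) X.property X.property (IsPullback.of_hasPullback a a))
    _ (repBySpWith_diag_of_with a hP.preIso h'))⟩

variable {X : Sp S}

theorem pbP_repWith {R : MorphismProperty Scheme.{u}} [R.IsStableUnderBaseChange] : PbP (S := S) (RepWith R) :=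
  fun _ _ _ _ _ _ _ _ _ _ _ _ sq h => repWith_of_isPullback sq h

theorem isQuasiSeparatedMor_iff_diag (hX : IsAlgSpace X) {U : Over S} (a : X ⟶ (yon S).obj U) :
    IsQuasiSeparatedMor a ↔ AlgSp.IsQuasiCompactMor (pullback.diagonal a) :=
  repWith_quasiCompact_iff hX (isAlgSpace_pullback (IsAlgSpace.yon_obj U) hX hX (IsPullback.of_hasPullback a a))
    (AlgSpace.representable_diagonal hX a)

theorem isFiniteTypeMor_diag_iff (hX : IsAlgSpace X) {U : Over S} (a : X ⟶ (yon S).obj U) :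
    IsFiniteTypeMor (pullback.diagonal a) ↔ AlgSp.IsQuasiCompactMor (pullback.diagonal a) :=
  ⟨fun h => h.2, fun h => ⟨StAlg.locP_mono lftUnram_le_lft (locP_lftUnram_diagonal hX a), h⟩⟩

theorem isSeparatedMor_of_univClosed_diag (hX : IsAlgSpace X) {U : Over S} (a : X ⟶ (yon S).obj U)
    (h : IsUnivClosedMor (pullback.diagonal a)) : AlgSp.IsSeparatedMor a :=
  repWith_closedImmersion_of_univClosed hX
    (isAlgSpace_pullback (IsAlgSpace.yon_obj U) hX hX (IsPullback.of_hasPullback a a)) h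
    (StAlg.locP_mono lftUnram_le_lft (locP_lftUnram_diagonal hX a))

theorem isProperMor_diag_iff (hX : IsAlgSpace X) {U : Over S} (a : X ⟶ (yon S).obj U) :
    IsProperMor (pullback.diagonal a) ↔ AlgSp.IsSeparatedMor a :=
  ⟨fun h => isSeparatedMor_of_univClosed_diag hX a h.2.2, fun h => StAlg.isProperMor_diagonal hX a h⟩

theorem isUnivClosedMor_diag_iff (hX : IsAlgSpace X) {U : Over S} (a : X ⟶ (yon S).obj U) :
    IsUnivClosedMor (pullback.diagonal a) ↔ AlgSp.IsSeparatedMor a :=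
  ⟨isSeparatedMor_of_univClosed_diag hX a, fun h => (StAlg.isProperMor_diagonal hX a h).2.2⟩

theorem goodP_isUnivClosedMor : GoodP (S := S) IsUnivClosedMor :=
  goodP_of_fpqc (fun _ _ _ _ _ _ _ _ _ _ _ _ sq h => AlgSpDescent.univSp_of_isPullback sq h)
    (fun _ _ _ _ hY hZ _ _ ha hb => isUnivClosedMor_comp hY hZ ha hb) isLocalOnBase_fpqc_isUnivClosedMor

theorem pbP_isUnivClosedMor : PbP (S := S) IsUnivClosedMor :=
  fun _ _ _ _ _ _ _ _ _ _ _ _ sq h => AlgSpDescent.univSp_of_isPullback sq h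

variable {f : 𝒳 ⥤ᵇ 𝒴}

theorem with_separated_iff_univClosed_diag (hf : AlgSt.RepByAlgSp1 f) :
    AlgSt.RepByAlgSpWith AlgSp.IsSeparatedMor f ↔ AlgSt.RepByAlgSpWith IsUnivClosedMor (FibCat.diag f) :=
  ⟨fun h => with_diag_of_rep1 pbP_isUnivClosedMor h fun _ hX _ a ha => (isUnivClosedMor_diag_iff hX a).2 ha,
    fun h => with_of_with_diag goodP_isUnivClosedMor hf h fun _ hX _ a ha => (isUnivClosedMor_diag_iff hX a).1 ha⟩


/-- separated representable morphisms, by the diagonal -/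
theorem with_separated_iff_closedImm_diag (hf : AlgSt.RepByAlgSp1 f) :
    AlgSt.RepByAlgSpWith AlgSp.IsSeparatedMor f ↔ AlgSt.IsClosedImm (FibCat.diag f) :=
  ⟨fun h => with_diag_of_rep1 pbP_repWith h fun _ _ _ _ ha => ha,
    fun h => with_of_with_diag goodP_closedImm hf h fun _ _ _ _ ha => ha⟩

theorem with_separated_iff_proper_diag (hf : AlgSt.RepByAlgSp1 f) :
    AlgSt.RepByAlgSpWith AlgSp.IsSeparatedMor f ↔ AlgSt.IsSeparatedMor f :=
  ⟨fun h => with_diag_of_rep1 pbP_isProperMor h fun _ hX _ a ha => (isProperMor_diag_iff hX a).2 ha,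
    fun h => with_of_with_diag goodP_isProperMor hf h fun _ hX _ a ha => (isProperMor_diag_iff hX a).1 ha⟩

theorem with_qs_iff_qc_diag (hf : AlgSt.RepByAlgSp1 f) :
    AlgSt.RepByAlgSpWith AlgSp.IsQuasiSeparatedMor f ↔ AlgSt.RepByAlgSpWith AlgSp.IsQuasiCompactMor (FibCat.diag f) :=
  ⟨fun h => with_diag_of_rep1 pbP_isQuasiCompactMor h fun _ hX _ a ha => (isQuasiSeparatedMor_iff_diag hX a).1 ha,
    fun h => with_of_with_diag goodP_isQuasiCompactMor hf h fun _ hX _ a ha => (isQuasiSeparatedMor_iff_diag hX a).2 ha⟩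

theorem with_qs_iff_isQuasiSeparatedMor (hf : AlgSt.RepByAlgSp1 f) :
    AlgSt.RepByAlgSpWith AlgSp.IsQuasiSeparatedMor f ↔ AlgSt.IsQuasiSeparatedMor f :=
  ⟨fun h => with_diag_of_rep1 (pbP_isQuasiCompactMor.inf pbP_isQuasiSeparatedMor) h fun _ hX _ a ha =>
      qcqs_diagonal hX a ha,
    fun h => (with_qs_iff_qc_diag hf).2 (repByAlgSpWith_mono (fun _ _ _ _ ha => ha.1) h)⟩

theorem with_qs_iff_ft_diag (hf : AlgSt.RepByAlgSp1 f) :
    AlgSt.RepByAlgSpWith AlgSp.IsQuasiSeparatedMor f ↔ AlgSt.RepByAlgSpWith IsFiniteTypeMor (FibCat.diag f) :=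
  ⟨fun h => with_diag_of_rep1 (fun _ _ _ _ h₁ h₂ _ h₄ _ _ _ _ sq h => isFiniteTypeMor_of_isPullback h₁ h₂ h₄ sq h) h
      fun _ hX _ a ha => (isFiniteTypeMor_diag_iff hX a).2 ((isQuasiSeparatedMor_iff_diag hX a).1 ha),
    fun h => (with_qs_iff_qc_diag hf).2 (repByAlgSpWith_mono (fun _ _ _ _ ha => ha.2) h)⟩

/-- two conditions at the same representing object -/
theorem with_inf (hPi : PreIso P) (hQi : PreIso Q) (h𝒳 : FibCat.IsFibGrpd 𝒳.p) (h𝒴 : FibCat.IsFibGrpd 𝒴.p)
    (hP : AlgSt.RepByAlgSpWith P f) (hQ : AlgSt.RepByAlgSpWith Q f) : AlgSt.RepByAlgSpWith (P ⊓ Q) f := fun U z => by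
  have hid : ∀ {F : PSp S} (a : F ⟶ ((yon S).obj U).obj), IsPullback (𝟙 F) a a (𝟙 _) := fun a =>
    IsPullback.of_horiz_isIso ⟨by simp⟩
  obtain ⟨G, a, e, he, ⟨i⟩, hra, hr⟩ := exists_rep_over h𝒳 h𝒴 (repByAlgSp1_of_with hP)
    (BasedFunctor.comp (AlgSt.toOverCat U) z)
  obtain ⟨hG, hGA⟩ := isAlgSpaceP_of_repBySp a hra (isAlgSpaceP_pyon U)
  have h : (P ⊓ Q) (ObjectProperty.homMk a : (⟨G, hG⟩ : Sp S) ⟶ (yon S).obj U) :=
    ⟨(hr P hPi hP (𝟙 _) _ _ (hid a)).2.2, (hr Q hQi hQ (𝟙 _) _ _ (hid a)).2.2⟩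
  exact repOf_of_equiv (E := BasedFunctor.comp e (fpMap (a := AlgSt.toOverCat U) (b := BasedFunctor.id 𝒳)
      (s := BasedFunctor.id 𝒴) (F := BasedFunctor.comp (AlgSt.toOverCat U) z) (G := f) (F' := z) (G' := f)
      (Iso.refl _) (Iso.refl _)))
    (by haveI := idFun_full (𝒳 := 𝒴)
        haveI := idFun_faithful (𝒳 := 𝒴)
        exact isEquivOver_comp he (fpMap_isEquivOver _ _ (toOverCat_isEquivOver U) isEquivOver_id))
    (wrIso i (AlgSt.toOverCat U)) (repOf_ofPsh_of a (h := hG) hGA h)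

end Groth.Agent.StAlg16
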