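import Groth.Agent.Lib.StAlg16.Points
import Groth.Agent.Lib.AlgSpace.Points

/-! Points of slices and of categories of algebraic spaces; squares of charts. -/

universe v₃ u₃ v₂ u₂ u

open CategoryTheory CategoryTheory.Functor CategoryTheory.Limits AlgebraicGeometry Opposite

set_option linter.style.haveILetI false
set_option linter.unusedSectionVars false
set_option backward.isDefEq.respectTransparency false
set_option backward.isDefEq.respectTransparency.types false

namespace Groth.Agent.StAlg16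

open Groth.Agent.FC16 Groth.Agent.StAlg AlgSt

variable {S : Scheme.{u}}

section Sheaf

variable {F G : AlgSp.Sp S}

/-- a field-valued point of the category of a sheaf as one of the sheaf -/
noncomputable def fieldPtOf (p : FPt (AlgSt.ofSp F)) : AlgSp.FieldPt F :=
  ⟨p.K, p.str, F.obj.map (eqToHom p.lies.symm).op p.obj.sec⟩

theorem fieldPtOf_rel {p q : FPt (AlgSt.ofSp F)} (α : p.obj ⟶ q.obj) :
    AlgSp.FieldPt.Rel (fieldPtOf p) (fieldPtOf q) := by
  refine ⟨p.K, p.field, p.str, 𝟙 _, baseHom α, ?_⟩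
  have e : F.obj.map (eqToHom p.lies.symm).op p.obj.sec =
      F.obj.map (eqToHom p.lies.symm).op (F.obj.map α.hom.op q.obj.sec) := by rw [α.map_sec]
  refine (congrArg (F.obj.map (𝟙 (Over.mk p.str)).op) e).trans ?_
  change F.obj.map (𝟙 _).op (F.obj.map (eqToHom p.lies.symm).op (F.obj.map α.hom.op q.obj.sec)) =
    F.obj.map (baseHom α).op (F.obj.map (eqToHom q.lies.symm).op q.obj.sec)
  refine (congrArg _ (map2 (P := F.obj) _ _ _)).trans ((map2 (P := F.obj) _ _ _).trans
    (Eq.trans ?_ (map2 (P := F.obj) _ _ _).symm))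
  congr 3
  simp [baseHom]

/-- points of the category of a sheaf as points of the sheaf -/
noncomputable def spPts : Points (AlgSt.ofSp F) → AlgSp.Points F :=
  Quot.lift (fun p => AlgSp.Points.mk (fieldPtOf p)) fun _ _ ⟨_, a, b, _⟩ =>
    AlgSp.Points.sound (AlgSp.FieldPt.Rel.trans (AlgSp.FieldPt.Rel.symm (fieldPtOf_rel a)) (fieldPtOf_rel b))

theorem spPts_bijective : Function.Bijective (spPts (F := F)) := by
  refine ⟨fun x y h => ?_, fun x => ?_⟩
  · obtain ⟨⟨K, str, ⟨T, s⟩, lies⟩, rfl⟩ := Points.mk_surjective x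
    obtain ⟨⟨L, str', ⟨T', s'⟩, lies'⟩, rfl⟩ := Points.mk_surjective y
    change T = _ at lies
    change T' = _ at lies'
    subst lies
    subst lies'
    obtain ⟨Ω, _, w, a, b, hab⟩ := Quotient.exact (h : AlgSp.Points.mk _ = AlgSp.Points.mk _)
    change F.obj.map a.op (F.obj.map (𝟙 _) s) = F.obj.map b.op (F.obj.map (𝟙 _) s') at hab
    rw [Functor.map_id_apply, Functor.map_id_apply] at hab
    exact Points.sound ⟨{ K := Ω, str := w, obj := ⟨Over.mk w, F.obj.map a.op s⟩, lies := rfl },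
      ⟨a, rfl⟩, ⟨b, hab.symm⟩, trivial⟩
  · induction x using AlgSp.Points.ind with
    | h p =>
      refine ⟨Points.mk { K := p.K, str := p.str, obj := ⟨Over.mk p.str, p.val⟩, lies := rfl }, ?_⟩
      change AlgSp.Points.mk ⟨p.K, p.str, F.obj.map (𝟙 _) p.val⟩ = _
      rw [Functor.map_id_apply]
      rfl

theorem spPts_map (a : F ⟶ G) (x : Points (AlgSt.ofSp F)) :
    spPts (Points.map (AlgSt.ofSpMap a) x) = AlgSp.Points.map a (spPts x) := by
  obtain ⟨p, rfl⟩ := Points.mk_surjective x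
  change AlgSp.Points.mk ⟨p.K, p.str, _⟩ = AlgSp.Points.mk ⟨p.K, p.str, _⟩
  congr 2
  exact (NatTrans.naturality_apply a.hom (eqToHom p.lies.symm).op p.obj.sec).symm

theorem surjective_map_ofSpMap (a : F ⟶ G) :
    Function.Surjective (Points.map (AlgSt.ofSpMap a)) ↔ Function.Surjective (AlgSp.Points.map a) := by
  constructor
  · intro h y
    obtain ⟨y, rfl⟩ := spPts_bijective.2 y
    obtain ⟨x, rfl⟩ := h y
    exact ⟨spPts x, (spPts_map a x).symm⟩
  · intro h y
    obtain ⟨x, hx⟩ := h (spPts y)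
    obtain ⟨x, rfl⟩ := spPts_bijective.2 x
    exact ⟨x, spPts_bijective.1 (by rw [spPts_map, hx])⟩

end Sheaf

section Slice

variable {U V : Over S}

/-- the standard field-valued point of a slice at a point of the scheme -/
noncomputable def chartPt (U : Over S) (t : ↥U.left) : FPt (FibCat.overCat U) where
  K := ↥(U.left.residueField t)
  str := U.left.fromSpecResidueField t ≫ U.hom
  obj := Over.mk (Over.homMk (U.left.fromSpecResidueField t) rfl :
    Over.mk (U.left.fromSpecResidueField t ≫ U.hom) ⟶ U)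
  lies := rfl

/-- the point of the scheme under a point of the slice -/
noncomputable def ptOf : Points (FibCat.overCat U) → ↥U.left :=
  Quot.lift (fun p => (eqToHom p.lies.symm ≫ p.obj.hom).left (IsLocalRing.closedPoint p.K)) (by
    rintro p q ⟨r, a, b, -⟩
    have key : ∀ {q : FPt (FibCat.overCat U)} (α : r.obj ⟶ q.obj),
        (eqToHom r.lies.symm ≫ r.obj.hom).left (IsLocalRing.closedPoint r.K) =
          (eqToHom q.lies.symm ≫ q.obj.hom).left (IsLocalRing.closedPoint q.K) := fun {q} α => by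
      have e : baseHom α ≫ eqToHom q.lies.symm ≫ q.obj.hom = eqToHom r.lies.symm ≫ r.obj.hom := by
        have w : α.left ≫ q.obj.hom = r.obj.hom := Over.w α
        simp only [baseHom, Category.assoc, eqToHom_trans_assoc, eqToHom_refl, Category.id_comp]
        exact congrArg (eqToHom r.lies.symm ≫ ·) w
      rw [show IsLocalRing.closedPoint q.K = (baseHom α).left (IsLocalRing.closedPoint r.K) from
        Subsingleton.elim _ _, ← Scheme.Hom.comp_apply, ← Over.comp_left, e]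
    exact (key a).symm.trans (key b))

theorem ptOf_chartPt (t : ↥U.left) : ptOf (Points.mk (chartPt U t)) = t := by
  change (𝟙 _ ≫ Over.homMk (U.left.fromSpecResidueField t) rfl :
    Over.mk (U.left.fromSpecResidueField t ≫ U.hom) ⟶ U).left _ = t
  rw [Category.id_comp]
  exact Scheme.fromSpecResidueField_apply _ _

theorem mk_chartPt_ptOf (z : Points (FibCat.overCat U)) : Points.mk (chartPt U (ptOf z)) = z := by
  obtain ⟨⟨K, str, ⟨T, ⟨⟨⟩⟩, g⟩, lies⟩, rfl⟩ := Points.mk_surjective z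
  change T = _ at lies
  subst lies
  let m : Spec (CommRingCat.of K) ⟶ U.left := g.left
  have hm : m ≫ U.hom = str := Over.w g
  have key := Scheme.descResidueField_stalkClosedPointTo_fromSpecResidueField K U.left m
  let d : Over.mk str ⟶ Over.mk (U.left.fromSpecResidueField (m (IsLocalRing.closedPoint K)) ≫ U.hom) :=
    Over.homMk (Spec.map (U.left.descResidueField (K := K) (Scheme.stalkClosedPointTo m)))
      (((Category.assoc _ _ _).symm.trans (congrArg (· ≫ U.hom) key)).trans hm)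
  refine (Points.sound ⟨{ K := K, str := str, obj := Over.mk g, lies := rfl }, Over.homMk d ?_, 𝟙 _, trivial⟩)
  ext : 1
  exact key

theorem ptOf_map_overMap (k : U ⟶ V) (z : Points (FibCat.overCat U)) :
    ptOf (Points.map (AlgSt.overMap k) z) = k.left (ptOf z) := by
  obtain ⟨⟨K, str, ⟨T, ⟨⟨⟩⟩, g⟩, lies⟩, rfl⟩ := Points.mk_surjective z
  change T = _ at lies
  subst lies
  change (𝟙 _ ≫ g ≫ k).left _ = k.left ((𝟙 _ ≫ g).left _)
  rw [Category.id_comp, Category.id_comp]
  rfl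

theorem map_overMap_chartPt (k : U ⟶ V) (t : ↥U.left) :
    Points.map (AlgSt.overMap k) (Points.mk (chartPt U t)) = Points.mk (chartPt V (k.left t)) := by
  rw [← mk_chartPt_ptOf (Points.map _ _), ptOf_map_overMap, ptOf_chartPt]

variable {𝒳 : AlgSt.Cat S}

theorem ofChart_eq (x : FibCat.overCat U ⥤ᵇ 𝒳) (t : ↥U.left) :
    Points.ofChart x t = Points.map x (Points.mk (chartPt U t)) := rfl

theorem ofChart_congr {x x' : FibCat.overCat U ⥤ᵇ 𝒳} (e : x ≅ x') : Points.ofChart x = Points.ofChart x' :=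
  funext fun t => by rw [ofChart_eq, ofChart_eq, map_eq_map_of_iso e]

theorem ofChart_overMap (k : U ⟶ V) (x : FibCat.overCat V ⥤ᵇ 𝒳) (t : ↥U.left) :
    Points.ofChart (BasedFunctor.comp (AlgSt.overMap k) x) t = Points.ofChart x (k.left t) := by
  rw [ofChart_eq, ofChart_eq, map_comp_apply, map_overMap_chartPt]

theorem range_map_eq_range_ofChart (x : FibCat.overCat U ⥤ᵇ 𝒳) :
    Set.range (Points.map x) = Set.range (Points.ofChart x) := by
  ext z
  constructor
  · rintro ⟨w, rfl⟩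
    exact ⟨ptOf w, by rw [ofChart_eq, mk_chartPt_ptOf]⟩
  · rintro ⟨t, rfl⟩
    exact ⟨Points.mk (chartPt U t), rfl⟩

end Slice

theorem with_locP_ofSpMap {P : MorphismProperty Scheme.{u}} [AlgSpace.EtaleLocal P] {F G : AlgSp.Sp S}
    (hF : AlgSp.IsAlgSpace F) (hG : AlgSp.IsAlgSpace G) (a : F ⟶ G) (ha : AlgSp.LocP P a) :
    AlgSt.RepByAlgSpWith (AlgSp.LocP P) (AlgSt.ofSpMap a) :=
  StAlg.with_ofPshMap fun W ξ F' fst snd sq => by
    obtain ⟨hF', hA⟩ := AlgSpace.isAlgSpaceP_pullback sq ((AlgSp.isAlgSpaceP_obj_iff F).2 hF)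
      (AlgSpace.isAlgSpaceP_pyon W) ((AlgSp.isAlgSpaceP_obj_iff G).2 hG)
    exact ⟨hF', hA, AlgSpace.locP_of_isPullback (X := F) (Y := G)
      (X' := ⟨F', hF'⟩) (Y' := (AlgSp.yon S).obj W) hF hG (AlgSp.IsAlgSpace.yon_obj W)
      (fst := ObjectProperty.homMk fst) (f' := ObjectProperty.homMk snd) (g := ObjectProperty.homMk ξ)
      (IsPullback.of_map_of_faithful (sheafToPresheaf (AlgSp.J S) (Type (u + 1))) sq) ha⟩

/-- a morphism of schemes with a property, between slices -/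
theorem with_locP_overMap {P : MorphismProperty Scheme.{u}} [AlgSpace.EtaleLocal P] {U V : Over S} (k : U ⟶ V)
    (hk : P k.left) : AlgSt.RepByAlgSpWith (AlgSp.LocP P) (AlgSt.overMap k) :=
  (with_congr (f := AlgSt.overMap k) (a := AlgSt.toOverCat U) (b := AlgSt.toOverCat V)
    (toOverCat_isEquivOver U) (toOverCat_isEquivOver V) (overMapIso k)).2
    (with_locP_ofSpMap (AlgSp.IsAlgSpace.yon_obj U) (AlgSp.IsAlgSpace.yon_obj V) _
      (AlgSpace.locP_of_repWith (AlgSp.IsAlgSpace.yon_obj V) ((AlgSp.repWith_yon_map_iff P k).2 hk)))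

theorem of_with_locP_overMap {P : MorphismProperty Scheme.{u}} [AlgSpace.EtaleLocal P] {U V : Over S} (k : U ⟶ V)
    (hk : AlgSt.RepByAlgSpWith (AlgSp.LocP P) (AlgSt.overMap k)) : P k.left := by
  have h1 := repBySpWith_of_with (preIso_of_pullback pbP_locP) ((with_congr (f := AlgSt.overMap k) (a := AlgSt.toOverCat U)
    (b := AlgSt.toOverCat V) (toOverCat_isEquivOver U) (toOverCat_isEquivOver V) (overMapIso k)).1 hk)
  have hV := AlgSp.IsAlgSpace.yon_obj V
  have h2 : AlgSp.LocP P ((AlgSp.yon S).map k) :=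
    (h1 (𝟙 _) (𝟙 _) ((AlgSp.yon S).map k).hom (IsPullback.of_horiz_isIso ⟨by simp⟩)).2.2
  exact (AlgSp.repWith_yon_map_iff P k).1 (AlgSpace.repWith_of_locP hV
    ((AlgSp.repWith_yon_map_iff ⊤ k).2 (by trivial)).1 h2)

/-- A square of charts covering the fibre product. -/
theorem exists_chart_square {𝒳 : AlgSt.Cat S} (h𝒳 : FibCat.IsFibGrpd 𝒳.p) {U : Over S}
    {x : FibCat.overCat U ⥤ᵇ 𝒳} (hx : AlgSt.RepByAlgSp1 x) (V : Over S) (y : FibCat.overCat V ⥤ᵇ 𝒳) :
    ∃ (W : Over S) (k : W ⟶ V) (h : W ⟶ U),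
      Nonempty (BasedFunctor.comp (AlgSt.overMap k) y ≅ BasedFunctor.comp (AlgSt.overMap h) x) ∧
      (∀ (v : ↥V.left) (t : ↥U.left), Points.ofChart y v = Points.ofChart x t →
        ∃ w, k.left w = v ∧ h.left w = t) ∧
      (∀ (P : MorphismProperty Scheme.{u}) [P.IsStableUnderBaseChange] [AlgSpace.EtaleLocal P],
        (AlgSt.RepByAlgSpWith (AlgSp.LocP P) x → P k.left) ∧
        (AlgSt.RepByAlgSpWith (AlgSp.LocP P) y → P h.left)) := by
  obtain ⟨G, a, e, he, ⟨i₀⟩, hra, hr⟩ := exists_rep_over (overCat_isFibGrpd U) h𝒳 hx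
    (BasedFunctor.comp (AlgSt.toOverCat V) y)
  obtain ⟨hG, hGA⟩ := AlgSpace.isAlgSpaceP_of_repBySp a hra (AlgSpace.isAlgSpaceP_pyon V)
  let A : (⟨G, hG⟩ : AlgSp.Sp S) ⟶ (AlgSp.yon S).obj V := ObjectProperty.homMk a
  obtain ⟨W, p, hp, hps⟩ := hGA.atlas
  obtain ⟨k, hk⟩ := (AlgSp.yon S).map_surjective (p ≫ A)
  let P' := BasedFunctor.comp (AlgSt.ofOverCat W) (Stk.ofPshMap (P := ((AlgSp.yon S).obj W).obj) p.hom)
  let vU : FibCat.overCat W ⥤ᵇ FibCat.overCat U := BasedFunctor.comp (BasedFunctor.comp P' e) (FibCat.fpSnd _ x)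
  let h : W ⟶ U := eqToHom (vU.w_obj (Over.mk (𝟙 W))).symm ≫ (vU.obj (Over.mk (𝟙 W))).hom
  have hv : Nonempty (vU ≅ AlgSt.overMap h) := by
    let T : Over W := Over.mk (𝟙 W)
    have hw : (vU.obj T).left = W := vU.w_obj T
    let o : vU.obj T ≅ (AlgSt.overMap h).obj T :=
      Over.isoMk (eqToIso hw) (by
        change eqToHom hw ≫ 𝟙 W ≫ h = (vU.obj T).hom
        rw [Category.id_comp]
        exact (eqToHom_trans_assoc _ _ _).trans (by simp; rfl))
    obtain ⟨i, -⟩ := exists_iso (presCart_of_isFibGrpd (overCat_isFibGrpd U) vU)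
      (presCart_of_isFibGrpd (overCat_isFibGrpd U) (AlgSt.overMap h)) o
      (IsHomLift.of_fac' _ _ _ hw rfl (by
        change eqToHom hw = eqToHom hw ≫ 𝟙 W ≫ 𝟙 W
        simp))
    exact ⟨i⟩
  obtain ⟨iv⟩ := hv
  have hk' : mapOf (BasedFunctor.comp (Stk.ofPshMap (P := ((AlgSp.yon S).obj W).obj) p.hom) (Stk.ofPshMap a)) =
      ((AlgSp.yon S).map k).hom := by
    rw [mapOf_comp, mapOf_ofPshMap, mapOf_ofPshMap, hk]; rfl
  let j : BasedFunctor.comp (BasedFunctor.comp P' (Stk.ofPshMap a)) (AlgSt.toOverCat V) ≅ AlgSt.overMap k :=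
    wlIso (AlgSt.ofOverCat W) (wrIso (isoMapOf _ ≪≫ eqToIso (congrArg Stk.ofPshMap hk')) (AlgSt.toOverCat V) ≪≫
      overMapIso k) ≪≫ wrIso (eqToIso (ofOver_toOver W)) (AlgSt.overMap k)
  let i : BasedFunctor.comp (AlgSt.overMap k) y ≅ BasedFunctor.comp (AlgSt.overMap h) x :=
    wrIso j.symm y ≪≫ wlIso P' (wrIso i₀.symm (BasedFunctor.comp (AlgSt.toOverCat V) y)) ≪≫
      wlIso (BasedFunctor.comp P' e) (FibCat.fpIso (BasedFunctor.comp (AlgSt.toOverCat V) y) x) ≪≫ wrIso iv x
  refine ⟨W, k, h, ⟨i⟩, fun v t hvt => ?_, fun P _ _ => ⟨fun hP => ?_, fun hP => ?_⟩⟩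
  · obtain ⟨v', hv'⟩ := (map_bijective (toOverCat_isEquivOver V)).2 (Points.mk (chartPt V v))
    obtain ⟨z, hz₁, hz₂⟩ := exists_fp_point (overCat_isFibGrpd U) h𝒳 (isStack_ofSp _).1 x
      (BasedFunctor.comp (AlgSt.toOverCat V) y) v' (Points.mk (chartPt U t)) (by
        rw [map_comp_apply, hv', ← ofChart_eq, ← ofChart_eq, hvt])
    obtain ⟨z', hz'⟩ := (map_bijective he).2 z
    have hP' : Function.Surjective (Points.map P') := by
      intro g
      obtain ⟨g', hg'⟩ := (surjective_map_ofSpMap p).2 (AlgSpace.surjective_map_of_repWith hps) g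
      obtain ⟨g'', rfl⟩ := (map_bijective (ofOverCat_isEquivOver W)).2 g'
      exact ⟨g'', (map_comp_apply _ _ g'').trans hg'⟩
    obtain ⟨w', hw'⟩ := hP' z'
    refine ⟨ptOf w', ?_, ?_⟩
    · rw [← ptOf_map_overMap, ← map_eq_map_of_iso j, map_comp_apply, map_comp_apply, hw',
        ← map_eq_map_of_iso i₀, map_comp_apply, hz', hz₁, hv', ptOf_chartPt]
    · rw [← ptOf_map_overMap, ← map_eq_map_of_iso iv, map_comp_apply, map_comp_apply, hw', hz', hz₂,
        ptOf_chartPt]
  · have hid : IsPullback (𝟙 G) a a (𝟙 (((AlgSp.yon S).obj V).obj)) := IsPullback.of_horiz_isIso ⟨by simp⟩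
    have hA : AlgSp.LocP P A := (hr _ (preIso_of_pullback pbP_locP) hP _ _ _ hid).2.2
    have hV := AlgSp.IsAlgSpace.yon_obj V
    have hkP : AlgSp.LocP P ((AlgSp.yon S).map k) := by
      rw [hk]
      exact AlgSpace.locP_comp (AlgSp.IsAlgSpace.yon_obj W) hGA hV
        (AlgSpace.locP_mono AlgSpace.EtaleLocal.etale_le (AlgSpace.locP_of_repWith hGA hp)) hA
    exact (AlgSp.repWith_yon_map_iff P k).1 (AlgSpace.repWith_of_locP hV
      ((AlgSp.repWith_yon_map_iff ⊤ k).2 (by trivial)).1 hkP)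
  · have hp' : AlgSt.RepByAlgSpWith (AlgSp.LocP P) P' :=
      (with_congr (f := AlgSt.ofSpMap (F := (AlgSp.yon S).obj W) (G := ⟨G, hG⟩) p) (a := AlgSt.ofOverCat W)
        (b := BasedFunctor.id _) (ofOverCat_isEquivOver W) isEquivOver_id (Iso.refl _)).1
        (with_locP_ofSpMap (AlgSp.IsAlgSpace.yon_obj W) hGA p
          (AlgSpace.locP_mono AlgSpace.EtaleLocal.etale_le (AlgSpace.locP_of_repWith hGA hp)))
    have hy' : AlgSt.RepByAlgSpWith (AlgSp.LocP P) (BasedFunctor.comp (AlgSt.toOverCat V) y) :=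
      (with_congr (f := y) (a := AlgSt.toOverCat V) (b := BasedFunctor.id 𝒳) (toOverCat_isEquivOver V)
        isEquivOver_id (Iso.refl _)).1 hP
    have he' : AlgSt.RepByAlgSpWith (AlgSp.LocP P)
        (BasedFunctor.comp e (FibCat.fpSnd (BasedFunctor.comp (AlgSt.toOverCat V) y) x)) :=
      (with_congr (f := FibCat.fpSnd (BasedFunctor.comp (AlgSt.toOverCat V) y) x) (a := e)
        (b := BasedFunctor.id _) he isEquivOver_id (Iso.refl _)).1 (with_fpSnd x hy')
    exact of_with_locP_overMap h (with_of_iso iv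
      (with_comp goodP_locP (overCat_isFibGrpd W) (isStack_ofSp _).1 hp' he'))

end Groth.Agent.StAlg16
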