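import Groth.Agent.Lib.StAlg16.QCMor

/-! Quasi-compactness over a quasi-separated base. -/

universe u

open CategoryTheory CategoryTheory.Functor CategoryTheory.Limits AlgebraicGeometry Opposite

set_option linter.style.haveILetI false
set_option linter.unusedSectionVars false
set_option backward.isDefEq.respectTransparency false
set_option backward.isDefEq.respectTransparency.types false

namespace Groth.Agent.StAlg16

open Groth.Agent.FC16 Groth.Agent.StAlg AlgSt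

variable {S : Scheme.{u}} {𝒳 𝒴 𝒵 : AlgSt.Cat S}

theorem qc_fp_swap (h𝒳 : IsAlgStack Scheme.fppfPrecoverage 𝒳) (h𝒴 : IsAlgStack Scheme.fppfPrecoverage 𝒴)
    (h𝒵 : IsAlgStack Scheme.fppfPrecoverage 𝒵) {f : 𝒳 ⥤ᵇ 𝒵} {g : 𝒴 ⥤ᵇ 𝒵}
    (h : AlgSt.IsQuasiCompact (FibCat.fp f g)) : AlgSt.IsQuasiCompact (FibCat.fp g f) :=
  qc_of_equiv (isAlgStack_fp' h𝒳 h𝒴 h𝒵 f g) (isAlgStack_fp' h𝒴 h𝒳 h𝒵 g f) (fpSwap_isEquivOver f g) h

theorem isQuasiCompactMor_of_iso (h𝒳 : IsAlgStack Scheme.fppfPrecoverage 𝒳)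
    (h𝒴 : IsAlgStack Scheme.fppfPrecoverage 𝒴) {f f' : 𝒳 ⥤ᵇ 𝒴} (i : f ≅ f')
    (h : AlgSt.IsQuasiCompactMor Scheme.fppfPrecoverage f) :
    AlgSt.IsQuasiCompactMor Scheme.fppfPrecoverage f' := fun 𝒲 h𝒲 hq g => by
  haveI := idFun_full (𝒳 := 𝒴)
  haveI := idFun_faithful (𝒳 := 𝒴)
  exact qc_of_equiv (isAlgStack_fp' h𝒲 h𝒳 h𝒴 g f) (isAlgStack_fp' h𝒲 h𝒳 h𝒴 g f')
    (show FibCat.IsEquivOver (fpMap (F := g) (G := f) (F' := g) (G' := f') (a := BasedFunctor.id _)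
        (b := BasedFunctor.id _) (s := BasedFunctor.id 𝒴) (Iso.refl _) i.symm) from
      fpMap_isEquivOver (F := g) (G := f) (F' := g) (G' := f') (a := BasedFunctor.id _) (b := BasedFunctor.id _)
        (s := BasedFunctor.id 𝒴) (Iso.refl _) i.symm isEquivOver_id isEquivOver_id) (h 𝒲 h𝒲 hq g)

theorem isQuasiCompactMor_fpSnd (h𝒳 : IsAlgStack Scheme.fppfPrecoverage 𝒳)
    (h𝒴 : IsAlgStack Scheme.fppfPrecoverage 𝒴) (h𝒵 : IsAlgStack Scheme.fppfPrecoverage 𝒵)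
    {f : 𝒳 ⥤ᵇ 𝒴} (g : 𝒵 ⥤ᵇ 𝒴) (hf : AlgSt.IsQuasiCompactMor Scheme.fppfPrecoverage f) :
    AlgSt.IsQuasiCompactMor Scheme.fppfPrecoverage (FibCat.fpSnd f g) := fun 𝒲 h𝒲 hq g' => by
  haveI := idFun_full (𝒳 := 𝒵)
  haveI := idFun_faithful (𝒳 := 𝒵)
  exact qc_of_equiv (isAlgStack_fp' h𝒲 (isAlgStack_fp' h𝒵 h𝒳 h𝒴 g f) h𝒵 g' _)
    (isAlgStack_fp' h𝒲 (isAlgStack_fp' h𝒳 h𝒵 h𝒴 f g) h𝒵 g' _)
    (show FibCat.IsEquivOver (fpMap (F := g') (G := FibCat.fpFst g f) (F' := g') (G' := FibCat.fpSnd f g)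
        (a := BasedFunctor.id _) (b := fpSwap g f) (s := BasedFunctor.id 𝒵) (Iso.refl _) (Iso.refl _)) from
      fpMap_isEquivOver (F := g') (G := FibCat.fpFst g f) (F' := g') (G' := FibCat.fpSnd f g)
        (a := BasedFunctor.id _) (b := fpSwap g f) (s := BasedFunctor.id 𝒵) (Iso.refl _) (Iso.refl _)
        isEquivOver_id (fpSwap_isEquivOver g f))
    (isQuasiCompactMor_fpFst h𝒳 h𝒴 h𝒵 g hf 𝒲 h𝒲 hq g')

/-- quasi-compact composite, quasi-separated second functor -/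
theorem isQuasiCompactMor_of_comp (h𝒳 : IsAlgStack Scheme.fppfPrecoverage 𝒳)
    (h𝒴 : IsAlgStack Scheme.fppfPrecoverage 𝒴) (h𝒵 : IsAlgStack Scheme.fppfPrecoverage 𝒵)
    {f : 𝒳 ⥤ᵇ 𝒴} {g : 𝒴 ⥤ᵇ 𝒵} (h : AlgSt.IsQuasiCompactMor Scheme.fppfPrecoverage (BasedFunctor.comp f g))
    (hg : AlgSt.RepByAlgSpWith AlgSp.IsQuasiCompactMor (FibCat.diag g)) :
    AlgSt.IsQuasiCompactMor Scheme.fppfPrecoverage f := by
  let e : BasedFunctor.comp (BasedFunctor.id 𝒳) (BasedFunctor.comp f g) ≅ BasedFunctor.comp f g := Iso.refl _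
  have hP := isAlgStack_fp' h𝒳 h𝒴 h𝒵 (BasedFunctor.comp f g) g
  have hΓ := with_graph f e hg
  exact isQuasiCompactMor_of_iso (f := BasedFunctor.comp (FibCat.fpLift (BasedFunctor.id 𝒳) f e)
      (FibCat.fpSnd (BasedFunctor.comp f g) g)) h𝒳 h𝒴 (Iso.refl _)
    (isQuasiCompactMor_comp h𝒳 hP h𝒴 ((with_qc_iff h𝒳 hP (repByAlgSp1_of_with hΓ)).1 hΓ)
      (isQuasiCompactMor_fpSnd h𝒳 h𝒵 h𝒴 g h))

theorem isAlgStack_selfOver : IsAlgStack Scheme.fppfPrecoverage (FibCat.selfOver (Over S)) :=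
  (isDM_of_rep rep_selfOver).1

/-- the product of two affine slices over a quasi-separated base is quasi-compact -/
theorem qc_prod_overCat [QuasiSeparatedSpace S] (U T : Over S) [IsAffine U.left] [IsAffine T.left] :
    AlgSt.IsQuasiCompact (FibCat.fp (FibCat.toSelf (FibCat.overCat U)) (FibCat.toSelf (FibCat.overCat T))) := by
  let P : Over S := Over.mk (pullback.fst U.hom T.hom ≫ U.hom)
  let p₁ : P ⟶ U := Over.homMk (pullback.fst U.hom T.hom)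
  let p₂ : P ⟶ T := Over.homMk (pullback.snd U.hom T.hom) pullback.condition.symm
  haveI : CompactSpace ↥P.left := QuasiCompact.compactSpace_of_compactSpace (pullback.fst U.hom T.hom)
  let q := FibCat.fpLift (F := FibCat.toSelf (FibCat.overCat U)) (G := FibCat.toSelf (FibCat.overCat T))
    (AlgSt.overMap p₁) (AlgSt.overMap p₂) (eqToIso (selfOver_functor_eq _ _))
  have hA := isAlgStack_fp' (isAlgStack_overCat U) (isAlgStack_overCat T) isAlgStack_selfOver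
    (FibCat.toSelf (FibCat.overCat U)) (FibCat.toSelf (FibCat.overCat T))
  haveI : CompactSpace (Points (FibCat.overCat P)) :=
    compactSpace_of_chart (isAlgStack_overCat P) (BasedFunctor.id _) fun z =>
      ⟨ptOf z, by rw [ofChart_eq, mk_chartPt_ptOf, map_id_apply]⟩
  refine isQuasiCompact_of_isSurjective hA (isAlgStack_overCat P) q (fun z => ?_)
    (isQuasiCompact_of_compactSpace (isAlgStack_overCat P))
  obtain ⟨⟨K, str, η, lies⟩, rfl⟩ := Points.mk_surjective z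
  haveI := iso_lift η (U := η.obj.fst.left) rfl
  have h' : η.obj.fst.left = η.obj.snd.left := (snd_p η).symm
  have hh : η.obj.iso.hom = eqToHom h' := by
    refine (IsHomLift.fac' (FibCat.selfOver (Over S)).p (𝟙 η.obj.fst.left) η.obj.iso.hom).trans ?_
    simp
  let l : η.obj.fst.left ⟶ P := Over.homMk (pullback.lift η.obj.fst.hom.left (eqToHom h' ≫ η.obj.snd.hom).left
    ((Over.w η.obj.fst.hom).trans (Over.w (eqToHom h' ≫ η.obj.snd.hom)).symm)) (by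
      show pullback.lift _ _ _ ≫ pullback.fst _ _ ≫ U.hom = _
      rw [pullback.lift_fst_assoc]
      exact Over.w η.obj.fst.hom)
  have l₁ : l ≫ p₁ = η.obj.fst.hom := Over.OverMorphism.ext (pullback.lift_fst ..)
  have l₂ : l ≫ p₂ = eqToHom h' ≫ η.obj.snd.hom := Over.OverMorphism.ext (pullback.lift_snd ..)
  let o : (FibCat.overCat P).obj := Over.mk l
  let a : FPt (FibCat.overCat P) := ⟨K, str, o, lies⟩
  refine ⟨Points.mk a, Points.sound ⟨(⟨K, str, q.obj o, (q.w_obj o).trans lies⟩ : FPt _),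
    ⟨𝟙 _, (fpIsoMk (x := q.obj o) (y := η) (Over.isoMk (Iso.refl _) ?_) (Over.isoMk (eqToIso h') ?_) ?_).hom, trivial⟩⟩⟩
  · change 𝟙 _ ≫ η.obj.fst.hom = l ≫ p₁
    rw [l₁, Category.id_comp]
  · change eqToHom h' ≫ η.obj.snd.hom = l ≫ p₂
    rw [l₂]
  · change 𝟙 _ ≫ η.obj.iso.hom = (q.obj o).obj.iso.hom ≫ eqToHom h'
    rw [hh]
    haveI := iso_lift (q.obj o) (U := o.left) rfl
    have : (q.obj o).obj.iso.hom = 𝟙 _ :=
      (IsHomLift.fac' (FibCat.selfOver (Over S)).p (𝟙 o.left) (q.obj o).obj.iso.hom).trans (by simp; rfl)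
    rw [this]
    rfl

theorem isQuasiCompactMor_toSelf [QuasiSeparatedSpace S] (h𝒳 : IsAlgStack Scheme.fppfPrecoverage 𝒳)
    (h : AlgSt.IsQuasiCompact 𝒳) :
    AlgSt.IsQuasiCompactMor Scheme.fppfPrecoverage (FibCat.toSelf 𝒳) := fun 𝒲 h𝒲 hq g => by
  have hT := isAlgStack_selfOver (S := S)
  obtain ⟨U, x, hU, -, hxs⟩ := hq
  obtain ⟨V, y, hV, -, hys⟩ := h
  haveI := hU; haveI := hV
  refine qc_fp_of_lift h𝒳 hT h𝒲 (isAlgStack_overCat U) (isSurjective_of_with h𝒲.isStack.1 hxs)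
    (eqToIso (selfOver_functor_eq _ _) : BasedFunctor.comp x g ≅ FibCat.toSelf (FibCat.overCat U)) ?_
  refine qc_fp_swap h𝒳 (isAlgStack_overCat U) hT ?_
  exact qc_fp_of_lift (isAlgStack_overCat U) hT h𝒳 (isAlgStack_overCat V) (isSurjective_of_with h𝒳.isStack.1 hys)
    (eqToIso (selfOver_functor_eq _ _) : BasedFunctor.comp y (FibCat.toSelf 𝒳) ≅ FibCat.toSelf (FibCat.overCat V))
    (qc_prod_overCat V U)

theorem isQuasiCompactMor_of_qc_of_qs [QuasiSeparatedSpace S] (h𝒳 : IsAlgStack Scheme.fppfPrecoverage 𝒳)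
    (h𝒴 : IsAlgStack Scheme.fppfPrecoverage 𝒴) (f : 𝒳 ⥤ᵇ 𝒴) (h : AlgSt.IsQuasiCompact 𝒳)
    (hq : AlgSt.RepByAlgSpWith AlgSp.IsQuasiCompactMor (FibCat.diag (FibCat.toSelf 𝒴))) :
    AlgSt.IsQuasiCompactMor Scheme.fppfPrecoverage f :=
  isQuasiCompactMor_of_comp h𝒳 h𝒴 isAlgStack_selfOver
    (isQuasiCompactMor_of_iso h𝒳 isAlgStack_selfOver (eqToIso (selfOver_functor_eq _ _))
      (isQuasiCompactMor_toSelf h𝒳 h)) hq

end Groth.Agent.StAlg16
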