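import Groth.Agent.Lib.StAlg16.PointsSp

/-! The topology on the points of an algebraic stack. -/

universe v₃ u₃ v₂ u₂ u

open CategoryTheory CategoryTheory.Functor CategoryTheory.Limits AlgebraicGeometry Opposite Topology

set_option linter.style.haveILetI false
set_option linter.unusedSectionVars false
set_option backward.isDefEq.respectTransparency false
set_option backward.isDefEq.respectTransparency.types false

namespace Groth.Agent.StAlg16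

open Groth.Agent.FC16 Groth.Agent.StAlg AlgSt

variable {S : Scheme.{u}} {𝒳 𝒴 : AlgSt.Cat S}

theorem surjective_spMapOfOver_iff {U : Over S} {F : AlgSp.Sp S} (Φ : AlgSt.ofSp F ⥤ᵇ FibCat.overCat U) :
    AlgSp.IsSurjectiveMor (AlgSt.spMapOfOver Φ) ↔ IsSurjective Φ := by
  let i : BasedFunctor.comp Φ (AlgSt.ofOverCat U) ≅ AlgSt.ofSpMap (AlgSt.spMapOfOver Φ) :=
    isoMapOf _ ≪≫ eqToIso (congrArg Stk.ofPshMap (spMapOfOver_hom Φ).symm)
  have hb := map_bijective (ofOverCat_isEquivOver U)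
  have e : Points.map (AlgSt.ofSpMap (AlgSt.spMapOfOver Φ)) = Points.map (AlgSt.ofOverCat U) ∘ Points.map Φ := by
    funext z
    rw [← map_eq_map_of_iso i, map_comp_apply]
    rfl
  change Function.Surjective _ ↔ _
  rw [← surjective_map_ofSpMap, e]
  exact ⟨fun hs y => (hs (Points.map _ y)).imp fun z hz => hb.injective hz, fun hs => hb.surjective.comp hs⟩

theorem isSurjective_of_with {f : 𝒳 ⥤ᵇ 𝒴} (h𝒴 : FibCat.IsFibGrpd 𝒴.p)
    (hf : AlgSt.RepByAlgSpWith AlgSp.IsSurjectiveMor f) : IsSurjective f := by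
  intro z
  obtain ⟨p, rfl⟩ := Points.mk_surjective z
  haveI := FC16.isFibered h𝒴
  obtain ⟨F, e, he, hs⟩ := hf _ (ofObj p.lies)
  let q : FPt (FibCat.overCat (Over.mk p.str)) :=
    { K := p.K, str := p.str, obj := Over.mk (𝟙 _), lies := rfl }
  obtain ⟨w, hw⟩ := (surjective_spMapOfOver_iff _).1 hs (Points.mk q)
  rw [map_comp_apply] at hw
  refine ⟨Points.map (FibCat.fpSnd (ofObj p.lies) f) (Points.map e w), ?_⟩
  rw [← map_comp_apply, ← map_eq_map_of_iso (FibCat.fpIso (ofObj p.lies) f), map_comp_apply, hw]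
  exact Points.sound ⟨q.map (ofObj p.lies), 𝟙 _, (ofObjIso p.lies).hom, trivial⟩

theorem with_surjective_of_isSurjective {f : 𝒳 ⥤ᵇ 𝒴} (h𝒳 : FibCat.IsFibGrpd 𝒳.p) (h𝒴 : FibCat.IsFibGrpd 𝒴.p)
    (hf : AlgSt.RepByAlgSp1 f) (hs : IsSurjective f) : AlgSt.RepByAlgSpWith AlgSp.IsSurjectiveMor f := fun U y => by
  obtain ⟨F, e, he⟩ := hf U y
  refine ⟨F, e, he, (surjective_spMapOfOver_iff _).2 fun z => ?_⟩
  obtain ⟨w, hw⟩ := isSurjective_fpFst h𝒳 h𝒴 (overCat_isFibGrpd U) y hs z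
  obtain ⟨w', rfl⟩ := (map_bijective he).2 w
  exact ⟨w', by rw [map_comp_apply, hw]⟩

theorem preimage_image_ofChart {U V W : Over S} {x : FibCat.overCat U ⥤ᵇ 𝒳} {y : FibCat.overCat V ⥤ᵇ 𝒳}
    {k : W ⟶ V} {h : W ⟶ U} (i : BasedFunctor.comp (AlgSt.overMap k) y ≅ BasedFunctor.comp (AlgSt.overMap h) x)
    (hsq : ∀ (v : ↥V.left) (t : ↥U.left), Points.ofChart y v = Points.ofChart x t → ∃ w, k.left w = v ∧ h.left w = t)
    (O : Set ↥U.left) : Points.ofChart y ⁻¹' (Points.ofChart x '' O) = k.left '' (h.left ⁻¹' O) := by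
  ext v
  constructor
  · rintro ⟨t, ht, e⟩
    obtain ⟨w, hw, hw'⟩ := hsq v t e.symm
    exact ⟨w, show h.left w ∈ O from hw' ▸ ht, hw⟩
  · rintro ⟨w, hw, rfl⟩
    exact ⟨h.left w, hw, by rw [← ofChart_overMap, ← ofChart_overMap, ofChart_congr i]⟩

theorem isOpenMap_left (h𝒳 : FibCat.IsFibGrpd 𝒳.p) {U : Over S} {x : FibCat.overCat U ⥤ᵇ 𝒳}
    (hx₁ : AlgSt.RepByAlgSpWith (AlgSp.LocP @Flat) x)
    (hx₂ : AlgSt.RepByAlgSpWith (AlgSp.LocP @LocallyOfFinitePresentation) x) (V : Over S)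
    (y : FibCat.overCat V ⥤ᵇ 𝒳) :
    ∃ (W : Over S) (k : W ⟶ V) (h : W ⟶ U),
      Nonempty (BasedFunctor.comp (AlgSt.overMap k) y ≅ BasedFunctor.comp (AlgSt.overMap h) x) ∧
      (∀ (v : ↥V.left) (t : ↥U.left), Points.ofChart y v = Points.ofChart x t →
        ∃ w, k.left w = v ∧ h.left w = t) ∧ IsOpenMap k.left := by
  obtain ⟨W, k, h, hi, hsq, hP⟩ := exists_chart_square h𝒳 (repByAlgSp1_of_with hx₁) V y
  haveI : Flat k.left := (hP @Flat).1 hx₁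
  haveI : LocallyOfFinitePresentation k.left := (hP @LocallyOfFinitePresentation).1 hx₂
  exact ⟨W, k, h, hi, hsq, k.left.isOpenMap⟩

theorem isOpenMap_ofChart (h𝒳 : FibCat.IsFibGrpd 𝒳.p) {U : Over S} {x : FibCat.overCat U ⥤ᵇ 𝒳}
    (hx₁ : AlgSt.RepByAlgSpWith (AlgSp.LocP @Flat) x)
    (hx₂ : AlgSt.RepByAlgSpWith (AlgSp.LocP @LocallyOfFinitePresentation) x) :
    IsOpenMap (Points.ofChart x) := by
  intro O hO
  refine Points.isOpen_iff.2 fun V y _ => ?_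
  obtain ⟨W, k, h, ⟨i⟩, hsq, hk⟩ := isOpenMap_left h𝒳 hx₁ hx₂ V y
  rw [preimage_image_ofChart i hsq]
  exact hk _ (hO.preimage h.left.continuous)

theorem continuous_ofChart (h𝒳 : IsAlgStack Scheme.fppfPrecoverage 𝒳) {U : Over S} (x : FibCat.overCat U ⥤ᵇ 𝒳) :
    Continuous (Points.ofChart x) := by
  refine continuous_def.2 fun O hO => ?_
  obtain ⟨V, y, hsm, hsu⟩ := h𝒳.atlas
  obtain ⟨W, k, h, ⟨i⟩, hsq, hk⟩ := isOpenMap_left h𝒳.isStack.1 (with_locP_mono smooth_le_flat hsm)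
    (with_locP_mono smooth_le_lfp hsm) U x
  have e : Points.ofChart x ⁻¹' O = k.left '' (h.left ⁻¹' (Points.ofChart y ⁻¹' O)) := by
    rw [← preimage_image_ofChart i hsq, Set.image_preimage_eq]
    intro z
    obtain ⟨w, rfl⟩ := isSurjective_of_with h𝒳.isStack.1 hsu z
    exact ⟨ptOf w, by rw [ofChart_eq, mk_chartPt_ptOf]⟩
  rw [e]
  exact hk _ ((hO V y hsm).preimage h.left.continuous)

theorem continuous_map (h𝒴 : IsAlgStack Scheme.fppfPrecoverage 𝒴) (f : 𝒳 ⥤ᵇ 𝒴) : Continuous (Points.map f) :=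
  continuous_def.2 fun O hO => Points.isOpen_iff.2 fun U x _ => by
    have e : Points.ofChart x ⁻¹' (Points.map f ⁻¹' O) = Points.ofChart (BasedFunctor.comp x f) ⁻¹' O := rfl
    rw [e]
    exact hO.preimage (continuous_ofChart h𝒴 _)

theorem surjective_ofChart (h𝒳 : FibCat.IsFibGrpd 𝒳.p) {U : Over S} {x : FibCat.overCat U ⥤ᵇ 𝒳}
    (hs : AlgSt.RepByAlgSpWith AlgSp.IsSurjectiveMor x) : Function.Surjective (Points.ofChart x) := fun z => by
  obtain ⟨w, hw⟩ := isSurjective_of_with h𝒳 hs z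
  exact ⟨ptOf w, by rw [ofChart_eq, mk_chartPt_ptOf, hw]⟩

theorem exists_chart_ofSp (F : AlgSp.Space S) :
    ∃ (U : Over S) (p : FibCat.overCat U ⥤ᵇ AlgSt.ofSp F.obj),
      AlgSt.RepByAlgSpWith (AlgSp.LocP @Smooth) p ∧ AlgSt.RepByAlgSpWith AlgSp.IsSurjectiveMor p :=
  (isDM_of_rep (𝒳 := AlgSt.ofSp F.obj) ⟨F, BasedFunctor.id _, isEquivOver_id⟩).1.atlas

theorem isOpenMap_map_space (h𝒳 : FibCat.IsFibGrpd 𝒳.p) (F : AlgSp.Space S) (u : AlgSt.ofSp F.obj ⥤ᵇ 𝒳)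
    (hu₁ : AlgSt.RepByAlgSpWith (AlgSp.LocP @Flat) u)
    (hu₂ : AlgSt.RepByAlgSpWith (AlgSp.LocP @LocallyOfFinitePresentation) u) : IsOpenMap (Points.map u) := by
  intro O hO
  obtain ⟨U, p, hsm, hsu⟩ := exists_chart_ofSp F
  have hF := (isStack_ofSp F.obj).1
  have e : Points.map u '' O = Points.ofChart (BasedFunctor.comp p u) '' (Points.ofChart p ⁻¹' O) := by
    have e' : Points.ofChart (BasedFunctor.comp p u) = Points.map u ∘ Points.ofChart p := rfl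
    rw [e', Set.image_comp, Set.image_preimage_eq _ (surjective_ofChart hF hsu)]
  rw [e]
  exact isOpenMap_ofChart h𝒳
    (with_comp goodP_locP (overCat_isFibGrpd U) hF (with_locP_mono smooth_le_flat hsm) hu₁)
    (with_comp goodP_locP (overCat_isFibGrpd U) hF (with_locP_mono smooth_le_lfp hsm) hu₂) _ (hO U p hsm)

theorem isOpen_iff_preimage_space (h𝒳 : IsAlgStack Scheme.fppfPrecoverage 𝒳) (F : AlgSp.Space S)
    (u : AlgSt.ofSp F.obj ⥤ᵇ 𝒳) (hu₁ : AlgSt.RepByAlgSpWith (AlgSp.LocP @Flat) u)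
    (hu₂ : AlgSt.RepByAlgSpWith (AlgSp.LocP @LocallyOfFinitePresentation) u)
    (hu₃ : AlgSt.RepByAlgSpWith AlgSp.IsSurjectiveMor u) (W : Set (Points 𝒳)) :
    IsOpen W ↔ IsOpen (Points.map u ⁻¹' W) :=
  ⟨fun h => h.preimage (continuous_map h𝒳 u), fun h => by
    rw [← Set.image_preimage_eq W (isSurjective_of_with h𝒳.isStack.1 hu₃)]
    exact isOpenMap_map_space h𝒳.isStack.1 F u hu₁ hu₂ _ h⟩

theorem exists_compact_nhd (h𝒳 : IsAlgStack Scheme.fppfPrecoverage 𝒳) (z : Points 𝒳) {W : Set (Points 𝒳)}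
    (hW : IsOpen W) (hz : z ∈ W) : ∃ V, IsOpen V ∧ IsCompact V ∧ z ∈ V ∧ V ⊆ W := by
  obtain ⟨U, x, hsm, hsu⟩ := h𝒳.atlas
  obtain ⟨t, rfl⟩ := surjective_ofChart h𝒳.isStack.1 hsu z
  have hc := continuous_ofChart h𝒳 x
  obtain ⟨_, ⟨A, hA, rfl⟩, ht, hAW⟩ := U.left.isBasis_affineOpens.exists_subset_of_mem_open hz (hW.preimage hc)
  refine ⟨Points.ofChart x '' A, isOpenMap_ofChart h𝒳.isStack.1 (with_locP_mono smooth_le_flat hsm)
    (with_locP_mono smooth_le_lfp hsm) _ A.isOpen, hA.isCompact.image hc, ⟨t, ht, rfl⟩, ?_⟩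
  exact Set.image_subset_iff.2 hAW

end Groth.Agent.StAlg16
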