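import Groth.Agent.Lib.StAlg16.Topology

/-! Functors between slices; fibre products of slices; charts of fibre products of charts. -/

universe u

open CategoryTheory CategoryTheory.Functor CategoryTheory.Limits AlgebraicGeometry Opposite

set_option linter.style.haveILetI false
set_option linter.unusedSectionVars false
set_option backward.isDefEq.respectTransparency false
set_option backward.isDefEq.respectTransparency.types false

namespace Groth.Agent.StAlg16

open Groth.Agent.FC16 Groth.Agent.StAlg AlgSt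

variable {S : Scheme.{u}} {U V W : Over S}

theorem exists_overMap_iso (Φ : FibCat.overCat W ⥤ᵇ FibCat.overCat V) :
    ∃ h : W ⟶ V, Nonempty (Φ ≅ AlgSt.overMap h) := by
  let h : W ⟶ V := eqToHom (Φ.w_obj (Over.mk (𝟙 W))).symm ≫ (Φ.obj (Over.mk (𝟙 W))).hom
  let T : Over W := Over.mk (𝟙 W)
  have hw : (Φ.obj T).left = W := Φ.w_obj T
  let o : Φ.obj T ≅ (AlgSt.overMap h).obj T :=
    Over.isoMk (eqToIso hw) (by
      change eqToHom hw ≫ 𝟙 W ≫ h = (Φ.obj T).hom
      rw [Category.id_comp]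
      exact (eqToHom_trans_assoc _ _ _).trans (by simp; rfl))
  obtain ⟨i, -⟩ := exists_iso (presCart_of_isFibGrpd (overCat_isFibGrpd V) Φ)
    (presCart_of_isFibGrpd (overCat_isFibGrpd V) (AlgSt.overMap h)) o
    (IsHomLift.of_fac' _ _ _ hw rfl (by
      change eqToHom hw = eqToHom hw ≫ 𝟙 W ≫ 𝟙 W
      simp))
  exact ⟨h, ⟨i⟩⟩

theorem eq_of_overMap_iso {a b : U ⟶ V} (i : AlgSt.overMap a ≅ AlgSt.overMap b) : a = b := by
  haveI hl := isHomLift_appIso_hom i (Over.mk (𝟙 U)) (U := U) rfl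
  have h1 : (appIso i (Over.mk (𝟙 U))).hom.left ≫ 𝟙 U ≫ b = 𝟙 U ≫ a :=
    Over.w (appIso i (Over.mk (𝟙 U))).hom
  have h2 : (appIso i (Over.mk (𝟙 U))).hom.left = 𝟙 U := by
    have h := IsHomLift.fac' (FibCat.overCat V).p (𝟙 U) (appIso i (Over.mk (𝟙 U))).hom
    exact h.trans (by simp; rfl)
  rw [h2] at h1
  simp at h1
  exact h1.symm

/-- composition of `overMap`s -/
noncomputable def overMapComp (a : U ⟶ V) (b : V ⟶ W) :
    BasedFunctor.comp (AlgSt.overMap a) (AlgSt.overMap b) ≅ AlgSt.overMap (a ≫ b) :=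
  BasedNatIso.mkNatIso
    (NatIso.ofComponents (fun T => Over.isoMk (Iso.refl _) (by
      change 𝟙 _ ≫ T.hom ≫ a ≫ b = (T.hom ≫ a) ≫ b
      simp)) (fun {T T'} φ => by
        apply Over.OverMorphism.ext
        change φ.left ≫ 𝟙 _ = 𝟙 _ ≫ φ.left
        simp))
    (fun T => IsHomLift.id rfl)

/-- the functor from the slice of a fibre product -/
noncomputable def overPullback {A B C P : Over S} {f : A ⟶ C} {g : B ⟶ C} {p₁ : P ⟶ A} {p₂ : P ⟶ B}
    (w : p₁ ≫ f = p₂ ≫ g) :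
    FibCat.overCat P ⥤ᵇ FibCat.fp (AlgSt.overMap f) (AlgSt.overMap g) :=
  FibCat.fpLift (AlgSt.overMap p₁) (AlgSt.overMap p₂)
    (overMapComp p₁ f ≪≫ eqToIso (by rw [w]) ≪≫ (overMapComp p₂ g).symm)

theorem overPullback_isEquivOver {A B C P : Over S} {f : A ⟶ C} {g : B ⟶ C} {p₁ : P ⟶ A} {p₂ : P ⟶ B}
    (h : IsPullback p₁ p₂ f g) : FibCat.IsEquivOver (overPullback h.w) := by
  have : (overPullback h.w).toFunctor.Faithful := ⟨fun {a b φ φ'} e =>
    Over.OverMorphism.ext (congrArg (fun t => t.hom.fst.left) e)⟩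
  have : (overPullback h.w).toFunctor.Full := ⟨fun {a b} ψ => by
    have hs : ψ.hom.snd.left = ψ.hom.fst.left := by
      haveI := iso_lift ((overPullback h.w).obj a) (U := a.left) rfl
      haveI := iso_lift ((overPullback h.w).obj b) (U := b.left) rfl
      have ha : ((overPullback h.w).obj a).obj.iso.hom.left = 𝟙 a.left :=
        (IsHomLift.fac' (FibCat.overCat C).p (𝟙 a.left) ((overPullback h.w).obj a).obj.iso.hom).trans (by simp; rfl)
      have hb : ((overPullback h.w).obj b).obj.iso.hom.left = 𝟙 b.left :=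
        (IsHomLift.fac' (FibCat.overCat C).p (𝟙 b.left) ((overPullback h.w).obj b).obj.iso.hom).trans (by simp; rfl)
      have e := congrArg CommaMorphism.left (fp_w ψ)
      change ψ.hom.fst.left ≫ ((overPullback h.w).obj b).obj.iso.hom.left =
        ((overPullback h.w).obj a).obj.iso.hom.left ≫ ψ.hom.snd.left at e
      rw [ha, hb] at e
      exact ((Category.id_comp _).symm.trans e.symm).trans (Category.comp_id _)
    have w₁ : ψ.hom.fst.left ≫ b.hom ≫ p₁ = a.hom ≫ p₁ := Over.w ψ.hom.fst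
    have w₂ : ψ.hom.snd.left ≫ b.hom ≫ p₂ = a.hom ≫ p₂ := Over.w ψ.hom.snd
    rw [hs] at w₂
    refine ⟨Over.homMk ψ.hom.fst.left (h.hom_ext (by rw [Category.assoc]; exact w₁)
      (by rw [Category.assoc]; exact w₂)), ?_⟩
    exact fp_hom_ext (Over.OverMorphism.ext rfl) (Over.OverMorphism.ext hs.symm)⟩
  refine isEquivOver_of _ fun η => ?_
  let T : Over S := η.obj.fst.left
  haveI hι := iso_lift η (U := T) rfl
  let θ : T ⟶ η.obj.snd.left := η.obj.iso.hom.left
  let θ' : η.obj.snd.left ⟶ T := η.obj.iso.inv.left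
  have hθ : θ ≫ θ' = 𝟙 _ := congrArg CommaMorphism.left η.obj.iso.hom_inv_id
  have hθ' : θ' ≫ θ = 𝟙 _ := congrArg CommaMorphism.left η.obj.iso.inv_hom_id
  have hw : θ ≫ η.obj.snd.hom ≫ g = η.obj.fst.hom ≫ f := Over.w η.obj.iso.hom
  let a₀ : Over P := Over.mk (h.lift η.obj.fst.hom (θ ≫ η.obj.snd.hom) (by rw [Category.assoc]; exact hw.symm))
  refine ⟨a₀, fpIsoMk (Over.isoMk (Iso.refl _) (by
      change 𝟙 _ ≫ η.obj.fst.hom = h.lift _ _ _ ≫ p₁
      rw [Category.id_comp, h.lift_fst]))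
    (Over.isoMk ⟨θ, θ', hθ, hθ'⟩ (by
      change θ ≫ η.obj.snd.hom = h.lift _ _ _ ≫ p₂
      rw [h.lift_snd])) ?_, ?_⟩
  · apply Over.OverMorphism.ext
    haveI := iso_lift ((overPullback h.w).obj a₀) (U := a₀.left) rfl
    have ha : ((overPullback h.w).obj a₀).obj.iso.hom.left = 𝟙 a₀.left :=
      (IsHomLift.fac' (FibCat.overCat C).p (𝟙 a₀.left) ((overPullback h.w).obj a₀).obj.iso.hom).trans (by simp; rfl)
    change 𝟙 _ ≫ θ = ((overPullback h.w).obj a₀).obj.iso.hom.left ≫ θ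
    rw [ha]
    rfl
  · refine @isHomLift_of_fst _ _ _ _ _ _ _ _ _ _ _ _ _ ?_
    refine IsHomLift.of_fac' _ _ _ rfl rfl ?_
    change 𝟙 _ = _
    simp
    rfl

/-- a scheme chart of a fibre product over a stack with representable second functor -/
theorem exists_fp_chart {𝒴 : AlgSt.Cat S} (h𝒴 : FibCat.IsFibGrpd 𝒴.p) (y : FibCat.overCat V ⥤ᵇ 𝒴)
    {y₀ : FibCat.overCat U ⥤ᵇ 𝒴} (hy₀ : AlgSt.RepByAlgSp1 y₀) :
    ∃ (W : Over S) (w : FibCat.overCat W ⥤ᵇ FibCat.fp y y₀),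
      (∀ (P : MorphismProperty Scheme.{u}) [AlgSpace.EtaleLocal P], AlgSt.RepByAlgSpWith (AlgSp.LocP P) w) ∧
      AlgSt.RepByAlgSpWith AlgSp.IsSurjectiveMor w := by
  obtain ⟨G, a, e, he, -, hra, -⟩ := exists_rep_over (overCat_isFibGrpd U) h𝒴 hy₀
    (BasedFunctor.comp (AlgSt.toOverCat V) y)
  obtain ⟨hG, hGA⟩ := AlgSpace.isAlgSpaceP_of_repBySp a hra (AlgSpace.isAlgSpaceP_pyon V)
  obtain ⟨W, p, hp, hps⟩ := hGA.atlas
  haveI := idFun_full (𝒳 := 𝒴)
  haveI := idFun_faithful (𝒳 := 𝒴)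
  let E := BasedFunctor.comp e (fpMap (F := BasedFunctor.comp (AlgSt.toOverCat V) y) (G := y₀) (F' := y) (G' := y₀)
    (a := AlgSt.toOverCat V) (b := BasedFunctor.id _) (s := BasedFunctor.id 𝒴) (Iso.refl _) (Iso.refl _))
  have hE : FibCat.IsEquivOver E :=
    isEquivOver_comp he (fpMap_isEquivOver _ _ (toOverCat_isEquivOver V) isEquivOver_id)
  obtain ⟨E', hE', ⟨α⟩, -⟩ := exists_inverse hE
  let q := BasedFunctor.comp (AlgSt.ofOverCat W) (AlgSt.ofSpMap (G := ⟨G, hG⟩) p)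
  have key : ∀ {Q : MorphismProperty (AlgSp.Sp S)}, AlgSt.RepByAlgSpWith Q q →
      AlgSt.RepByAlgSpWith Q (BasedFunctor.comp q E) := fun {Q} h =>
    (with_congr (f := q) (f' := BasedFunctor.comp q E) (a := BasedFunctor.id _) (b := E') isEquivOver_id hE'
      (wlIso q α)).1 h
  refine ⟨W, BasedFunctor.comp q E, fun P _ => key ?_, key ?_⟩
  · exact (with_congr (f := AlgSt.ofSpMap (G := ⟨G, hG⟩) p) (a := AlgSt.ofOverCat W)
      (b := BasedFunctor.id _) (ofOverCat_isEquivOver W) isEquivOver_id (Iso.refl _)).1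
      (with_locP_ofSpMap (AlgSp.IsAlgSpace.yon_obj W) hGA p
        (AlgSpace.locP_mono AlgSpace.EtaleLocal.etale_le (AlgSpace.locP_of_repWith hGA hp)))
  · exact with_yon (fun X T b hb => AlgSpace.surjective_map_of_repWith hb) hps

end Groth.Agent.StAlg16
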