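import Groth.Agent.Lib.StAlg16.Setoid

/-! Equality of morphisms in prestacks is local; covers by representable flat surjective functors. -/

universe v₃ u₃ v₂ u₂ v u

open CategoryTheory CategoryTheory.Functor CategoryTheory.Limits AlgebraicGeometry Opposite

set_option linter.style.haveILetI false
set_option linter.unusedSectionVars false
set_option backward.isDefEq.respectTransparency false
set_option backward.isDefEq.respectTransparency.types false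

namespace Groth.Agent.StAlg16

open Groth.Agent.FC16 Groth.Agent.StAlg

section Gen

variable {C : Type u} [Category.{v} C] {J : GrothendieckTopology C} {𝒳 : BasedCategory.{v₂, u₂} C}

/-- Morphisms of a prestack over the same object which agree on a covering are equal. -/
theorem hom_ext_of_cover (hX : Stk.IsPrestack J 𝒳) {U : C} {R : Sieve U} (hR : R ∈ J U) {x y : 𝒳.obj}
    (χ χ' : x ⟶ y) [𝒳.p.IsHomLift (𝟙 U) χ] [𝒳.p.IsHomLift (𝟙 U) χ']
    (h : ∀ (w : 𝒳.obj) (π : w ⟶ x) (V : C) (g : V ⟶ U), R g → 𝒳.p.IsHomLift g π → π ≫ χ = π ≫ χ') :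
    χ = χ' := by
  haveI := FC16.isFibered hX.1
  haveI := (hX.2 R hR).2
  have hx : 𝒳.p.obj x = U := IsHomLift.domain_eq 𝒳.p (𝟙 U) χ
  have hy : 𝒳.p.obj y = U := IsHomLift.codomain_eq 𝒳.p (𝟙 U) χ
  haveI := ofObjIso_lift hx
  haveI := ofObjIso_lift hy
  have hs := ofObj_presCart hx
  have ht := ofObj_presCart hy
  let c : ∀ ψ : x ⟶ y, (ofObj hx).obj (Over.mk (𝟙 U)) ⟶ (ofObj hy).obj (Over.mk (𝟙 U)) := fun ψ =>
    (ofObjIso hx).hom ≫ ψ ≫ (ofObjIso hy).inv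
  have hc : ∀ (ψ : x ⟶ y) [𝒳.p.IsHomLift (𝟙 U) ψ], 𝒳.p.IsHomLift (𝟙 U) (c ψ) := fun ψ _ => by
    dsimp only [c]
    infer_instance
  haveI := hc χ
  haveI := hc χ'
  have key : FC16.ext ht (c χ) = FC16.ext (G := ofObj hx) ht (c χ') := by
    apply (Stk.resSieve R 𝒳).map_injective
    apply BasedNatTrans.homCategory.ext
    apply NatTrans.ext
    funext a
    change extApp ht (c χ) a.obj = extApp ht (c χ') a.obj
    haveI := map_toTerm_cart ht a.obj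
    apply IsStronglyCartesian.ext 𝒳.p a.obj.hom ((ofObj hy).map (toTerm a.obj)) (𝟙 a.obj.left)
    haveI : 𝒳.p.IsHomLift a.obj.hom ((ofObj hx).map (toTerm a.obj) ≫ (ofObjIso hx).hom) :=
      IsHomLift.comp_lift_id_right' (p := 𝒳.p) a.obj.hom _ U _
    have h' := h _ ((ofObj hx).map (toTerm a.obj) ≫ (ofObjIso hx).hom) _ a.obj.hom a.property inferInstance
    rw [extApp_fac, extApp_fac]
    simp only [c, ← Category.assoc] at h' ⊢
    rw [h']
  have := congrArg (fun α => α.toNatTrans.app (Over.mk (𝟙 U))) key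
  simp only [ext_app_term, c, cancel_epi, cancel_mono] at this
  exact this

end Gen

variable {S : Scheme.{u}}

theorem surjective_left_of_isSurjectiveMor {U V : Over S} (k : V ⟶ U)
    (h : AlgSp.IsSurjectiveMor ((AlgSp.yon S).map k)) : Surjective k.left := by
  refine ⟨fun t => ?_⟩
  obtain ⟨q, hq⟩ := h (AlgSp.Points.schemeHomeo U t)
  obtain ⟨s, rfl⟩ := (AlgSp.Points.schemeHomeo V).surjective q
  refine ⟨s, (AlgSp.Points.schemeHomeo U).injective ?_⟩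
  rw [← hq]
  exact (AlgSp.Points.map_yon_map_apply k s).symm

theorem mem_J_of_isFppfCover {U V : Over S} (k : V ⟶ U)
    (hc : AlgSp.IsFppfCover (fun _ : PUnit.{u + 1} => (AlgSp.yon S).obj V) (fun _ => (AlgSp.yon S).map k))
    (R : Sieve U) (hR : R k) : R ∈ (QuotSh.J Scheme.fppfPrecoverage S) U := by
  have hrep : AlgSp.Representable ((AlgSp.yon S).map k) :=
    ((AlgSp.repWith_yon_map_iff ⊤ k).2 (by trivial)).1
  haveI : Flat k.left := (AlgSp.repWith_yon_map_iff @Flat k).1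
    (AlgSpace.repWith_of_locP (AlgSp.IsAlgSpace.yon_obj U) hrep (hc.1 PUnit.unit).1)
  haveI : LocallyOfFinitePresentation k.left := (AlgSp.repWith_yon_map_iff @LocallyOfFinitePresentation k).1
    (AlgSpace.repWith_of_locP (AlgSp.IsAlgSpace.yon_obj U) hrep (hc.1 PUnit.unit).2)
  haveI : Surjective k.left := surjective_left_of_isSurjectiveMor k fun x => by
    obtain ⟨_, t, ht⟩ := hc.2 x
    exact ⟨t, ht⟩
  exact AlgSpace.mem_J_of_singleton k R hR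

/-- Faithfulness may be checked after a flat, surjective, finitely presented base change. -/
theorem faithful_of_isFibSetoid_fp {𝒳 𝒴 𝒵 : AlgSt.Cat S}
    (h𝒳 : Stk.IsStack (QuotSh.J Scheme.fppfPrecoverage S) 𝒳) (h𝒴 : FibCat.IsFibGrpd 𝒴.p)
    (h𝒵 : FibCat.IsFibGrpd 𝒵.p) (f : 𝒳 ⥤ᵇ 𝒴) {z : 𝒵 ⥤ᵇ 𝒴}
    (hz₁ : AlgSt.RepByAlgSpWith (AlgSp.LocP @Flat) z)
    (hz₂ : AlgSt.RepByAlgSpWith (AlgSp.LocP @LocallyOfFinitePresentation) z)
    (hz₃ : AlgSt.RepByAlgSpWith AlgSp.IsSurjectiveMor z)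
    (hfp : FibCat.IsFibSetoid (FibCat.fp z f).p) : f.toFunctor.Faithful := by
  haveI := FC16.isFibered h𝒳.1
  haveI := FC16.isFibered h𝒴
  refine faithful_of_fib (presCart_of_isFibGrpd h𝒴 f) fun U a b χ χ' hχ hχ' heq => ?_
  haveI := hχ; haveI := hχ'
  have ha : 𝒳.p.obj a = U := IsHomLift.domain_eq 𝒳.p (𝟙 U) χ
  have hb : 𝒳.p.obj b = U := IsHomLift.codomain_eq 𝒳.p (𝟙 U) χ
  have hfa : 𝒴.p.obj (f.obj a) = U := (f.w_obj a).trans ha
  obtain ⟨V, k, v, hc, ⟨i⟩⟩ := exists_cover_lift h𝒴 h𝒵 hz₁ hz₂ hz₃ U (ofObj hfa)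
  refine hom_ext_of_cover (isPrestack_of_isStack _ h𝒳)
    (mem_J_of_isFppfCover k hc (Sieve.generate (Presieve.singleton k)) (Sieve.le_generate _ _ _ ⟨⟩)) χ χ'
    fun w π W g hg hπ => ?_
  obtain ⟨_, q, _, ⟨⟩, rfl⟩ := hg
  haveI := hπ
  obtain ⟨b', ρ, hρ⟩ := exists_isStronglyCartesian (p := 𝒳.p) hb (q ≫ k)
  have h₁ : 𝒳.p.IsHomLift (q ≫ k) (π ≫ χ) := IsHomLift.comp_lift_id_right' (p := 𝒳.p) _ π U χ
  have h₂ : 𝒳.p.IsHomLift (q ≫ k) (π ≫ χ') := IsHomLift.comp_lift_id_right' (p := 𝒳.p) _ π U χ'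
  let c := IsCartesian.map 𝒳.p (q ≫ k) ρ (π ≫ χ)
  let c' := IsCartesian.map 𝒳.p (q ≫ k) ρ (π ≫ χ')
  have hcc : f.map c = f.map c' := by
    haveI := presCart_of_isFibGrpd h𝒴 f (q ≫ k) ρ hρ
    apply IsCartesian.ext 𝒴.p (q ≫ k) (f.map ρ)
    rw [← f.toFunctor.map_comp, ← f.toFunctor.map_comp, IsCartesian.fac, IsCartesian.fac,
      f.toFunctor.map_comp, f.toFunctor.map_comp, heq]
  have hwW : 𝒳.p.obj w = W := IsHomLift.domain_eq 𝒳.p (q ≫ k) π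
  let o : Over V := Over.mk q
  haveI hj : 𝒴.p.IsHomLift (𝟙 W) (appIso i o).hom := isHomLift_appIso_hom i o rfl
  haveI hl : 𝒴.p.IsHomLift (q ≫ k) ((ofObj hfa).map (toTerm (Over.mk (q ≫ k) : Over U)) ≫ (ofObjIso hfa).hom) :=
    haveI := ofObjIso_lift hfa
    haveI : 𝒴.p.IsHomLift (q ≫ k) ((ofObj hfa).map (toTerm (Over.mk (q ≫ k) : Over U))) :=
      map_toTerm_lift (ofObj hfa) (Over.mk (q ≫ k))
    IsHomLift.comp_lift_id_right' (p := 𝒴.p) _ _ U _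
  obtain ⟨e, he, -⟩ := exists_iso_of_lifts h𝒴 (q ≫ k)
    ((ofObj hfa).map (toTerm (Over.mk (q ≫ k) : Over U)) ≫ (ofObjIso hfa).hom) (f.map π)
  let j : z.obj (v.obj o) ≅ f.obj w := (appIso i o).symm ≪≫ e
  have hjl : 𝒴.p.IsHomLift (𝟙 W) j.hom := by
    haveI := he
    haveI : 𝒴.p.IsHomLift (𝟙 W) (appIso i o).inv := inferInstance
    exact inferInstanceAs (𝒴.p.IsHomLift (𝟙 W) ((appIso i o).inv ≫ e.hom))
  haveI : IsIso c := FC16.isIso_of_isHomLift h𝒳.1 (𝟙 W) c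
  let A : (FibCat.fp z f).obj := fpObj (v.obj o) w j (U := W) (v.w_obj o) hjl
  let B : (FibCat.fp z f).obj := fpObj (v.obj o) b' (j ≪≫ f.toFunctor.mapIso (asIso c)) (U := W) (v.w_obj o)
    (by
      haveI := hjl
      exact inferInstanceAs (𝒴.p.IsHomLift (𝟙 W) (j.hom ≫ f.map c)))
  let φ : A ⟶ B := fpHom (𝟙 _) c (by
    show z.toFunctor.map (𝟙 (v.obj o)) ≫ j.hom ≫ f.map c = j.hom ≫ f.map c
    simp)
  let φ' : A ⟶ B := fpHom (𝟙 _) c' (by
    show z.toFunctor.map (𝟙 (v.obj o)) ≫ j.hom ≫ f.map c = j.hom ≫ f.map c'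
    simp [hcc])
  haveI : (FibCat.fp z f).p.IsHomLift (𝟙 W) φ :=
    @isHomLift_of_snd _ _ _ _ _ _ _ _ _ _ _ _ _ (IsCartesian.map_isHomLift 𝒳.p (q ≫ k) ρ (π ≫ χ))
  haveI : (FibCat.fp z f).p.IsHomLift (𝟙 W) φ' :=
    @isHomLift_of_snd _ _ _ _ _ _ _ _ _ _ _ _ _ (IsCartesian.map_isHomLift 𝒳.p (q ≫ k) ρ (π ≫ χ'))
  have := congrArg (fun t => t.hom.snd) (hom_ext_of_thin hfp.2 (U := W) φ φ')
  calc π ≫ χ = c ≫ ρ := (IsCartesian.fac 𝒳.p _ _ _).symm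
    _ = c' ≫ ρ := congrArg (· ≫ ρ) this
    _ = π ≫ χ' := IsCartesian.fac 𝒳.p _ _ _

end Groth.Agent.StAlg16
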