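import Mathlib.RingTheory.Jacobson.Ring
import Mathlib.RingTheory.PolynomialAlgebra
import Mathlib.RingTheory.Algebraic.Integral
import Mathlib.RingTheory.Polynomial.UniqueFactorization
import Mathlib.RingTheory.Polynomial.RationalRoot
import Mathlib.RingTheory.IntegralClosure.IntegrallyClosed
import Mathlib.RingTheory.Ideal.MinimalPrime.Localization
import Mathlib.RingTheory.Flat.Basic
import Mathlib.RingTheory.TensorProduct.Finite
import Mathlib.RingTheory.FiniteType
import Mathlib.FieldTheory.IsAlgClosed.AlgebraicClosure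
import Mathlib.FieldTheory.RatFunc.Basic
import Mathlib.AlgebraicGeometry.Morphisms.FiniteType

/-! Two embeddings of a transcendental extension do not factor through a scheme of finite type. -/

universe u

open Polynomial CategoryTheory AlgebraicGeometry
open scoped TensorProduct

namespace Groth.Agent.StAlg16

variable {k L : Type u} [Field k] [Field L] [Algebra k L]

theorem exists_pair_of_transcendental {t : L} (ht : Transcendental k t) :
    ∃ (Ω : Type u) (_ : Field Ω) (_ : IsAlgClosed Ω) (ψ₁ ψ₂ : L →+* Ω),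
      ψ₁.comp (algebraMap k L) = ψ₂.comp (algebraMap k L) ∧
      Function.Injective (Polynomial.eval₂RingHom ψ₂ (ψ₁ t)) := by
  let f : L[X] →ₐ[L] L ⊗[k] L := aeval (1 ⊗ₜ[k] t)
  have hf : Function.Injective f := by
    let g : L[X] →ₐ[L] L ⊗[k] L :=
      (Algebra.TensorProduct.map (AlgHom.id L L) (aeval (R := k) t)).comp (polyEquivTensor' k L).toAlgHom
    have hg : g = f := Polynomial.algHom_ext (by simp [g, f])
    rw [← hg]
    have h1 : Function.Injective (TensorProduct.map LinearMap.id (aeval (R := k) t).toLinearMap :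
        L ⊗[k] k[X] →ₗ[k] L ⊗[k] L) :=
      Module.Flat.lTensor_preserves_injective_linearMap _ (transcendental_iff_injective.1 ht)
    exact h1.comp (polyEquivTensor' k L).injective
  haveI : (⊥ : Ideal L[X]).IsPrime := Ideal.bot_prime
  obtain ⟨P, _, hP⟩ := Ideal.exists_comap_eq_of_mem_minimalPrimes_of_injective (f := f.toRingHom) hf ⊥ (by simp [Ideal.minimalPrimes_eq_subsingleton_self, minimalPrimes])
  haveI : P.IsPrime := ‹_›
  let K := FractionRing ((L ⊗[k] L) ⧸ P)
  let π : L ⊗[k] L →+* AlgebraicClosure K :=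
    (algebraMap K (AlgebraicClosure K)).comp ((algebraMap _ K).comp (Ideal.Quotient.mk P))
  refine ⟨AlgebraicClosure K, inferInstance, inferInstance,
    π.comp Algebra.TensorProduct.includeRight.toRingHom, π.comp Algebra.TensorProduct.includeLeftRingHom,
    RingHom.ext fun c => ?_, ?_⟩
  · change π (1 ⊗ₜ algebraMap k L c) = π (algebraMap k L c ⊗ₜ 1)
    rw [Algebra.algebraMap_eq_smul_one, ← TensorProduct.smul_tmul]
  · rw [injective_iff_map_eq_zero]
    intro p hp
    have e : π (f p) = eval₂RingHom (π.comp Algebra.TensorProduct.includeLeftRingHom) (π (1 ⊗ₜ[k] t)) p := by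
      simp only [f, aeval_def, coe_eval₂RingHom, hom_eval₂]
      rfl
    have h0 : π (f p) = 0 := e.trans hp
    have h1 : Ideal.Quotient.mk P (f p) = 0 := by
      apply IsFractionRing.injective ((L ⊗[k] L) ⧸ P) K
      apply (algebraMap K (AlgebraicClosure K)).injective
      rw [map_zero, map_zero]
      exact h0
    have h2 : f p ∈ P := Ideal.Quotient.eq_zero_iff_mem.1 h1
    have : p ∈ P.comap f.toRingHom := h2
    rwa [hP, Ideal.mem_bot] at this

theorem not_finiteType_of_units [Infinite k] {B : Type u} [CommRing B] [Algebra L B] [Algebra.FiniteType L B]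
    (b : B) (hu : ∀ c : k, IsUnit (b - algebraMap L B (algebraMap k L c))) {Ω : Type u} [Field Ω] (χ : B →+* Ω)
    (hχ : Function.Injective (Polynomial.eval₂RingHom (χ.comp (algebraMap L B)) (χ b))) : False := by
  letI : Algebra L[X] B := (aeval b).toRingHom.toAlgebra
  haveI : IsScalarTower L L[X] B := IsScalarTower.of_algebraMap_eq fun x => by
    change algebraMap L B x = aeval b (C x)
    simp
  haveI : Algebra.FiniteType L[X] B := Algebra.FiniteType.of_restrictScalars_finiteType L L[X] B
  letI : Algebra L[X] Ω := (χ.comp (algebraMap L[X] B)).toAlgebra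
  have hinj : Function.Injective (algebraMap L[X] Ω) := by
    have : algebraMap L[X] Ω = eval₂RingHom (χ.comp (algebraMap L B)) (χ b) := by
      refine Polynomial.ringHom_ext (fun x => ?_) ?_
      · change χ (aeval b (C x)) = _
        simp
      · change χ (aeval b X) = _
        simp
    rwa [this]
  let χ' : B →ₐ[L[X]] Ω := { χ with commutes' := fun _ => rfl }
  let FX := FractionRing L[X]
  let Tt := FX ⊗[L[X]] B
  let l : FX →ₐ[L[X]] Ω := IsFractionRing.liftAlgHom (A := L[X]) (g := Algebra.ofId L[X] Ω) hinj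
  haveI : Nontrivial Tt := (Algebra.TensorProduct.lift l χ' fun _ _ => Commute.all _ _).toRingHom.domain_nontrivial
  obtain ⟨M, hM⟩ := Ideal.exists_maximal Tt
  letI := Ideal.Quotient.field M
  let E := Tt ⧸ M
  haveI : Algebra.FiniteType FX E := Algebra.FiniteType.of_surjective (Ideal.Quotient.mkₐ FX M) Ideal.Quotient.mk_surjective
  haveI : Module.Finite FX E := finite_of_finite_type_of_isJacobsonRing FX E
  let ε : B →ₐ[L[X]] E := ((Ideal.Quotient.mkₐ FX M).restrictScalars L[X]).comp Algebra.TensorProduct.includeRight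
  obtain ⟨gens, hgens⟩ := Algebra.FiniteType.out (R := L[X]) (A := B)
  have halg : ∀ y : E, IsAlgebraic L[X] y := fun y =>
    (IsFractionRing.isAlgebraic_iff L[X] FX E).2 (IsAlgebraic.of_finite FX y)
  choose d hd0 hd using fun y : E => (halg y).exists_integral_multiple
  let h : L[X] := ∏ g ∈ gens, d (ε g)
  have h0 : h ≠ 0 := Finset.prod_ne_zero_iff.2 fun g _ => hd0 _
  have hint : ∀ z : B, ∃ n : ℕ, IsIntegral L[X] (h ^ n • ε z) := by
    intro z
    have hz : z ∈ Algebra.adjoin L[X] (gens : Set B) := hgens ▸ Algebra.mem_top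
    induction hz using Algebra.adjoin_induction with
    | mem g hg =>
      refine ⟨1, ?_⟩
      obtain ⟨q, hq⟩ := Finset.dvd_prod_of_mem (fun g => d (ε g)) hg
      rw [pow_one, show h = q * d (ε g) by rw [mul_comm]; exact hq, mul_smul]
      exact (hd (ε g)).smul q
    | algebraMap r =>
      exact ⟨0, by rw [pow_zero, one_smul, AlgHom.commutes]; exact isIntegral_algebraMap⟩
    | add x y _ _ hx hy =>
      obtain ⟨m, hm⟩ := hx
      obtain ⟨n, hn⟩ := hy
      refine ⟨m + n, ?_⟩
      rw [map_add, smul_add]
      refine IsIntegral.add ?_ ?_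
      · rw [pow_add, mul_comm, mul_smul]; exact hm.smul _
      · rw [pow_add, mul_smul]; exact hn.smul _
    | mul x y _ _ hx hy =>
      obtain ⟨m, hm⟩ := hx
      obtain ⟨n, hn⟩ := hy
      refine ⟨m + n, ?_⟩
      rw [map_mul, pow_add, ← smul_mul_smul_comm]
      exact hm.mul hn
  obtain ⟨c, hc⟩ : ∃ c : k, h.eval (algebraMap k L c) ≠ 0 := by
    by_contra hne
    push Not at hne
    exact h0 (Polynomial.eq_zero_of_infinite_isRoot h ((Set.infinite_range_of_injective (algebraMap k L).injective).mono
      (fun x hx => by obtain ⟨c, rfl⟩ := hx; exact hne c)))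
  let q : L[X] := X - C (algebraMap k L c)
  have hq : IsUnit (algebraMap L[X] B q) := by
    change IsUnit (aeval b q)
    simpa [q] using hu c
  obtain ⟨v, hv⟩ := hq.exists_right_inv
  obtain ⟨n, hn⟩ := hint v
  have hv' : algebraMap L[X] E q * ε v = 1 := by
    rw [← ε.commutes, ← map_mul, hv, map_one]
  have hEinj : Function.Injective (algebraMap L[X] E) := by
    rw [IsScalarTower.algebraMap_eq L[X] FX E]
    exact (algebraMap FX E).injective.comp (IsFractionRing.injective L[X] FX)
  let w : FX := algebraMap L[X] FX (h ^ n) / algebraMap L[X] FX q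
  have hw : algebraMap FX E w = h ^ n • ε v := by
    rw [map_div₀, ← IsScalarTower.algebraMap_apply, ← IsScalarTower.algebraMap_apply, Algebra.smul_def,
      eq_inv_of_mul_eq_one_right hv', div_eq_mul_inv]
  have hwint : IsIntegral L[X] w := by
    rw [← hw] at hn
    exact (isIntegral_algebraMap_iff (algebraMap FX E).injective).1 hn
  obtain ⟨p, hp⟩ := IsIntegrallyClosed.isIntegral_iff.1 hwint
  have hdvd : q ∣ h ^ n := by
    refine ⟨p, IsFractionRing.injective L[X] FX ?_⟩
    rw [map_mul, hp, mul_div_cancel₀]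
    exact (map_ne_zero_iff _ (IsFractionRing.injective L[X] FX)).2 (X_sub_C_ne_zero _)
  have := dvd_iff_isRoot.1 hdvd
  rw [IsRoot, eval_pow] at this
  exact hc (eq_zero_of_pow_eq_zero this)

end Groth.Agent.StAlg16
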