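import Groth.Agent.Lib.StAlg16.AlgClosedLift
import Groth.Agent.Lib.StAlg16.TransField
import Groth.Agent.Lib.StAlg16.GoodSquares
import Groth.Agent.Lib.StAlg16.UnivInj
import Groth.Agent.Lib.StAlg16.QCMor
import Groth.Agent.Lib.StAlg16.Topology

/-! Rational points of stacks with surjective diagonal over an algebraically closed field. -/

universe u

open CategoryTheory CategoryTheory.Functor CategoryTheory.Limits AlgebraicGeometry Opposite

set_option linter.style.haveILetI false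
set_option linter.unusedSectionVars false
set_option backward.isDefEq.respectTransparency false
set_option backward.isDefEq.respectTransparency.types false

namespace Groth.Agent.StAlg16

open Groth.Agent.FC16 Groth.Agent.StAlg AlgSt

variable {S : Scheme.{u}}

theorem exists_two_arrow {𝒳 𝒴 : AlgSt.Cat S} (h𝒳 : AlgSt.IsAlgStack Scheme.fppfPrecoverage 𝒳)
    (h𝒴 : AlgSt.IsAlgStack Scheme.fppfPrecoverage 𝒴) {f : 𝒳 ⥤ᵇ 𝒴} (hΔ : AlgSt.IsSurjective (FibCat.diag f))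
    {k : Type u} [Field k] [IsAlgClosed k] {s : Spec (CommRingCat.of k) ⟶ S} {a₁ a₂ : 𝒳.obj}
    (h₁ : 𝒳.p.obj a₁ = Over.mk s) (β : f.obj a₁ ⟶ f.obj a₂) (hβ : 𝒴.p.IsHomLift (𝟙 (Over.mk s)) β) :
    ∃ α : a₁ ⟶ a₂, 𝒳.p.IsHomLift (𝟙 (Over.mk s)) α ∧ f.map α = β := by
  have hg := h𝒳.isStack.1
  have hy := h𝒴.isStack.1
  haveI := isIso_of_isHomLift hy (𝟙 (Over.mk s)) β
  let P : (FibCat.fp f f).obj := fpObj a₁ a₂ (asIso β) h₁ hβ
  obtain ⟨z, i, hz, hi⟩ := exists_lift_of_mem_range hg (fp_isFibGrpd hg hg hy f f) (lft_diag h𝒳 h𝒴 f) s P h₁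
    (hΔ (AlgSt.Points.mk _))
  haveI := hi
  let c₁ : z ⟶ a₁ := i.hom.hom.fst
  let c₂ : z ⟶ a₂ := i.hom.hom.snd
  haveI h1 : 𝒳.p.IsHomLift (𝟙 (Over.mk s)) c₁ :=
    inferInstanceAs (𝒳.p.IsHomLift (𝟙 (Over.mk s)) ((FibCat.fpFst f f).map i.hom))
  haveI : 𝒳.p.IsHomLift (𝟙 (Over.mk s)) c₂ :=
    inferInstanceAs (𝒳.p.IsHomLift (𝟙 (Over.mk s)) ((FibCat.fpSnd f f).map i.hom))
  haveI := isIso_of_isHomLift hg (𝟙 (Over.mk s)) c₁
  haveI : 𝒳.p.IsHomLift (𝟙 (Over.mk s)) (asIso c₁).hom := h1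
  refine ⟨inv c₁ ≫ c₂, inferInstanceAs (𝒳.p.IsHomLift (𝟙 (Over.mk s)) ((asIso c₁).inv ≫ c₂)), ?_⟩
  have w : f.map c₁ ≫ β = 𝟙 (f.obj z) ≫ f.map c₂ := fp_w i.hom
  rw [Category.id_comp] at w
  change f.toFunctor.map (inv c₁ ≫ c₂) = β
  rw [Functor.map_comp, ← w, ← Category.assoc, ← Functor.map_comp, IsIso.inv_hom_id,
    CategoryTheory.Functor.map_id, Category.id_comp]

theorem exists_lift_etale {F : AlgSp.Sp S} {W : Over S} {p : (AlgSp.yon S).obj W ⟶ F}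
    (he : AlgSp.RepWith @Etale p) (hs : AlgSp.RepWith @Surjective p) {Ω : Type u} [Field Ω] [IsAlgClosed Ω]
    {w : Spec (CommRingCat.of Ω) ⟶ S} (σ : F.obj.obj (op (Over.mk w))) :
    ∃ q : Over.mk w ⟶ W, p.hom.app (op (Over.mk w)) ⟨q⟩ = σ := by
  let g : (AlgSp.yon S).obj (Over.mk w) ⟶ F := ObjectProperty.homMk
    { app := fun V => ↾fun x => F.obj.map x.down.op σ
      naturality := fun V V' m => by
        ext x
        exact (map2 (P := F.obj) _ _ _).symm }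
  obtain ⟨k, hk⟩ := (AlgSp.yon S).map_surjective (he.1.fst g)
  have sq := he.1.isPullback g
  haveI : Etale (he.1.snd g).left := he.2 g _ _ sq
  haveI : Surjective (he.1.snd g).left := hs.2 g _ _ sq
  let V := he.1.pullback g
  haveI : JacobsonSpace (Over.mk w).left := inferInstanceAs (JacobsonSpace (Spec (CommRingCat.of Ω)))
  haveI : JacobsonSpace V.left := LocallyOfFiniteType.jacobsonSpace (he.1.snd g).left
  obtain ⟨v, -⟩ := (he.1.snd g).left.surjective (IsLocalRing.closedPoint Ω)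
  obtain ⟨c, -, hc⟩ := nonempty_inter_closedPoints (X := V.left) (Z := Set.univ) ⟨v, trivial⟩
    isOpen_univ.isLocallyClosed
  obtain ⟨q, hq⟩ := (pointEquivClosedPoint (he.1.snd g).left).symm ⟨c, hc⟩
  have hqw : q ≫ V.hom = w := by
    rw [← Over.w (he.1.snd g), reassoc_of% hq]
    rfl
  let Q : Over.mk w ⟶ V := Over.homMk q hqw
  have hQ : Q ≫ he.1.snd g = 𝟙 _ := Over.OverMorphism.ext hq
  refine ⟨Q ≫ k, ?_⟩
  have e := ConcreteCategory.congr_hom
    (NatTrans.congr_app (congrArg InducedCategory.Hom.hom sq.w) (op (Over.mk w))) ⟨Q⟩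
  rw [← hk] at e
  change p.hom.app (op (Over.mk w)) ⟨Q ≫ k⟩ = F.obj.map (Q ≫ he.1.snd g).op σ at e
  rw [e, hQ, op_id, CategoryTheory.Functor.map_id]
  rfl

theorem overCat_p_map {V : Over S} {a b : (FibCat.overCat V).obj} (φ : a ⟶ b) :
    (FibCat.overCat V).p.map φ = φ.left := rfl

theorem hom_eq_of_vertical {V T : Over S} {a b : (FibCat.overCat V).obj} (φ : a ⟶ b)
    (h : (FibCat.overCat V).p.IsHomLift (𝟙 T) φ) (ha : a.left = T) (hb : b.left = T) :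
    eqToHom ha.symm ≫ a.hom = eqToHom hb.symm ≫ b.hom := by
  have e : φ.left = eqToHom (ha.trans hb.symm) := by
    haveI := h
    rw [← overCat_p_map]
    simpa using IsHomLift.fac' (FibCat.overCat V).p (𝟙 T) φ
  rw [← Over.w φ, e, ← Category.assoc, eqToHom_trans]

theorem spMapOfOver_eq_of_secHom {T : Over S} {F : AlgSp.Sp S} (Φ : AlgSt.ofSp F ⥤ᵇ FibCat.overCat T) {W : Over S}
    (p : (AlgSp.yon S).obj W ⟶ F) :
    p ≫ AlgSt.spMapOfOver Φ = (AlgSp.yon S).map (AlgSt.secHom Φ ⟨W, p.hom.app (op W) ⟨𝟙 W⟩⟩) := by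
  apply ObjectProperty.hom_ext
  apply NatTrans.ext
  funext X
  ext ⟨x⟩
  refine congrArg ULift.up ?_
  let mx : (⟨X.unop, p.hom.app X ⟨x⟩⟩ : (AlgSt.ofSp F).obj) ⟶ ⟨W, p.hom.app (op W) ⟨𝟙 W⟩⟩ :=
    ⟨x, ((NatTrans.naturality_apply p.hom x.op ⟨𝟙 W⟩).symm.trans
      (congrArg (fun z => p.hom.app _ ⟨z⟩) (Category.comp_id x)))⟩
  exact (AlgSt.secHom_comp Φ mx).symm

/-- a chart of the fibre product of a point and the atlas through a given pair of points -/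
theorem exists_chart_pair {T : Over S} {𝒵 : AlgSt.Cat S} (h𝒵 : AlgSt.IsAlgStack Scheme.fppfPrecoverage 𝒵)
    (π : 𝒵 ⥤ᵇ FibCat.overCat T) (hΔ : AlgSt.IsSurjective (FibCat.diag π))
    {U : Over S} (h : U ⟶ T) (c : FibCat.overCat U ⥤ᵇ 𝒵) (i : BasedFunctor.comp c π ≅ AlgSt.overMap h)
    (hsm : AlgSt.RepByAlgSpWith (AlgSp.LocP @Smooth) c) {TL : Over S} (P : TL ⟶ U)
    {Ω : Type u} [Field Ω] [IsAlgClosed Ω] {w : Spec (CommRingCat.of Ω) ⟶ S} (w₁ w₂ : Over.mk w ⟶ TL)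
    (hw : (w₁ ≫ P) ≫ h = (w₂ ≫ P) ≫ h) :
    ∃ (W : Over S) (hW : W ⟶ TL) (gW : W ⟶ U) (q : Over.mk w ⟶ W),
      LocallyOfFiniteType hW.left ∧ gW ≫ h = hW ≫ P ≫ h ∧ q ≫ hW = w₂ ∧ q ≫ gW = w₁ ≫ P := by
  let zL := BasedFunctor.comp (AlgSt.overMap P) c
  obtain ⟨F, e, he, hF⟩ := hsm TL zL
  let o₁ : (FibCat.overCat U).obj := Over.mk (w₁ ≫ P)
  let o₂ : (FibCat.overCat U).obj := Over.mk (w₂ ≫ P)
  haveI h1 := isHomLift_appIso_hom i o₁ (U := Over.mk w) rfl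
  haveI h2 := isHomLift_appIso_hom i o₂ (U := Over.mk w) rfl
  let j : (AlgSt.overMap h).obj o₂ ⟶ (AlgSt.overMap h).obj o₁ :=
    Over.homMk (𝟙 (Over.mk w)) ((Category.id_comp _).trans hw)
  haveI : (FibCat.overCat T).p.IsHomLift (𝟙 (Over.mk w)) j :=
    IsHomLift.of_fac' _ _ _ rfl rfl (by simp [j]; rfl)
  obtain ⟨α, hα, -⟩ := exists_two_arrow h𝒵 (isAlgStack_overCat _) hΔ (s := w) (a₁ := c.obj o₂) (a₂ := c.obj o₁)
    (c.w_obj o₂) ((appIso i o₂).hom ≫ j ≫ (appIso i o₁).inv)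
    (by simpa using (inferInstance : (FibCat.overCat T).p.IsHomLift
      (𝟙 (Over.mk w) ≫ 𝟙 (Over.mk w) ≫ 𝟙 (Over.mk w)) ((appIso i o₂).hom ≫ j ≫ (appIso i o₁).inv)))
  haveI := hα
  haveI := isIso_of_isHomLift h𝒵.isStack.1 (𝟙 (Over.mk w)) α
  let O : (FibCat.fp zL c).obj := fpObj (Over.mk w₂) o₁ (asIso α) (U := Over.mk w) rfl hα
  obtain ⟨⟨T', σ'⟩, ε, hε⟩ := essSurjOver_of_isEquivOver he O
  have hT' : T' = Over.mk w := by
    haveI := hε
    exact (e.w_obj ⟨T', σ'⟩).symm.trans (IsHomLift.domain_eq (FibCat.fp zL c).p (𝟙 ((FibCat.fp zL c).p.obj O)) ε.hom)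
  subst hT'
  obtain ⟨W, p, het, hsp⟩ := F.property.atlas
  obtain ⟨q, hq⟩ := exists_lift_etale het hsp σ'
  subst hq
  let oW : (AlgSt.ofSp F.obj).obj := ⟨W, p.hom.app (op W) ⟨𝟙 W⟩⟩
  let mq : (⟨Over.mk w, p.hom.app (op (Over.mk w)) ⟨q⟩⟩ : (AlgSt.ofSp F.obj).obj) ⟶ oW :=
    ⟨q, ((NatTrans.naturality_apply p.hom q.op ⟨𝟙 W⟩).symm.trans
      (congrArg (fun z => p.hom.app _ ⟨z⟩) (Category.comp_id q)))⟩
  let OW := e.obj oW
  haveI hOW : 𝒵.p.IsHomLift (𝟙 W) OW.obj.iso.hom := iso_lift OW (U := W) (e.w_obj oW)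
  have hWs : OW.obj.snd.left = W :=
    (c.w_obj _).symm.trans (IsHomLift.codomain_eq 𝒵.p (𝟙 W) OW.obj.iso.hom)
  refine ⟨W, AlgSt.secHom (BasedFunctor.comp e (FibCat.fpFst zL c)) oW,
    AlgSt.secHom (BasedFunctor.comp e (FibCat.fpSnd zL c)) oW, q, ?_, ?_, ?_, ?_⟩
  · exact locP_mono smooth_le_lft hF p (𝟙 _) _ het (AlgSp.repWith_id _ _)
      ((spMapOfOver_eq_of_secHom _ p).trans (Category.comp_id _).symm)
  · haveI h3 := isHomLift_appIso_hom i OW.obj.snd (U := W) hWs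
    haveI h4 := isHomLift_appIso_hom i ((AlgSt.overMap P).obj OW.obj.fst) (U := W) (e.w_obj oW)
    haveI h5 : (FibCat.overCat T).p.IsHomLift (𝟙 W) (π.map OW.obj.iso.hom) :=
      BasedFunctor.preserves_isHomLift π _ OW.obj.iso.hom
    have key := hom_eq_of_vertical
      ((appIso i ((AlgSt.overMap P).obj OW.obj.fst)).inv ≫ π.map OW.obj.iso.hom ≫ (appIso i OW.obj.snd).hom)
      (T := W) (by
        simpa using (inferInstance : (FibCat.overCat T).p.IsHomLift (𝟙 W ≫ 𝟙 W ≫ 𝟙 W)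
          ((appIso i ((AlgSt.overMap P).obj OW.obj.fst)).inv ≫ π.map OW.obj.iso.hom ≫ (appIso i OW.obj.snd).hom)))
      (e.w_obj oW) hWs
    change (eqToHom _ ≫ OW.obj.snd.hom) ≫ h = (eqToHom _ ≫ OW.obj.fst.hom) ≫ P ≫ h
    change eqToHom _ ≫ (OW.obj.fst.hom ≫ P) ≫ h = eqToHom _ ≫ OW.obj.snd.hom ≫ h at key
    simp only [Category.assoc] at key ⊢
    exact key.symm
  · haveI : (FibCat.fp zL c).p.IsHomLift (𝟙 (Over.mk w)) ε.hom := hε
    haveI : (FibCat.overCat TL).p.IsHomLift (𝟙 (Over.mk w)) ((FibCat.fpFst zL c).map ε.hom) :=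
      BasedFunctor.preserves_isHomLift (FibCat.fpFst zL c) (𝟙 (Over.mk w)) ε.hom
    have k1 := hom_eq_of_vertical ((FibCat.fpFst zL c).map ε.hom) (T := Over.mk w)
      inferInstance (e.w_obj _) rfl
    have k2 := AlgSt.secHom_comp (BasedFunctor.comp e (FibCat.fpFst zL c)) mq
    simp only [eqToHom_refl, Category.id_comp] at k1
    exact k2.trans k1
  · haveI : (FibCat.fp zL c).p.IsHomLift (𝟙 (Over.mk w)) ε.hom := hε
    haveI : (FibCat.overCat U).p.IsHomLift (𝟙 (Over.mk w)) ((FibCat.fpSnd zL c).map ε.hom) :=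
      BasedFunctor.preserves_isHomLift (FibCat.fpSnd zL c) (𝟙 (Over.mk w)) ε.hom
    have k1 := hom_eq_of_vertical ((FibCat.fpSnd zL c).map ε.hom) (T := Over.mk w)
      inferInstance ((FibCat.fpSnd zL c).w_obj _ |>.trans (e.w_obj _)) rfl
    have k2 := AlgSt.secHom_comp (BasedFunctor.comp e (FibCat.fpSnd zL c)) mq
    simp only [eqToHom_refl, Category.id_comp] at k1
    exact k2.trans k1

/-- two embeddings of a transcendental extension do not factor through a scheme locally of finite type -/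
theorem false_of_factor {k L Ω : Type u} [Field k] [Infinite k] [Field L] [Field Ω] [Algebra k L] {t : L}
    (ht : Transcendental k t) (ψ₁ ψ₂ : L →+* Ω) (hinj : Function.Injective (Polynomial.eval₂RingHom ψ₂ (ψ₁ t)))
    {W U : Scheme.{u}} (g : W ⟶ U) (hW : W ⟶ Spec (CommRingCat.of L)) [LocallyOfFiniteType hW]
    (pt : Spec (CommRingCat.of L) ⟶ U) [LocallyOfFiniteType pt] (h : U ⟶ Spec (CommRingCat.of k))
    (hι : Spec.map (CommRingCat.ofHom (algebraMap k L)) = pt ≫ h) (hgW : g ≫ h = hW ≫ pt ≫ h)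
    (q : Spec (CommRingCat.of Ω) ⟶ W) (eq1 : q ≫ hW = Spec.map (CommRingCat.ofHom ψ₂))
    (eq2 : q ≫ g = Spec.map (CommRingCat.ofHom ψ₁) ≫ pt) : False := by
  let q' : Spec (CommRingCat.of Ω) ⟶ pullback g pt := pullback.lift q (Spec.map (CommRingCat.ofHom ψ₁)) eq2
  obtain ⟨B', hB, hqB, -⟩ := exists_isAffineOpen_mem_and_subset (X := pullback g pt)
    (x := q' (IsLocalRing.closedPoint Ω)) (U := ⊤) trivial
  have hr : Set.range q' ⊆ Set.range hB.fromSpec := by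
    rw [IsAffineOpen.range_fromSpec]
    rintro _ ⟨x, rfl⟩
    rwa [Subsingleton.elim x (IsLocalRing.closedPoint Ω)]
  obtain ⟨ρa, hρa⟩ := Spec.map_surjective (R := CommRingCat.of L) (S := Γ(pullback g pt, B'))
    (hB.fromSpec ≫ pullback.fst g pt ≫ hW) |>.imp fun _ => id
  obtain ⟨ρb, hρb⟩ := Spec.map_surjective (R := CommRingCat.of L) (S := Γ(pullback g pt, B'))
    (hB.fromSpec ≫ pullback.snd g pt) |>.imp fun _ => id
  obtain ⟨χ, hχ⟩ := Spec.map_surjective (IsOpenImmersion.lift hB.fromSpec q' hr)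
  have ha : ρa ≫ χ = CommRingCat.ofHom ψ₂ := Spec.map_injective (by
    rw [Spec.map_comp, hρa, hχ, IsOpenImmersion.lift_fac_assoc]
    simp only [q', pullback.lift_fst_assoc]
    exact eq1)
  have hb : ρb ≫ χ = CommRingCat.ofHom ψ₁ := Spec.map_injective (by
    rw [Spec.map_comp, hρb, hχ, IsOpenImmersion.lift_fac_assoc]
    simp only [q', pullback.lift_snd])
  have hc : CommRingCat.ofHom (algebraMap k L) ≫ ρb = CommRingCat.ofHom (algebraMap k L) ≫ ρa := Spec.map_injective (by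
    rw [Spec.map_comp, Spec.map_comp, hρa, hρb, hι, Category.assoc, Category.assoc, Category.assoc,
      ← pullback.condition_assoc, hgW])
  haveI : LocallyOfFiniteType (Spec.map ρa) := by rw [hρa]; infer_instance
  have hft : ρa.hom.FiniteType := (HasRingHomProperty.Spec_iff (P := @LocallyOfFiniteType)).1 ‹_›
  letI : Algebra L Γ(pullback g pt, B') := ρa.hom.toAlgebra
  haveI : Algebra.FiniteType L Γ(pullback g pt, B') := hft
  refine not_finiteType_of_units (k := k) (L := L) (B := Γ(pullback g pt, B')) (ρb.hom t) (fun d => ?_) χ.hom ?_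
  · have hd : algebraMap L Γ(pullback g pt, B') (algebraMap k L d) = ρb.hom (algebraMap k L d) :=
      (congrArg (fun r : CommRingCat.of k ⟶ Γ(pullback g pt, B') => r.hom d) hc).symm
    rw [hd, ← _root_.map_sub]
    refine (IsUnit.mk0 _ ?_).map ρb.hom
    rw [sub_ne_zero]
    rintro rfl
    exact ht (isAlgebraic_algebraMap d)
  · rw [show χ.hom.comp (algebraMap L Γ(pullback g pt, B')) = ψ₂ from congrArg CommRingCat.Hom.hom ha,
      show χ.hom (ρb.hom t) = ψ₁ t from congrArg (fun r : CommRingCat.of L ⟶ CommRingCat.of Ω => r.hom t) hb]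
    exact hinj

theorem exists_closed_pt (U : Scheme.{u}) [Nonempty U] :
    ∃ (L : Type u) (_ : Field L) (pt : Spec (CommRingCat.of L) ⟶ U), LocallyOfFiniteType pt := by
  obtain ⟨u₀⟩ := ‹Nonempty U›
  obtain ⟨V, hV, hu₀, -⟩ := exists_isAffineOpen_mem_and_subset (X := U) (x := u₀) (U := ⊤) trivial
  haveI : Nonempty V := ⟨⟨u₀, hu₀⟩⟩
  obtain ⟨m, hm⟩ := Ideal.exists_maximal Γ(U, V)
  letI : Field (Γ(U, V) ⧸ m) := Ideal.Quotient.field m
  haveI : IsClosedImmersion (Spec.map (CommRingCat.ofHom (Ideal.Quotient.mk m : Γ(U, V) →+* _))) :=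
    IsClosedImmersion.spec_of_surjective _ Ideal.Quotient.mk_surjective
  exact ⟨Γ(U, V) ⧸ m, inferInstance,
    Spec.map (CommRingCat.ofHom (Ideal.Quotient.mk m : Γ(U, V) →+* _)) ≫ hV.fromSpec, inferInstance⟩

/-- a stack over an algebraically closed field with a chart and surjective diagonal has a rational point -/
theorem exists_rational {k : Type u} [Field k] [IsAlgClosed k] (s : Spec (CommRingCat.of k) ⟶ S)
    {𝒵 : AlgSt.Cat S} (h𝒵 : AlgSt.IsAlgStack Scheme.fppfPrecoverage 𝒵)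
    (π : 𝒵 ⥤ᵇ FibCat.overCat (Over.mk s)) (hΔ : AlgSt.IsSurjective (FibCat.diag π))
    {U : Over S} (h : U ⟶ Over.mk s) (c : FibCat.overCat U ⥤ᵇ 𝒵)
    (i : BasedFunctor.comp c π ≅ AlgSt.overMap h)
    (hsm : AlgSt.RepByAlgSpWith (AlgSp.LocP @Smooth) c) [Nonempty U.left] :
    ∃ q : Over.mk s ⟶ U, q ≫ h = 𝟙 _ := by
  obtain ⟨L, _, pt, hpt⟩ := exists_closed_pt U.left
  haveI := hpt
  obtain ⟨ι₀, hι⟩ := Spec.map_surjective (R := CommRingCat.of k) (S := CommRingCat.of L) (pt ≫ h.left)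
    |>.imp fun _ => id
  letI : Algebra k L := ι₀.hom.toAlgebra
  by_cases hsur : Function.Surjective ι₀.hom
  · haveI : IsIso ι₀ := (ConcreteCategory.isIso_iff_bijective ι₀).2 ⟨ι₀.hom.injective, hsur⟩
    refine ⟨Over.homMk (inv (Spec.map ι₀) ≫ pt) ?_, Over.OverMorphism.ext ?_⟩
    · change (inv (Spec.map ι₀) ≫ pt) ≫ U.hom = s
      rw [Category.assoc, ← Over.w h, IsIso.inv_comp_eq, hι, Category.assoc]
      rfl
    · change (inv (Spec.map ι₀) ≫ pt) ≫ h.left = 𝟙 _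
      rw [Category.assoc, IsIso.inv_comp_eq, hι]
      simp
  obtain ⟨t₀, ht₀⟩ : ∃ t : L, Transcendental k t := by
    by_contra hne
    refine hsur ?_
    haveI : Algebra.IsAlgebraic k L := ⟨fun t => not_not.1 fun ht => hne ⟨t, ht⟩⟩
    exact IsAlgClosed.algebraMap_bijective_of_isIntegral.2
  obtain ⟨Ω, _, _, ψ₁, ψ₂, hk, hinj⟩ := exists_pair_of_transcendental ht₀
  have hψ : Spec.map (CommRingCat.ofHom ψ₁) ≫ pt ≫ h.left = Spec.map (CommRingCat.ofHom ψ₂) ≫ pt ≫ h.left := by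
    rw [← hι, ← Spec.map_comp, ← Spec.map_comp]
    exact congrArg Spec.map (CommRingCat.hom_ext hk)
  let TL : Over S := Over.mk (pt ≫ U.hom)
  let P : TL ⟶ U := Over.homMk pt
  have hw₁ : Spec.map (CommRingCat.ofHom ψ₁) ≫ pt ≫ U.hom = Spec.map (CommRingCat.ofHom ψ₂) ≫ pt ≫ U.hom := by
    rw [← Over.w h, reassoc_of% hψ]
  let w₂ : Over.mk (Spec.map (CommRingCat.ofHom ψ₂) ≫ pt ≫ U.hom) ⟶ TL :=
    Over.homMk (Spec.map (CommRingCat.ofHom ψ₂)) rfl
  let w₁ : Over.mk (Spec.map (CommRingCat.ofHom ψ₂) ≫ pt ≫ U.hom) ⟶ TL :=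
    Over.homMk (Spec.map (CommRingCat.ofHom ψ₁)) hw₁
  obtain ⟨W, hW, gW, q, hl, hgW, e1, e2⟩ := exists_chart_pair h𝒵 π hΔ h c i hsm P w₁ w₂
    (Over.OverMorphism.ext (by simpa [P, w₁, w₂] using hψ))
  haveI := hl
  haveI : Infinite k := inferInstance
  exact (false_of_factor ht₀ ψ₁ ψ₂ hinj gW.left hW.left pt h.left hι (congrArg CommaMorphism.left hgW) q.left
    (congrArg CommaMorphism.left e1) (congrArg CommaMorphism.left e2)).elim

end Groth.Agent.StAlg16
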