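import Groth.Agent.Lib.StAlg16.QSBase
import Groth.Agent.Lib.StAlg16.DiagIff
import Groth.Agent.Lib.AlgSpDescent.RepBase2

/-! Immersions into locally Noetherian stacks. -/

universe u

open CategoryTheory CategoryTheory.Functor CategoryTheory.Limits AlgebraicGeometry Opposite

set_option linter.style.haveILetI false
set_option linter.unusedSectionVars false
set_option backward.isDefEq.respectTransparency false
set_option backward.isDefEq.respectTransparency.types false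

namespace Groth.Agent.StAlg16

open Groth.Agent.FC16 Groth.Agent.StAlg AlgSt

theorem quasiCompact_of_isImmersion {X Y : Scheme.{u}} (k : X ⟶ Y) [IsImmersion k] [IsLocallyNoetherian Y] :
    QuasiCompact k := by
  constructor
  intro s hs hsc
  let U : Y.Opens := ⟨s, hs⟩
  haveI : CompactSpace ↥U.toScheme := isCompact_iff_compactSpace.mp hsc
  haveI : IsNoetherian U.toScheme := ⟨⟩
  haveI : TopologicalSpace.NoetherianSpace s := inferInstanceAs (TopologicalSpace.NoetherianSpace U.toScheme)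
  rw [k.isEmbedding.isInducing.isCompact_iff]
  exact (TopologicalSpace.noetherianSpace_set_iff (s := s)).1 inferInstance _ (Set.image_preimage_subset _ _)

variable {S : Scheme.{u}}

theorem isQuasiCompactMor_space_of_imm {F : AlgSp.Sp S} (hF : AlgSp.IsAlgSpace F) {V : Over S}
    [IsLocallyNoetherian V.left] {a : F ⟶ (AlgSp.yon S).obj V} (ha : AlgSp.RepWith @IsImmersion a) :
    AlgSp.IsQuasiCompactMor a := by
  refine (AlgSpace.repWith_quasiCompact_iff hF (AlgSp.IsAlgSpace.yon_obj V) ha.1).1 ?_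
  have sq := ha.1.isPullback (𝟙 ((AlgSp.yon S).obj V))
  haveI := sq.isIso_fst_of_isIso
  haveI : IsImmersion (ha.1.snd (𝟙 ((AlgSp.yon S).obj V))).left := ha.2 _ _ _ sq
  have h1 := (AlgSp.repWith_yon_map_iff @QuasiCompact (ha.1.snd (𝟙 ((AlgSp.yon S).obj V)))).2
    (quasiCompact_of_isImmersion _)
  have e : ha.1.fst (𝟙 ((AlgSp.yon S).obj V)) ≫ a = (AlgSp.yon S).map (ha.1.snd (𝟙 ((AlgSp.yon S).obj V))) := by
    rw [sq.w, Category.comp_id]
  rw [← e] at h1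
  exact (AlgSpace.repWith_respectsIso_left _).1 h1

theorem isQuasiSeparatedMor_space_of_imm {F G : AlgSp.Sp S} {a : F ⟶ G} (ha : AlgSp.RepWith @IsImmersion a) :
    AlgSp.IsQuasiSeparatedMor a := by
  haveI : Mono a := AlgSpace.mono_of_repWith a
    (AlgSpace.repWith_mono (fun _ _ g (_ : IsImmersion g) => (inferInstance : Mono g)) ha)
  exact AlgSpace.repWith_diagonal_of_mono a

variable {𝒳 𝒴 : AlgSt.Cat S}

theorem noeth_qc_of_isImm (h𝒳 : IsAlgStack Scheme.fppfPrecoverage 𝒳) (h𝒴 : IsAlgStack Scheme.fppfPrecoverage 𝒴)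
    {j : 𝒳 ⥤ᵇ 𝒴} (hj : AlgSt.IsImm j) (hN : AlgSt.SmoothLocally (fun T ↦ IsLocallyNoetherian T) 𝒴) :
    AlgSt.SmoothLocally (fun T ↦ IsLocallyNoetherian T) 𝒳 ∧
      AlgSt.IsQuasiCompactMor Scheme.fppfPrecoverage j := by
  refine ⟨smoothLocally_noeth_of_lft h𝒳 h𝒴 (locQ_of_imm isSmoothLocalST_lft isLocalOnBase_fppf_locP_lft
      (R' := @IsImmersion) (fun _ _ g (_ : IsImmersion g) => (inferInstance : LocallyOfFiniteType g)) h𝒳 h𝒴 hj) hN, ?_⟩
  have hj1 := repByAlgSp1_of_with hj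
  refine (with_qc_iff h𝒳 h𝒴 hj1).1 ?_
  obtain ⟨V, y, hy, hys⟩ := h𝒴.atlas
  haveI := hN V y hy
  have hV := AlgSp.IsAlgSpace.yon_obj V
  obtain ⟨F, a, e, he, hi, ha⟩ := exists_baseChange_space (pbP_repWith (R := @IsImmersion))
    AlgSpDescent.isLocalOnBase_fppf_repWith_isImmersion h𝒳.isStack.1 h𝒴.isStack.1 hj ⟨_, hV⟩
    (BasedFunctor.comp (AlgSt.toOverCat V) y)
  exact (with_iff_baseChange_cover pbP_isQuasiCompactMor
    (isLocalOnBase_fppf_of_fpqc AlgSpDescent.isLocalOnBase_fpqc_isQuasiCompactMor) h𝒳.isStack.1 h𝒴.isStack.1 hj1 ⟨_, hV⟩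
    (BasedFunctor.comp (AlgSt.toOverCat V) y) (with_toOverCat_comp (with_locP_mono smooth_le_flat hy))
    (with_toOverCat_comp (with_locP_mono smooth_le_lfp hy)) (with_toOverCat_comp hys)).2
    ⟨F, a, e, he, hi, isQuasiCompactMor_space_of_imm F.property ha⟩

theorem noetherian_of_isImm (h𝒳 : IsAlgStack Scheme.fppfPrecoverage 𝒳) (h𝒴 : IsAlgStack Scheme.fppfPrecoverage 𝒴)
    {j : 𝒳 ⥤ᵇ 𝒴} (hj : AlgSt.IsImm j) (hq : AlgSt.IsQuasiCompact 𝒴) (hqs : AlgSt.IsQuasiSeparatedOver 𝒴)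
    (hN : AlgSt.SmoothLocally (fun T ↦ IsLocallyNoetherian T) 𝒴) :
    AlgSt.IsQuasiCompact 𝒳 ∧ AlgSt.IsQuasiSeparatedOver 𝒳 ∧
      AlgSt.SmoothLocally (fun T ↦ IsLocallyNoetherian T) 𝒳 := by
  obtain ⟨hN', hqc⟩ := noeth_qc_of_isImm h𝒳 h𝒴 hj hN
  have hA := isAlgStack_fp' h𝒴 h𝒳 h𝒴 (BasedFunctor.id 𝒴) j
  refine ⟨isQuasiCompact_of_isSurjective h𝒳 hA (FibCat.fpSnd (BasedFunctor.id 𝒴) j)
    (isSurjective_fpSnd h𝒴.isStack.1 h𝒳.isStack.1 h𝒴.isStack.1 (fun z => ⟨z, map_id_apply z⟩) j)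
    (hqc 𝒴 h𝒴 hq _), ?_, hN'⟩
  exact with_diag_of_iso (eqToIso (selfOver_functor_eq _ _))
    (with_diag_comp (goodP_isQuasiCompactMor.inf goodP_isQuasiSeparatedMor) h𝒳.isStack.1 h𝒴.isStack.1
      ((with_qs_iff_isQuasiSeparatedMor (repByAlgSp1_of_with hj)).1
        (repByAlgSpWith_mono (fun _ _ _ _ ha => isQuasiSeparatedMor_space_of_imm ha) hj)) hqs)

end Groth.Agent.StAlg16
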