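import Groth.Agent.Lib.FC16.Inertia
import Groth.Agent.Lib.StAlg16.Setoid

/-! Forms of faithfulness for functors of categories fibred in groupoids. -/

universe v₃ u₃ v₂ u₂ v u

open CategoryTheory CategoryTheory.Functor CategoryTheory.Limits AlgebraicGeometry Opposite

set_option linter.style.haveILetI false
set_option linter.unusedSectionVars false
set_option backward.isDefEq.respectTransparency false
set_option backward.isDefEq.respectTransparency.types false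

namespace Groth.Agent.StAlg16

open Groth.Agent.FC16

variable {C : Type u} [Category.{v} C] {𝒳 : BasedCategory.{v₂, u₂} C} {𝒴 : BasedCategory.{v₃, u₃} C}
  (f : 𝒳 ⥤ᵇ 𝒴)

theorem faithful_iff_kernel (h𝒳 : FibCat.IsFibGrpd 𝒳.p) (h𝒴 : FibCat.IsFibGrpd 𝒴.p) :
    f.toFunctor.Faithful ↔
      ∀ (a : 𝒳.obj) (φ : a ⟶ a), 𝒳.p.map φ = 𝟙 (𝒳.p.obj a) → f.map φ = 𝟙 (f.obj a) → φ = 𝟙 a := by
  constructor
  · intro _ a φ _ h
    exact f.toFunctor.map_injective (h.trans (f.toFunctor.map_id a).symm)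
  · intro h
    haveI := FC16.isFibered h𝒳
    refine faithful_of_fib (presCart_of_isFibGrpd h𝒴 f) fun U a b χ χ' hχ hχ' e => ?_
    haveI := hχ; haveI := hχ'
    haveI : IsIso χ' := FC16.isIso_of_isHomLift h𝒳 (𝟙 U) χ'
    have ha : 𝒳.p.obj a = U := IsHomLift.domain_eq 𝒳.p (𝟙 U) χ
    have hl : 𝒳.p.map (χ ≫ inv χ') = 𝟙 _ := by
      haveI : 𝒳.p.IsHomLift (𝟙 U) (χ ≫ inv χ') := inferInstance
      rw [IsHomLift.fac' 𝒳.p (𝟙 U) (χ ≫ inv χ')]
      simp
    have := h a (χ ≫ inv χ') hl (by rw [f.toFunctor.map_comp, e, ← f.toFunctor.map_comp]; simp)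
    rw [IsIso.comp_inv_eq, Category.id_comp] at this
    exact this

theorem isEquivOver_inertiaToBase_iff (h𝒳 : FibCat.IsFibGrpd 𝒳.p) (h𝒴 : FibCat.IsFibGrpd 𝒴.p) :
    FibCat.IsEquivOver (FibCat.inertiaToBase f) ↔ f.toFunctor.Faithful := by
  constructor
  · intro h
    haveI := isEquivalence_of_isEquivOver h
    rw [faithful_iff_kernel f h𝒳 h𝒴]
    intro a φ hp hf
    haveI : 𝒳.p.IsHomLift (𝟙 (𝒳.p.obj a)) φ := IsHomLift.of_fac' 𝒳.p _ _ rfl rfl (by simp [hp])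
    haveI : IsIso φ := FC16.isIso_of_isHomLift h𝒳 (𝟙 (𝒳.p.obj a)) φ
    let z : (FibCat.inertia f).obj := ⟨a, asIso φ, hf⟩
    let z₀ : (FibCat.inertia f).obj := ⟨a, Iso.refl a, f.toFunctor.map_id a⟩
    let m : z ⟶ z₀ := (FibCat.inertiaToBase f).toFunctor.preimage (X := z) (Y := z₀) (𝟙 a)
    have hm : m.hom = 𝟙 a := (FibCat.inertiaToBase f).toFunctor.map_preimage (X := z) (Y := z₀) (𝟙 a)
    have e : φ ≫ m.hom = m.hom ≫ 𝟙 a := m.comm
    rwa [hm, Category.comp_id, Category.id_comp] at e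
  · intro _
    have haut : ∀ x : (FibCat.inertia f).obj, x.aut.hom = 𝟙 x.pt := fun x =>
      f.toFunctor.map_injective (x.map_aut.trans (f.toFunctor.map_id _).symm)
    haveI : (FibCat.inertiaToBase f).toFunctor.Faithful := ⟨fun h => FibCat.InertiaObj.hom_ext h⟩
    haveI : (FibCat.inertiaToBase f).toFunctor.Full := ⟨fun {x y} g => ⟨⟨g, by
      rw [haut x, haut y]
      exact (Category.id_comp _).trans (Category.comp_id _).symm⟩, rfl⟩⟩
    exact isEquivOver_of _ fun a =>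
      ⟨(FibCat.inertiaNeutral f).obj a, Iso.refl _, IsHomLift.id rfl⟩

theorem faithful_iff_full_diag : f.toFunctor.Faithful ↔ (FibCat.diag f).toFunctor.Full := by
  constructor
  · intro _
    refine ⟨fun {x y} φ => ⟨φ.hom.fst, fp_hom_ext rfl (f.toFunctor.map_injective ?_)⟩⟩
    have w : f.map φ.hom.fst ≫ 𝟙 _ = 𝟙 _ ≫ f.map φ.hom.snd := fp_w φ
    exact (Category.comp_id _).symm.trans (w.trans (Category.id_comp _))
  · intro _
    refine ⟨fun {a b χ χ'} h => ?_⟩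
    let g : (FibCat.diag f).obj a ⟶ (FibCat.diag f).obj b := fpHom χ χ' (by
      show f.map χ ≫ 𝟙 _ = 𝟙 _ ≫ f.map χ'
      exact (Category.comp_id _).trans (h.trans (Category.id_comp _).symm))
    have e := (FibCat.diag f).toFunctor.map_preimage g
    exact (congrArg (fun t => t.hom.fst) e).symm.trans (congrArg (fun t => t.hom.snd) e)

theorem faithful_toSelf_iff (h𝒳 : FibCat.IsFibGrpd 𝒳.p) :
    (FibCat.toSelf 𝒳).toFunctor.Faithful ↔ FibCat.IsFibSetoid 𝒳.p :=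
  ⟨fun _ => isFibSetoid_of_faithful (FibCat.toSelf 𝒳) h𝒳
      ⟨selfOver_isFibGrpd, fun U a b => ⟨fun φ ψ => Subtype.ext
        (haveI := φ.2; haveI := ψ.2; selfOver_hom_ext (𝟙 U) φ.1 ψ.1)⟩⟩,
    fun h => ⟨fun {a b φ ψ} e => by
      haveI : 𝒳.p.IsHomLift (𝒳.p.map φ) φ := IsHomLift.map 𝒳.p φ
      haveI : 𝒳.p.IsHomLift (𝒳.p.map φ) ψ := by
        rw [show 𝒳.p.map φ = 𝒳.p.map ψ from e]; exact IsHomLift.map 𝒳.p ψ
      exact hom_ext_of_isFibSetoid h (𝒳.p.map φ) φ ψ⟩⟩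

end Groth.Agent.StAlg16
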