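import Groth.Agent.Lib.StAlg16.OpenSub
import Groth.Agent.Lib.StAlg16.Setoid
import Groth.Agent.Lib.StAlg16.Faithful
import Groth.Agent.Lib.AlgSpace.Glue

/-! An algebraic stack covered by open substacks which are algebraic spaces is an algebraic space. -/

universe u w

open CategoryTheory CategoryTheory.Functor CategoryTheory.Limits AlgebraicGeometry Opposite

set_option linter.style.haveILetI false
set_option linter.unusedSectionVars false
set_option backward.isDefEq.respectTransparency false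
set_option backward.isDefEq.respectTransparency.types false

namespace Groth.Agent.StAlg16

open Groth.Agent.FC16 Groth.Agent.StAlg AlgSt

variable {S : Scheme.{u}} {𝒳 : AlgSt.Cat S}

/-- automorphisms over the base of an object of a setoid substack are trivial -/
theorem eq_of_setoid_sub {Q : 𝒳.obj → Prop} (hs : FibCat.IsFibSetoid (fullSub 𝒳 Q).p) {U V : Over S} (g : U ⟶ V)
    {a b : 𝒳.obj} (ha : Q a) (hb : Q b) (φ ψ : a ⟶ b) [𝒳.p.IsHomLift g φ] [𝒳.p.IsHomLift g ψ] : φ = ψ := by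
  let a' : (fullSub 𝒳 Q).obj := ⟨a, ha⟩
  let b' : (fullSub 𝒳 Q).obj := ⟨b, hb⟩
  let φ' : a' ⟶ b' := ObjectProperty.homMk φ
  let ψ' : a' ⟶ b' := ObjectProperty.homMk ψ
  haveI : (fullSub 𝒳 Q).p.IsHomLift g φ' := (fullSub_isHomLift_iff g φ').2 (show 𝒳.p.IsHomLift g φ from inferInstance)
  haveI : (fullSub 𝒳 Q).p.IsHomLift g ψ' := (fullSub_isHomLift_iff g ψ').2 (show 𝒳.p.IsHomLift g ψ from inferInstance)
  exact congrArg (fun t => t.hom) (hom_ext_of_isFibSetoid hs g φ' ψ')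

theorem isFibSetoid_of_open_cover (h𝒳 : IsAlgStack Scheme.fppfPrecoverage 𝒳) {ι : Type w}
    (T : ι → Set (Points 𝒳)) (hT : ∀ i, IsOpen (T i)) (hcov : ∀ z, ∃ i, z ∈ T i)
    (hs : ∀ i, FibCat.IsFibSetoid (fullSub 𝒳 (Qsub (T i))).p) : FibCat.IsFibSetoid 𝒳.p := by
  have gX := h𝒳.isStack.1
  haveI := FC16.isFibered gX
  refine (faithful_toSelf_iff gX).1 ((faithful_iff_kernel _ gX selfOver_isFibGrpd).2 fun a φ hφ _ => ?_)
  let U := 𝒳.p.obj a
  let x : FibCat.overCat U ⥤ᵇ 𝒳 := ofObj (x := a) (U := U) rfl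
  have hx : PresCart x := ofObj_presCart _
  let e := ofObjIso (x := a) (U := U) (rfl : 𝒳.p.obj a = U)
  haveI : 𝒳.p.IsHomLift (𝟙 U) φ := by
    rw [← hφ]
    exact IsHomLift.map 𝒳.p φ
  haveI : 𝒳.p.IsHomLift (𝟙 U) e.hom := ofObjIso_lift _
  haveI : 𝒳.p.IsHomLift (𝟙 U) e.inv := IsHomLift.lift_id_inv 𝒳.p U e
  let χ : x.obj (Over.mk (𝟙 U)) ⟶ x.obj (Over.mk (𝟙 U)) := e.hom ≫ φ ≫ e.inv
  haveI : 𝒳.p.IsHomLift (𝟙 U) χ := by
    have : 𝒳.p.IsHomLift (𝟙 U ≫ 𝟙 U ≫ 𝟙 U) χ := inferInstance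
    simpa using this
  choose i hi using fun t : ↥U.left => hcov (Points.ofChart x t)
  let O : ↥U.left → U.left.Opens := fun t =>
    ⟨Points.ofChart x ⁻¹' T (i t), (hT _).preimage (continuous_ofChart h𝒳 x)⟩
  let π : ∀ t, openPart (O t) ⟶ U := fun t => openIncl (O t)
  let R : Sieve U := Sieve.generate (Presieve.ofArrows _ π)
  have hR : R ∈ QuotSh.J Scheme.fppfPrecoverage S U :=
    AlgSpace.mem_J_of_openImmersions π (fun t => inferInstanceAs (IsOpenImmersion (O t).ι))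
      (fun t => ⟨t, (⟨t, hi t⟩ : (O t).toScheme), rfl⟩)
  haveI : (Stk.resSieve R 𝒳).IsEquivalence := h𝒳.isStack.2 R hR
  let α := FC16.ext hx χ
  have hα : α = 𝟙 x := by
    apply (Stk.resSieve R 𝒳).map_injective
    apply BasedNatTrans.homCategory.ext
    apply NatTrans.ext
    funext z
    obtain ⟨W, k, l, hl, e⟩ := z.property
    obtain ⟨t⟩ := hl
    let b : (FibCat.overCat U).obj := (Stk.sieveIncl R).obj z
    have hb : Qsub (T (i t)) (x.obj b) := (qsub_obj_iff gX _ x b).2 fun s => by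
      have he : b.hom.left s = (O t).ι (k.left s) := by
        rw [show b.hom = k ≫ π t from e.symm]
        rfl
      rw [he]
      exact (k.left s).2
    show α.toNatTrans.app b = 𝟙 (x.obj b)
    haveI : 𝒳.p.IsHomLift (𝟙 b.left) (α.toNatTrans.app b) := BasedNatTrans.isHomLift α rfl
    haveI : 𝒳.p.IsHomLift (𝟙 b.left) (𝟙 (x.obj b)) := IsHomLift.id (x.w_obj b)
    exact eq_of_setoid_sub (hs (i t)) (𝟙 b.left) hb hb _ _
  have h1 : α.toNatTrans.app (Over.mk (𝟙 U)) = χ := FC16.ext_app_term hx χ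
  rw [hα] at h1
  have h2 : e.inv ≫ χ ≫ e.hom = φ := by simp [χ]
  rw [← h2, ← h1]
  show e.inv ≫ 𝟙 _ ≫ e.hom = 𝟙 a
  simp

theorem rep_of_open_substack_cover (h𝒳 : IsAlgStack Scheme.fppfPrecoverage 𝒳) {ι : Type w}
    (Q : ι → 𝒳.obj → Prop) (hQ : ∀ i, AlgSt.IsOpenSubstack 𝒳 (Q i) Scheme.fppfPrecoverage)
    (hcov : ⋃ i, Set.range (Points.map (AlgSt.subIncl 𝒳 (Q i))) = Set.univ)
    (hsp : ∀ i, AlgSt.RepByAlgSp (fullSub 𝒳 (Q i))) : AlgSt.RepByAlgSp 𝒳 := by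
  refine rep_of_isFibSetoid h𝒳 (isFibSetoid_of_open_cover h𝒳 _ (fun i => isOpen_range_subIncl h𝒳 (hQ i))
    (fun z => Set.mem_iUnion.1 (by rw [hcov]; trivial)) fun i => ?_)
  have e : Q i = Qsub (Set.range (Points.map (AlgSt.subIncl 𝒳 (Q i)))) :=
    funext fun b => propext (substack_eq_qsub h𝒳 (hQ i) b)
  rw [← e]
  exact isFibSetoid_of_rep (hsp i)

end Groth.Agent.StAlg16
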