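import Groth.Agent.Lib.StAlg16.Topology
import Groth.Agent.Lib.StAlg.Descent

/-! Quasi-compactness of algebraic stacks. -/

universe v₃ u₃ v₂ u₂ u

open CategoryTheory CategoryTheory.Functor CategoryTheory.Limits AlgebraicGeometry Opposite Topology

set_option linter.style.haveILetI false
set_option linter.unusedSectionVars false
set_option backward.isDefEq.respectTransparency false
set_option backward.isDefEq.respectTransparency.types false

namespace Groth.Agent.StAlg16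

open Groth.Agent.FC16 Groth.Agent.StAlg AlgSt

variable {S : Scheme.{u}}

variable {𝒳 : AlgSt.Cat S}

theorem isSurjective_of_surjective_ofChart {U : Over S} {x : FibCat.overCat U ⥤ᵇ 𝒳}
    (h : Function.Surjective (Points.ofChart x)) : IsSurjective x := fun z => by
  obtain ⟨t, rfl⟩ := h z
  exact ⟨Points.mk (chartPt U t), (ofChart_eq x t).symm⟩

theorem compactSpace_of_chart (h𝒳 : IsAlgStack Scheme.fppfPrecoverage 𝒳) {U : Over S} [CompactSpace ↥U.left]
    (x : FibCat.overCat U ⥤ᵇ 𝒳) (hs : Function.Surjective (Points.ofChart x)) : CompactSpace (Points 𝒳) :=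
  ⟨by rw [← Set.image_univ_of_surjective hs]; exact isCompact_univ.image (continuous_ofChart h𝒳 x)⟩

theorem compactSpace_of_isQuasiCompact (h𝒳 : IsAlgStack Scheme.fppfPrecoverage 𝒳) (h : AlgSt.IsQuasiCompact 𝒳) :
    CompactSpace (Points 𝒳) := by
  obtain ⟨U, x, hU, -, hs⟩ := h
  exact compactSpace_of_chart h𝒳 x (surjective_ofChart h𝒳.isStack.1 hs)

theorem isQuasiCompact_of_compactSpace (h𝒳 : IsAlgStack Scheme.fppfPrecoverage 𝒳) [CompactSpace (Points 𝒳)] :
    AlgSt.IsQuasiCompact 𝒳 := by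
  obtain ⟨U, x, hsm, hsu⟩ := h𝒳.atlas
  have hom : IsOpenMap (Points.ofChart x) := isOpenMap_ofChart h𝒳.isStack.1 (with_locP_mono smooth_le_flat hsm)
    (with_locP_mono smooth_le_lfp hsm)
  obtain ⟨t, ht⟩ := isCompact_univ.elim_finite_subcover
    (fun A : U.left.affineOpens => Points.ofChart x '' (A.1 : Set ↥U.left)) (fun A => hom _ A.1.isOpen) (by
      intro z _
      obtain ⟨s, rfl⟩ := surjective_ofChart h𝒳.isStack.1 hsu z
      obtain ⟨_, ⟨A, hA, rfl⟩, hs, -⟩ :=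
        U.left.isBasis_affineOpens.exists_subset_of_mem_open (Set.mem_univ s) isOpen_univ
      exact Set.mem_iUnion.2 ⟨⟨A, hA⟩, s, hs, rfl⟩)
  haveI : ∀ a : t, IsAffine (a.1.1 : U.left.Opens).toScheme := fun a => a.1.2
  let W : Scheme.{u} := ∐ fun a : t => (a.1.1 : U.left.Opens).toScheme
  let j : W ⟶ U.left := Limits.Sigma.desc fun a : t => (a.1.1 : U.left.Opens).ι
  haveI : Smooth j := IsZariskiLocalAtSource.sigmaDesc fun a => inferInstance
  let k : Over.mk (j ≫ U.hom) ⟶ U := Over.homMk j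
  have hk : Smooth k.left := by assumption
  refine ⟨Over.mk (j ≫ U.hom), BasedFunctor.comp (AlgSt.overMap k) x,
    (inferInstance : IsAffine W), ?_⟩
  have hsm' := with_comp goodP_locP (overCat_isFibGrpd _) (overCat_isFibGrpd _) (with_locP_overMap k hk) hsm
  refine ⟨hsm', with_surjective_of_isSurjective (overCat_isFibGrpd _) h𝒳.isStack.1 (repByAlgSp1_of_with hsm')
    (isSurjective_of_surjective_ofChart fun z => ?_)⟩
  obtain ⟨a, ha, s, hs, rfl⟩ := Set.mem_iUnion₂.1 (ht (Set.mem_univ z))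
  refine ⟨Limits.Sigma.ι (fun a : t => (a.1.1 : U.left.Opens).toScheme) ⟨a, ha⟩ ⟨s, hs⟩, ?_⟩
  rw [ofChart_overMap]
  refine congrArg _ ?_
  change j (Limits.Sigma.ι (fun a : t => (a.1.1 : U.left.Opens).toScheme) ⟨a, ha⟩ ⟨s, hs⟩) = s
  rw [← Scheme.Hom.comp_apply, Limits.Sigma.ι_desc]
  rfl

theorem isQuasiCompact_iff (h𝒳 : IsAlgStack Scheme.fppfPrecoverage 𝒳) :
    AlgSt.IsQuasiCompact 𝒳 ↔ CompactSpace (Points 𝒳) :=
  ⟨compactSpace_of_isQuasiCompact h𝒳, fun _ => isQuasiCompact_of_compactSpace h𝒳⟩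

theorem isQuasiCompact_of_isSurjective {𝒴 : AlgSt.Cat S} (h𝒴 : IsAlgStack Scheme.fppfPrecoverage 𝒴)
    (h𝒳 : IsAlgStack Scheme.fppfPrecoverage 𝒳) (f : 𝒳 ⥤ᵇ 𝒴) (hf : IsSurjective f)
    (h : AlgSt.IsQuasiCompact 𝒳) : AlgSt.IsQuasiCompact 𝒴 := by
  haveI := compactSpace_of_isQuasiCompact h𝒳 h
  haveI : CompactSpace (Points 𝒴) :=
    ⟨by rw [← Set.image_univ_of_surjective hf]; exact isCompact_univ.image (continuous_map h𝒴 f)⟩
  exact isQuasiCompact_of_compactSpace h𝒴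

theorem isQuasiCompact_iff_scheme_chart (h𝒳 : IsAlgStack Scheme.fppfPrecoverage 𝒳) :
    AlgSt.IsQuasiCompact 𝒳 ↔
      ∃ (U : Over S) (x : FibCat.overCat U ⥤ᵇ 𝒳), CompactSpace ↥U.left ∧
        AlgSt.RepByAlgSpWith (AlgSp.LocP @Smooth) x ∧ AlgSt.RepByAlgSpWith AlgSp.IsSurjectiveMor x := by
  refine ⟨fun ⟨U, x, hU, h⟩ => ⟨U, x, (haveI := hU; inferInstance), h⟩, ?_⟩
  rintro ⟨U, x, hU, -, hs⟩
  haveI := compactSpace_of_chart h𝒳 x (surjective_ofChart h𝒳.isStack.1 hs)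
  exact isQuasiCompact_of_compactSpace h𝒳

theorem isQuasiCompact_iff_space_chart (h𝒳 : IsAlgStack Scheme.fppfPrecoverage 𝒳) :
    AlgSt.IsQuasiCompact 𝒳 ↔
      ∃ (U : AlgSp.Space S) (x : AlgSt.ofSp U.obj ⥤ᵇ 𝒳), AlgSp.IsQuasiCompactSp U.obj ∧
        AlgSt.RepByAlgSpWith (AlgSp.LocP @Smooth) x ∧ AlgSt.RepByAlgSpWith AlgSp.IsSurjectiveMor x := by
  constructor
  · rintro ⟨U, x, hU, hsm, hs⟩
    refine ⟨⟨(AlgSp.yon S).obj U, AlgSp.IsAlgSpace.yon_obj U⟩, BasedFunctor.comp (AlgSt.toOverCat U) x,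
      ⟨U, 𝟙 _, ?_, ?_, inferInstance⟩, ?_, ?_⟩
    · rw [← (AlgSp.yon S).map_id]; exact (AlgSp.repWith_yon_map_iff _ _).2 (inferInstanceAs (Etale (𝟙 U.left)))
    · rw [← (AlgSp.yon S).map_id]; exact (AlgSp.repWith_yon_map_iff _ _).2 (inferInstanceAs (Surjective (𝟙 U.left)))
    · exact (with_congr (f := x) (a := AlgSt.toOverCat U) (b := BasedFunctor.id 𝒳) (toOverCat_isEquivOver U)
        isEquivOver_id (Iso.refl _)).1 hsm
    · exact (with_congr (f := x) (a := AlgSt.toOverCat U) (b := BasedFunctor.id 𝒳) (toOverCat_isEquivOver U)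
        isEquivOver_id (Iso.refl _)).1 hs
  · rintro ⟨F, x, ⟨V, p, -, hps, hV⟩, -, hs⟩
    let y : FibCat.overCat V ⥤ᵇ AlgSt.ofSp F.obj := BasedFunctor.comp (AlgSt.ofOverCat V) (AlgSt.ofSpMap p)
    have hy : Function.Surjective (Points.ofChart y) := fun z => by
      obtain ⟨w, hw⟩ := (surjective_map_ofSpMap p).2 (AlgSpace.surjective_map_of_repWith hps) z
      obtain ⟨v, rfl⟩ := (map_bijective (ofOverCat_isEquivOver V)).2 w
      exact ⟨ptOf v, by rw [ofChart_eq, mk_chartPt_ptOf, map_comp_apply, hw]⟩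
    have hxy : Function.Surjective (Points.ofChart (BasedFunctor.comp y x)) :=
      (show Function.Surjective (Points.map x) from isSurjective_of_with h𝒳.isStack.1 hs).comp hy
    haveI := compactSpace_of_chart h𝒳 _ hxy
    exact isQuasiCompact_of_compactSpace h𝒳

end Groth.Agent.StAlg16
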