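import Groth.Agent.Lib.StAlg16.PointsSp
import Mathlib.AlgebraicGeometry.AlgClosed.Basic

/-! Lifting points with values in an algebraically closed field along morphisms locally of finite type. -/

universe v₂ u₂ v₃ u₃ u

open CategoryTheory CategoryTheory.Functor CategoryTheory.Limits AlgebraicGeometry Opposite

set_option linter.style.haveILetI false
set_option linter.unusedSectionVars false
set_option backward.isDefEq.respectTransparency false
set_option backward.isDefEq.respectTransparency.types false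

namespace Groth.Agent.StAlg16

open Groth.Agent.FC16 Groth.Agent.StAlg AlgSt

variable {S : Scheme.{u}}

theorem exists_section_of_lft {k : Type u} [Field k] [IsAlgClosed k] (s : Spec (CommRingCat.of k) ⟶ S)
    {F : AlgSp.Sp S} (hF : AlgSp.IsAlgSpace F) (a : F ⟶ (AlgSp.yon S).obj (Over.mk s))
    (ha : AlgSp.LocP @LocallyOfFiniteType a) [Nonempty (AlgSp.Points F)] :
    ∃ x : F.obj.obj (op (Over.mk s)), a.hom.app _ x = ⟨𝟙 _⟩ := by
  obtain ⟨W, p, het, hsurj⟩ := hF.atlas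
  obtain ⟨h, hh⟩ := (AlgSp.yon S).map_surjective (p ≫ a)
  haveI : LocallyOfFiniteType h.left :=
    ha p (𝟙 _) h het (AlgSp.repWith_id _ _) (by rw [hh]; exact (Category.comp_id _).symm)
  obtain ⟨w, -⟩ := AlgSpace.surjective_ofPt hsurj (Classical.arbitrary (AlgSp.Points F))
  haveI : JacobsonSpace (Over.mk s).left := inferInstanceAs (JacobsonSpace (Spec (CommRingCat.of k)))
  haveI : JacobsonSpace W.left := LocallyOfFiniteType.jacobsonSpace h.left
  obtain ⟨c, -, hc⟩ := nonempty_inter_closedPoints (X := W.left) (Z := Set.univ) ⟨w, trivial⟩ isOpen_univ.isLocallyClosed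
  obtain ⟨q, hq⟩ := (pointEquivClosedPoint h.left).symm ⟨c, hc⟩
  have hqw : q ≫ W.hom = s := by
    rw [← Over.w h, reassoc_of% hq]
    rfl
  let Q : Over.mk s ⟶ W := Over.homMk q hqw
  refine ⟨p.hom.app (op (Over.mk s)) ⟨Q⟩, ?_⟩
  have e := ConcreteCategory.congr_hom (NatTrans.congr_app (congrArg InducedCategory.Hom.hom hh.symm) (op (Over.mk s))) ⟨Q⟩
  refine (Eq.trans ?_ e).trans ?_
  · rfl
  · exact congrArg ULift.up (Over.OverMorphism.ext hq)

variable {𝒰 : BasedCategory.{v₂, u₂} (Over S)} {𝒱 : BasedCategory.{v₃, u₃} (Over S)}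

/-- an algebraically closed point in the image of a representable morphism locally of finite type lifts -/
theorem exists_lift_of_mem_range (hU : FibCat.IsFibGrpd 𝒰.p) (hV : FibCat.IsFibGrpd 𝒱.p) {g : 𝒰 ⥤ᵇ 𝒱}
    (hg : AlgSt.RepByAlgSpWith (AlgSp.LocP @LocallyOfFiniteType) g) {k : Type u} [Field k] [IsAlgClosed k]
    (s : Spec (CommRingCat.of k) ⟶ S) (P : 𝒱.obj) (hP : 𝒱.p.obj P = Over.mk s)
    (h : Points.mk ⟨k, s, P, hP⟩ ∈ Set.range (Points.map g)) :
    ∃ (z : 𝒰.obj) (i : g.obj z ≅ P), 𝒰.p.obj z = Over.mk s ∧ 𝒱.p.IsHomLift (𝟙 (Over.mk s)) i.hom := by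
  haveI := FC16.isFibered hV
  haveI := ofObjIso_lift hP
  let y := ofObj hP
  obtain ⟨F, e, he, hlft⟩ := hg (Over.mk s) y
  let p₀ : FPt (FibCat.overCat (Over.mk s)) :=
    { K := k, str := s, obj := Over.mk (𝟙 (Over.mk s)), lies := rfl }
  obtain ⟨x, hx⟩ := h
  have hz : Points.map y (Points.mk p₀) = Points.map g x :=
    (Points.sound (p := p₀.map y) (q := ⟨k, s, P, hP⟩) ⟨p₀.map y, 𝟙 _, (ofObjIso hP).hom, trivial⟩).trans hx.symm
  obtain ⟨w, -, -⟩ := exists_fp_point hU hV (overCat_isFibGrpd _) g y _ x hz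
  obtain ⟨w', -⟩ := (map_bijective he).2 w
  haveI : Nonempty (AlgSp.Points F.obj) := ⟨spPts w'⟩
  obtain ⟨σ, hσ⟩ := exists_section_of_lft s F.property _ hlft
  let o : (AlgSt.ofSp F.obj).obj := ⟨Over.mk s, σ⟩
  have ho : AlgSt.secHom (BasedFunctor.comp e (FibCat.fpFst y g)) o = 𝟙 _ := congrArg ULift.down hσ
  let O := e.obj o
  have hbase : O.obj.fst.left = Over.mk s := e.w_obj o
  have hhom : O.obj.fst.hom = eqToHom hbase := by
    have h0 : eqToHom hbase.symm ≫ O.obj.fst.hom = 𝟙 _ := ho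
    rw [← Category.id_comp O.obj.fst.hom, ← eqToHom_refl O.obj.fst.left rfl, ← eqToHom_trans hbase hbase.symm,
      Category.assoc, h0, Category.comp_id]
  let m : O.obj.fst ≅ Over.mk (𝟙 (Over.mk s)) := Over.isoMk (eqToIso hbase) (by
    change eqToHom hbase ≫ 𝟙 _ = _
    rw [Category.comp_id, hhom])
  haveI : 𝒱.p.IsHomLift (𝟙 (Over.mk s)) O.obj.iso.hom := iso_lift O (U := Over.mk s) hbase
  haveI : (FibCat.overCat (Over.mk s)).p.IsHomLift (𝟙 (Over.mk s)) m.hom :=
    IsHomLift.of_fac' _ _ _ hbase rfl (by simp [m]; rfl)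
  haveI : 𝒱.p.IsHomLift (𝟙 (Over.mk s)) (y.map m.hom) := inferInstance
  haveI := isIso_of_isHomLift hV (𝟙 (Over.mk s)) (y.map m.hom)
  refine ⟨O.obj.snd, O.obj.iso.symm ≪≫ asIso (y.map m.hom) ≪≫ ofObjIso hP, ?_, ?_⟩
  · exact (g.w_obj _).symm.trans (IsHomLift.codomain_eq 𝒱.p (𝟙 (Over.mk s)) O.obj.iso.hom)
  · exact inferInstanceAs (𝒱.p.IsHomLift (𝟙 (Over.mk s)) (O.obj.iso.inv ≫ y.map m.hom ≫ (ofObjIso hP).hom))

end Groth.Agent.StAlg16
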