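import Groth.Agent.Lib.StAlg16.LocQApps
import Groth.Agent.Lib.GrpdSub19.Basic
import Groth.Agent.Lib.GrpQuot.FppfQuot
import Groth.Agent.Lib.AlgSpace.Affine
import Groth.Agent.S1877
import Groth.Prelude.Def_W4stkstmodspWNA
import Mathlib.AlgebraicGeometry.EffectiveEpi

/-! A space with a finite locally free cover by an affine scheme is affine. -/

universe u

open CategoryTheory CategoryTheory.Functor CategoryTheory.Limits AlgebraicGeometry Opposite

set_option linter.style.haveILetI false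
set_option backward.isDefEq.respectTransparency.types false

namespace Groth.Agent.StAlg16

open Groth.Agent.FC16 Groth.Agent.StAlg

variable {S : Scheme.{u}}

/-- The groupoid with only identities. -/
noncomputable def discrete {U : Scheme.{u}} (p : U ⟶ S) : Grpd.GroupoidScheme S where
  U := U
  R := U
  pU := p
  pR := p
  s := 𝟙 U
  t := 𝟙 U
  e := 𝟙 U
  i := 𝟙 U
  c := pullback.fst _ _
  s_over := Category.id_comp _
  t_over := Category.id_comp _
  comp_s α β h := by rw [pullback.lift_fst]; simpa using h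
  comp_t α β h := by rw [pullback.lift_fst]
  assoc α β γ h₁ h₂ := by rw [pullback.lift_fst, pullback.lift_fst, pullback.lift_fst]
  e_s := Category.id_comp _
  e_t := Category.id_comp _
  comp_e α := pullback.lift_fst _ _ _
  e_comp α := (pullback.lift_fst _ _ _).trans (by simp)
  i_s := Category.id_comp _
  i_t := Category.id_comp _
  comp_i α := (pullback.lift_fst _ _ _).trans (by simp)
  i_comp α := (pullback.lift_fst _ _ _).trans (by simp)

theorem exists_affine_iso {F : AlgSp.Sp S} (hF : AlgSp.IsAlgSpace F) {U : Over S} [IsAffine U.left]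
    (a : (AlgSp.yon S).obj U ⟶ F) (h₁ : AlgSp.IsFiniteMor a) (h₂ : AlgSp.LocP @Flat a)
    (h₃ : AlgSp.LocP @LocallyOfFinitePresentation a) (h₄ : AlgSp.IsSurjectiveMor a) :
    ∃ M : Over S, IsAffine M.left ∧ Nonempty ((AlgSp.yon S).obj M ≅ F) := by
  obtain ⟨W, σ, fst, sq, hW, hfs⟩ := h₁ inferInstance a
  obtain ⟨τ, rfl⟩ := (AlgSp.yon S).map_surjective fst
  have hU := AlgSp.IsAlgSpace.yon_obj U
  have hs₂ : Flat σ.left := (locP_yon_iff σ).1 (AlgSpace.locP_of_isPullback hU hF hU sq h₂)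
  have hs₃ : LocallyOfFinitePresentation σ.left := (locP_yon_iff σ).1 (AlgSpace.locP_of_isPullback hU hF hU sq h₃)
  have ht₂ : Flat τ.left := (locP_yon_iff τ).1 (AlgSpace.locP_of_isPullback hU hF hU sq.flip h₂)
  have ht₃ : LocallyOfFinitePresentation τ.left :=
    (locP_yon_iff τ).1 (AlgSpace.locP_of_isPullback hU hF hU sq.flip h₃)
  have ht₁ : IsFinite τ.left := (AlgSpace.isFiniteMor_iff_repWith.1 h₁).2 a _ _ sq.flip
  have hja : ∀ {T : Scheme.{u}} (p q : T ⟶ W.left), p ≫ τ.left = q ≫ τ.left → p ≫ σ.left = q ≫ σ.left → p = q := by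
    intro T p q hp hq
    have hpq : q ≫ W.hom = p ≫ W.hom := by
      rw [← Over.w σ, ← Category.assoc, ← hq, Category.assoc]
    let P : Over.mk (p ≫ W.hom) ⟶ W := Over.homMk p rfl
    let Q : Over.mk (p ≫ W.hom) ⟶ W := Over.homMk q hpq
    have : (AlgSp.yon S).map P = (AlgSp.yon S).map Q := sq.hom_ext
      (by rw [← Functor.map_comp, ← Functor.map_comp]; exact congrArg _ (Over.OverMorphism.ext hp))
      (by rw [← Functor.map_comp, ← Functor.map_comp]; exact congrArg _ (Over.OverMorphism.ext hq))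
    exact congrArg (fun z => z.left) ((AlgSp.yon S).map_injective this)
  have hlift : ∀ {T : Over S} (p q : T ⟶ U), (AlgSp.yon S).map p ≫ a = (AlgSp.yon S).map q ≫ a →
      ∃ l : T ⟶ W, l ≫ τ = p ∧ l ≫ σ = q := by
    intro T p q h
    obtain ⟨l, hl⟩ := (AlgSp.yon S).map_surjective (sq.lift _ _ h)
    exact ⟨l, (AlgSp.yon S).map_injective (by rw [Functor.map_comp, hl, sq.lift_fst]),
      (AlgSp.yon S).map_injective (by rw [Functor.map_comp, hl, sq.lift_snd])⟩
  let G := GrpdSub19.pair (discrete U.hom)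
  let ι : W.left ⟶ G.R := pullback.lift τ.left σ.left ((Over.w τ).trans (Over.w σ).symm)
  have hιt : ι ≫ G.t = τ.left := pullback.lift_fst _ _ _
  have hιs : ι ≫ G.s = σ.left := pullback.lift_snd _ _ _
  haveI : Mono ι := ⟨fun p q h => hja p q
    ((congrArg (p ≫ ·) hιt.symm).trans ((Category.assoc _ _ _).symm.trans ((congrArg (· ≫ G.t) h).trans ((Category.assoc _ _ _).trans (congrArg (q ≫ ·) hιt)))))
    ((congrArg (p ≫ ·) hιs.symm).trans ((Category.assoc _ _ _).symm.trans ((congrArg (· ≫ G.s) h).trans ((Category.assoc _ _ _).trans (congrArg (q ≫ ·) hιs)))))⟩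
  obtain ⟨e, he₁, he₂⟩ := hlift (𝟙 U) (𝟙 U) rfl
  obtain ⟨i, hi₁, hi₂⟩ := hlift σ τ sq.w.symm
  let T₂ : Over S := Over.mk (pullback.fst (ι ≫ G.s) (ι ≫ G.t) ≫ W.hom)
  let π₁ : T₂ ⟶ W := Over.homMk (pullback.fst (ι ≫ G.s) (ι ≫ G.t)) rfl
  let π₂ : T₂ ⟶ W := Over.homMk (pullback.snd (ι ≫ G.s) (ι ≫ G.t)) (by
    show pullback.snd _ _ ≫ W.hom = pullback.fst _ _ ≫ W.hom
    have hc : pullback.fst (ι ≫ G.s) (ι ≫ G.t) ≫ σ.left = pullback.snd _ _ ≫ τ.left := by
      rw [← hιs, ← hιt]; exact pullback.condition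
    rw [← Over.w τ, ← Category.assoc, ← hc, Category.assoc, Over.w σ, ← Over.w τ])
  have h12 : π₁ ≫ σ = π₂ ≫ τ := Over.OverMorphism.ext (by
    show pullback.fst _ _ ≫ σ.left = pullback.snd _ _ ≫ τ.left
    rw [← hιs, ← hιt]; exact pullback.condition)
  obtain ⟨c, hc₁, hc₂⟩ := hlift (π₁ ≫ τ) (π₂ ≫ σ) (by
    rw [Functor.map_comp, Functor.map_comp, Category.assoc, sq.w, ← Category.assoc, ← Functor.map_comp, h12,
      Functor.map_comp, Category.assoc, sq.w, ← Category.assoc])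
  let d : GrpdSub19.SubData G ι :=
    { e := e.left
      i := i.left
      c := c.left
      he := by
        apply pullback.hom_ext
        · show (e.left ≫ ι) ≫ G.t = G.e ≫ G.t
          rw [Category.assoc, hιt, G.e_t]; exact congrArg (fun z => z.left) he₁
        · show (e.left ≫ ι) ≫ G.s = G.e ≫ G.s
          rw [Category.assoc, hιs, G.e_s]; exact congrArg (fun z => z.left) he₂
      hi := by
        apply pullback.hom_ext
        · show (i.left ≫ ι) ≫ G.t = (ι ≫ G.i) ≫ G.t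
          rw [Category.assoc, hιt, Category.assoc, G.i_t, hιs]; exact congrArg (fun z => z.left) hi₁
        · show (i.left ≫ ι) ≫ G.s = (ι ≫ G.i) ≫ G.s
          rw [Category.assoc, hιs, Category.assoc, G.i_s, hιt]; exact congrArg (fun z => z.left) hi₂
      hc := by
        apply pullback.hom_ext
        · show (c.left ≫ ι) ≫ G.t = _ ≫ G.t
          exact (Category.assoc _ _ _).trans ((congrArg (c.left ≫ ·) hιt).trans ((congrArg (fun z => z.left) hc₁).trans ((congrArg (pullback.fst (ι ≫ G.s) (ι ≫ G.t) ≫ ·) hιt.symm).trans ((Category.assoc _ _ _).symm.trans (GrpdB.cmp_t _ _ _).symm))))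
        · show (c.left ≫ ι) ≫ G.s = _ ≫ G.s
          exact (Category.assoc _ _ _).trans ((congrArg (c.left ≫ ·) hιs).trans ((congrArg (fun z => z.left) hc₂).trans ((congrArg (pullback.snd (ι ≫ G.s) (ι ≫ G.t) ≫ ·) hιs.symm).trans ((Category.assoc _ _ _).symm.trans (GrpdB.cmp_s _ _ _).symm)))) }
  let H := GrpdSub19.sub d
  have hHs : H.s = σ.left := hιs
  have hHt : H.t = τ.left := hιt
  haveI : IsAffine H.U := ‹IsAffine U.left›
  haveI : IsAffine H.R := hW
  haveI : IsFinite H.s := hHs ▸ hfs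
  haveI : Flat H.s := hHs ▸ hs₂
  haveI : LocallyOfFinitePresentation H.s := hHs ▸ hs₃
  haveI : IsFinite H.t := hHt ▸ ht₁
  haveI : Flat H.t := hHt ▸ ht₂
  haveI : LocallyOfFinitePresentation H.t := hHt ▸ ht₃
  haveI : Mono H.j := by
    rw [GrpdSub19.j_sub d]; assumption
  obtain ⟨⟨hq₁, hq₂, hq₃⟩, φ, hφ₁, hφ₂⟩ := S1877.result S H
  have hq₄ : Surjective H.toQuot := GrpQuot.surjective_toQuot H
  haveI := hq₂; haveI := hq₃; haveI := hq₄
  have hker : IsPullback τ.left σ.left H.toQuot H.toQuot :=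
    have h0 : IsPullback H.t H.s H.toQuot H.toQuot := IsPullback.of_iso_pullback
      ⟨by rw [← hφ₁, ← hφ₂, Category.assoc, Category.assoc, pullback.condition]⟩ φ hφ₁ hφ₂
    hHt ▸ hHs ▸ h0
  haveI := isRegularEpi_of_flat_of_surjective_of_isAffine H.toQuot
  obtain ⟨pM, hpM⟩ : ∃ pM, H.toQuot ≫ pM = U.hom := ⟨EffectiveEpi.desc H.toQuot U.hom (fun g₁ g₂ h => by
      exact ((congrArg (· ≫ U.hom) (hker.lift_fst g₁ g₂ h).symm).trans ((Category.assoc _ _ _).trans
        (congrArg (hker.lift g₁ g₂ h ≫ ·) ((Over.w τ).trans (Over.w σ).symm)))).trans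
        ((Category.assoc _ _ _).symm.trans (congrArg (· ≫ U.hom) (hker.lift_snd g₁ g₂ h)))), EffectiveEpi.fac _ _ _⟩
  let M : Over S := Over.mk pM
  let q : U ⟶ M := Over.homMk H.toQuot hpM
  have hk : IsKernelPair q τ σ := IsPullback.of_map (Over.forget S) (Over.OverMorphism.ext hker.w) hker
  haveI : Flat q.left := hq₂
  haveI : Surjective q.left := hq₄
  haveI : LocallyOfFinitePresentation q.left := hq₃
  obtain ⟨hc'⟩ := (GrpQuot.isQuotient_iff hk.w).1 (GrpQuot.isQuotient_of_isKernelPair hk)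
  have hr := (AlgSpace.isFiniteMor_iff_repWith.1 h₁).1
  haveI : Sheaf.IsLocallySurjective a := AlgSpace.isLocallySurjective_of_repWith a
    (AlgSpace.repWith_of_locP hF hr h₂) (AlgSpace.repWith_of_locP hF hr h₃) (AlgSpace.repWith_surjective_of_map hr h₄)
  haveI : Epi a := (CategoryTheory.Sheaf.isLocallySurjective_iff_epi _).1 ‹_›
  haveI : IsRegularEpi a := IsRegularEpiCategory.regularEpiOfEpi _
  exact ⟨M, inferInstanceAs (IsAffine (Spec _)),
    ⟨hc'.coconePointUniqueUpToIso (IsKernelPair.toCoequalizer' (sq : IsKernelPair a _ _))⟩⟩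

theorem exists_affine_equivOver (𝒳 : AlgSt.Cat S) (hw : AlgSt.IsWellNighAffine 𝒳) (hsp : AlgSt.RepByAlgSp 𝒳) :
    ∃ (U : Over S) (e : AlgSt.ofSch U ⥤ᵇ 𝒳), IsAffine U.left ∧ FibCat.IsEquivOver e := by
  obtain ⟨U, x, hU, hx⟩ := hw
  obtain ⟨F, e, he⟩ := hsp
  obtain ⟨e', he', -, -⟩ := exists_inverse he
  let Φ : AlgSt.ofSch U ⥤ᵇ AlgSt.ofSp F.obj := BasedFunctor.comp (BasedFunctor.comp (AlgSt.toOverCat U) x) e'
  let a : (AlgSp.yon S).obj U ⟶ F.obj := ObjectProperty.homMk (mapOf Φ)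
  have key : ∀ Q : MorphismProperty (AlgSp.Sp S), GoodP Q → AlgSt.RepByAlgSpWith Q x → Q a := fun Q hQ h =>
    of_with_spMap hQ (AlgSp.IsAlgSpace.yon_obj U) F.property
      (with_of_iso (isoMapOf Φ) (with_equiv_comp he' (with_comp_equiv (toOverCat_isEquivOver U) h)))
  haveI := hU
  obtain ⟨M, hM, ⟨i⟩⟩ := exists_affine_iso F.property a
    (key _ goodP_isFiniteMor (repByAlgSpWith_mono (fun _ _ _ _ ha => ha.1.2) hx))
    (key _ goodP_locP (repByAlgSpWith_mono (fun _ _ _ _ ha => ha.1.1.2) hx))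
    (key _ goodP_locP (repByAlgSpWith_mono (fun _ _ _ _ ha => ha.2) hx))
    (key _ goodP_surjective (repByAlgSpWith_mono (fun _ _ _ _ ha => ha.1.1.1) hx))
  haveI : IsIso i.hom.hom := inferInstanceAs (IsIso ((ObjectProperty.ι _).map i.hom))
  exact ⟨M, BasedFunctor.comp (AlgSt.ofSpMap i.hom) e, hM, isEquivOver_comp (ofPshMap_isEquivOver i.hom.hom) he⟩

end Groth.Agent.StAlg16
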