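import Groth.Agent.Lib.StAlg16.OpenSub

/-! Substacks cut out on every chart by monomorphisms of schemes. -/

universe u

open CategoryTheory CategoryTheory.Functor CategoryTheory.Limits AlgebraicGeometry Opposite

set_option linter.style.haveILetI false
set_option linter.unusedSectionVars false
set_option backward.isDefEq.respectTransparency false
set_option backward.isDefEq.respectTransparency.types false

namespace Groth.Agent.StAlg16

open Groth.Agent.FC16 Groth.Agent.StAlg AlgSt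

variable {S : Scheme.{u}} {𝒳 : AlgSt.Cat S}

/-- `Q` is cut out on every chart by a monomorphism with the property `P` -/
def CutOut (P : MorphismProperty Scheme.{u}) (Q : 𝒳.obj → Prop) : Prop :=
  ∀ (U : Over S) (y : FibCat.overCat U ⥤ᵇ 𝒳), ∃ (Z : Over S) (ι : Z ⟶ U),
    P ι.left ∧ Mono ι ∧ ∀ b : (FibCat.overCat U).obj, Q (y.obj b) ↔ ∃ l : b.left ⟶ Z, l ≫ ι = b.hom

variable {P : MorphismProperty Scheme.{u}} {Q : 𝒳.obj → Prop}

theorem CutOut.of_hom (h𝒳 : FibCat.IsFibGrpd 𝒳.p) (hiso : ObjectProperty.IsClosedUnderIsomorphisms Q)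
    (hQ : CutOut P Q) {a b : 𝒳.obj} (φ : a ⟶ b) (hb : Q b) : Q a := by
  haveI := hiso
  haveI := FC16.isFibered h𝒳
  let U := 𝒳.p.obj b
  let y : FibCat.overCat U ⥤ᵇ 𝒳 := ofObj (x := b) (U := U) rfl
  obtain ⟨Z, ι, -, -, h⟩ := hQ U y
  obtain ⟨l, hl⟩ := (h (Over.mk (𝟙 U))).1 (ObjectProperty.prop_of_iso Q (ofObjIso (x := b) (U := U) rfl).symm hb)
  let m : 𝒳.p.obj a ⟶ U := 𝒳.p.map φ
  have hm : Q (y.obj (Over.mk m)) := (h (Over.mk m)).2 ⟨m ≫ l, by
    rw [Category.assoc, hl]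
    exact Category.comp_id m⟩
  let g : (Over.mk m : Over U) ⟶ Over.mk (𝟙 U) := Over.homMk m (Category.comp_id m)
  let ψ : y.obj (Over.mk m) ⟶ b := y.map g ≫ (ofObjIso (x := b) (U := U) rfl).hom
  haveI : 𝒳.p.IsHomLift m ψ := by
    haveI : 𝒳.p.IsHomLift m (y.map g) := FC16.map_over_lift y g
    have : 𝒳.p.IsHomLift (m ≫ 𝟙 U) ψ := inferInstance
    rwa [Category.comp_id] at this
  haveI : 𝒳.p.IsHomLift m φ := IsHomLift.map 𝒳.p φ
  obtain ⟨e, -, -⟩ := exists_iso_of_lifts h𝒳 m φ ψ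
  exact ObjectProperty.prop_of_iso Q e.symm hm

theorem CutOut.isStack (h𝒳 : IsAlgStack Scheme.fppfPrecoverage 𝒳) (hiso : ObjectProperty.IsClosedUnderIsomorphisms Q)
    (hQ : CutOut P Q) :
    Stk.IsStack (QuotSh.J Scheme.fppfPrecoverage S) (fullSub 𝒳 Q) := by
  refine ⟨fullSub_isFibGrpd h𝒳.isStack.1 (fun φ h => hQ.of_hom h𝒳.isStack.1 hiso φ h), fun U R hR => ?_⟩
  haveI : (Stk.resSieve R 𝒳).IsEquivalence := h𝒳.isStack.2 R hR
  let ι := Stk.sieveIncl R
  let j := subIncl 𝒳 Q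
  haveI : (Stk.resSieve R (fullSub 𝒳 Q)).Faithful := ⟨fun {G H α β} e => by
    have : BasedCategory.whiskerRight α j = BasedCategory.whiskerRight β j :=
      (Stk.resSieve R 𝒳).map_injective (congrArg (fun γ => BasedCategory.whiskerRight γ j) e)
    apply BasedNatTrans.homCategory.ext
    apply NatTrans.ext
    funext z
    exact ObjectProperty.hom_ext _ (congrArg (fun δ => δ.toNatTrans.app z) this)⟩
  haveI : (Stk.resSieve R (fullSub 𝒳 Q)).Full := ⟨fun {G H} γ => by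
    obtain ⟨α, hα⟩ := (Stk.resSieve R 𝒳).map_surjective (X := BasedFunctor.comp G j) (Y := BasedFunctor.comp H j)
      (BasedCategory.whiskerRight γ j)
    refine ⟨{ toNatTrans :=
                { app := fun z => ObjectProperty.homMk (α.toNatTrans.app z)
                  naturality := fun z z' g => ObjectProperty.hom_ext _ (α.toNatTrans.naturality g) }
              isHomLift' := fun z => (fullSub_isHomLift_iff _ _).2 (α.isHomLift' z) }, ?_⟩
    apply BasedNatTrans.homCategory.ext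
    apply NatTrans.ext
    funext z
    exact ObjectProperty.hom_ext _ (congrArg (fun δ => δ.toNatTrans.app z) hα)⟩
  haveI : (Stk.resSieve R (fullSub 𝒳 Q)).EssSurj := ⟨fun t => by
    let a := (Stk.resSieve R 𝒳).objPreimage (BasedFunctor.comp t j)
    let i : BasedFunctor.comp ι a ≅ BasedFunctor.comp t j := (Stk.resSieve R 𝒳).objObjPreimageIso _
    obtain ⟨Z, z, -, hzm, hz⟩ := hQ U a
    haveI := hzm
    haveI := hiso
    have hex : ∀ ⦃V : Over S⦄ (f : V ⟶ U), R f → ∃ l : V ⟶ Z, l ≫ z = f := fun V f hf => by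
      let s : (Stk.sieveCat R).obj := ⟨Over.mk f, hf⟩
      exact (hz (Over.mk f)).1 (ObjectProperty.prop_of_iso Q (appIso i s).symm (t.obj s).property)
    choose lift lift_fac using hex
    have hZ : Presieve.IsSheaf (QuotSh.J Scheme.fppfPrecoverage S) (yoneda.obj Z) :=
      (isStack_overCat_iff _ _).1 (isAlgStack_overCat Z).isStack
    have hU : Presieve.IsSheaf (QuotSh.J Scheme.fppfPrecoverage S) (yoneda.obj U) :=
      (isStack_overCat_iff _ _).1 (isAlgStack_overCat U).isStack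
    let fam : Presieve.FamilyOfElements (yoneda.obj Z) R.arrows := fun V f hf => lift f hf
    have hfam : fam.Compatible := fun Y₁ Y₂ V g₁ g₂ f₁ f₂ h₁ h₂ e => by
      show g₁ ≫ lift f₁ h₁ = g₂ ≫ lift f₂ h₂
      rw [← cancel_mono z, Category.assoc, Category.assoc, lift_fac f₁ h₁, lift_fac f₂ h₂]
      exact e
    let s : U ⟶ Z := (hZ R hR).amalgamate fam hfam
    have hs : s ≫ z = 𝟙 U := (hU R hR).isSeparatedFor.ext fun V f hf => by
      show f ≫ s ≫ z = f ≫ 𝟙 U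
      have e : f ≫ s = lift f hf := (hZ R hR).valid_glue hfam f hf
      rw [reassoc_of% e, lift_fac f hf, Category.comp_id]
    let a' : FibCat.overCat U ⥤ᵇ fullSub 𝒳 Q :=
      { toFunctor := ObjectProperty.lift _ a.toFunctor fun b =>
          (hz b).2 ⟨b.hom ≫ s, by rw [Category.assoc, hs, Category.comp_id]⟩
        w := a.w }
    exact ⟨a', ⟨BasedNatIso.mkNatIso
      (NatIso.ofComponents (fun z => ObjectProperty.isoMk _ (appIso i z))
        (fun g => ObjectProperty.hom_ext _ (i.hom.toNatTrans.naturality g)))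
      (fun z => (fullSub_isHomLift_iff _ _).2 (isHomLift_appIso_hom i z rfl))⟩⟩⟩
  exact { }

theorem CutOut.exists_fp (h𝒳 : IsAlgStack Scheme.fppfPrecoverage 𝒳) (hiso : ObjectProperty.IsClosedUnderIsomorphisms Q)
    (hQ : CutOut P Q) {U : Over S} (y : FibCat.overCat U ⥤ᵇ 𝒳) :
    ∃ (Z : Over S) (ι : Z ⟶ U) (E : FibCat.overCat Z ⥤ᵇ FibCat.fp y (subIncl 𝒳 Q)),
      P ι.left ∧ FibCat.IsEquivOver E ∧
        BasedFunctor.comp E (FibCat.fpFst y (subIncl 𝒳 Q)) = AlgSt.overMap ι ∧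
      ∀ b : (FibCat.overCat U).obj, Q (y.obj b) ↔ ∃ l : b.left ⟶ Z, l ≫ ι = b.hom := by
  obtain ⟨Z, ι, hP, hm, hz⟩ := hQ U y
  haveI := hm
  haveI := hiso
  let L : FibCat.overCat Z ⥤ᵇ fullSub 𝒳 Q :=
    { toFunctor := ObjectProperty.lift _ (BasedFunctor.comp (AlgSt.overMap ι) y).toFunctor fun b =>
        (hz ((AlgSt.overMap ι).obj b)).2 ⟨b.hom, rfl⟩
      w := (BasedFunctor.comp (AlgSt.overMap ι) y).w }
  let E : FibCat.overCat Z ⥤ᵇ FibCat.fp y (subIncl 𝒳 Q) :=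
    FibCat.fpLift (AlgSt.overMap ι) L (Iso.refl (BasedFunctor.comp (AlgSt.overMap ι) y))
  refine ⟨Z, ι, E, hP, ?_, rfl, hz⟩
  haveI : E.toFunctor.Faithful := ⟨fun {a b φ φ'} e =>
    Over.OverMorphism.ext (congrArg (fun t => t.hom.fst.left) e)⟩
  haveI : E.toFunctor.Full := ⟨fun {a b} ψ => by
    have w1 : ψ.hom.fst.left ≫ b.hom ≫ ι = a.hom ≫ ι := Over.w ψ.hom.fst
    rw [← Category.assoc, cancel_mono] at w1
    refine ⟨Over.homMk ψ.hom.fst.left w1, fp_hom_ext (Over.OverMorphism.ext rfl) (ObjectProperty.hom_ext _ ?_)⟩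
    have w2 : y.map ψ.hom.fst ≫ 𝟙 _ = 𝟙 _ ≫ ψ.hom.snd.hom := fp_w ψ
    exact (Category.comp_id _).symm.trans (w2.trans (Category.id_comp _))⟩
  refine isEquivOver_of _ fun η => ?_
  let b : (FibCat.overCat U).obj := η.obj.fst
  obtain ⟨l, hl⟩ := (hz b).1 (ObjectProperty.prop_of_iso Q η.obj.iso.symm η.obj.snd.property)
  let o : (FibCat.overCat Z).obj := Over.mk l
  let a : (AlgSt.overMap ι).obj o ≅ b := Over.isoMk (Iso.refl _) ((Category.id_comp _).trans hl.symm)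
  refine ⟨o, fpIsoMk a (ObjectProperty.isoMk _ (y.toFunctor.mapIso a ≪≫ η.obj.iso)) ?_,
    @isHomLift_of_fst _ _ _ _ _ _ _ _ _ _ _ _ _ ?_⟩
  · show y.map a.hom ≫ η.obj.iso.hom = 𝟙 _ ≫ (y.map a.hom ≫ η.obj.iso.hom)
    rw [Category.id_comp]
  · refine IsHomLift.of_fac' _ _ _ rfl rfl ?_
    change 𝟙 _ = _
    simp
    rfl

theorem CutOut.with_subIncl [P.IsStableUnderBaseChange] (h𝒳 : IsAlgStack Scheme.fppfPrecoverage 𝒳)
    (hiso : ObjectProperty.IsClosedUnderIsomorphisms Q) (hQ : CutOut P Q) :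
    AlgSt.RepByAlgSpWith (AlgSp.RepWith P) (subIncl 𝒳 Q) := fun U y => by
  obtain ⟨Z, ι, E, hP, hE, he, -⟩ := hQ.exists_fp h𝒳 hiso y
  refine ⟨⟨(AlgSp.yon S).obj Z, AlgSp.IsAlgSpace.yon_obj _⟩,
    BasedFunctor.comp (AlgSt.toOverCat Z) E, isEquivOver_comp (toOverCat_isEquivOver _) hE, ?_⟩
  have e : AlgSt.spMapOfOver (BasedFunctor.comp (BasedFunctor.comp (AlgSt.toOverCat Z) E)
      (FibCat.fpFst y (subIncl 𝒳 Q))) = (AlgSp.yon S).map ι := by
    apply ObjectProperty.hom_ext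
    rw [spMapOfOver_hom, show BasedFunctor.comp (BasedFunctor.comp (AlgSt.toOverCat Z) E)
      (FibCat.fpFst y (subIncl 𝒳 Q)) = BasedFunctor.comp (AlgSt.toOverCat Z)
        (AlgSt.overMap ι) from congrArg (BasedFunctor.comp (AlgSt.toOverCat Z)) he]
    ext T' x
    rfl
  show AlgSp.RepWith P _
  rw [e]
  exact (AlgSp.repWith_yon_map_iff _ _).2 hP

theorem CutOut.isAlgStack [P.IsStableUnderBaseChange] (h𝒳 : IsAlgStack Scheme.fppfPrecoverage 𝒳)
    (hiso : ObjectProperty.IsClosedUnderIsomorphisms Q) (hQ : CutOut P Q) :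
    IsAlgStack Scheme.fppfPrecoverage (fullSub 𝒳 Q) := by
  have gX := h𝒳.isStack.1
  have hst := hQ.isStack h𝒳 hiso
  have hj := repByAlgSp1_of_with (hQ.with_subIncl h𝒳 hiso)
  refine ⟨hst, (rep1_diag_iff hst.1).2 (forall_rep1_of_rep1 hst.1 gX hj ((rep1_diag_iff gX).1 h𝒳.diag)), ?_⟩
  obtain ⟨U, x, hx, hxs⟩ := h𝒳.atlas
  obtain ⟨Z, ι, E, -, hE, -, -⟩ := hQ.exists_fp h𝒳 hiso x
  exact ⟨Z, BasedFunctor.comp E (FibCat.fpSnd x (subIncl 𝒳 Q)),
    with_comp_equiv hE (with_fpSnd _ hx), with_comp_equiv hE (with_fpSnd _ hxs)⟩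

end Groth.Agent.StAlg16
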