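import Groth.Agent.Lib.StAlg.Descent
import Groth.Agent.Lib.AlgSpace.DiagChart

/-! The diagonal of a morphism, computed from a flat cover of the source. -/

universe u

open CategoryTheory CategoryTheory.Functor CategoryTheory.Limits AlgebraicGeometry Opposite

set_option linter.style.haveILetI false
set_option linter.unusedSectionVars false
set_option backward.isDefEq.respectTransparency false
set_option backward.isDefEq.respectTransparency.types false

namespace Groth.Agent.StAlg16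

open Groth.Agent.FC16 Groth.Agent.StAlg

variable {S : Scheme.{u}} {𝒳 𝒴 𝒵 : AlgSt.Cat S}

/-- the diagonal of `f` from the diagonals of spaces with the property `Q` of `w ≫ f` -/
theorem with_diag_of_cover {R : MorphismProperty Scheme.{u}} [AlgSpace.EtaleLocal R]
    {Q : MorphismProperty (AlgSp.Sp S)}
    (hR : AlgSp.IsLocalOnBase AlgSp.IsFppfCover (AlgSp.LocP (S := S) R))
    (hd : ∀ ⦃X : AlgSp.Sp S⦄, AlgSp.IsAlgSpace X → ∀ ⦃U : Over S⦄ (a : X ⟶ (AlgSp.yon S).obj U),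
      Q a → AlgSp.LocP R (pullback.diagonal a))
    (h𝒳 : AlgSt.IsAlgStack Scheme.fppfPrecoverage 𝒳) (h𝒴 : AlgSt.IsAlgStack Scheme.fppfPrecoverage 𝒴)
    (hz : FibCat.IsFibGrpd 𝒵.p) {f : 𝒳 ⥤ᵇ 𝒴} {w : 𝒵 ⥤ᵇ 𝒳}
    (hw₁ : AlgSt.RepByAlgSpWith (AlgSp.LocP @Flat) w)
    (hw₂ : AlgSt.RepByAlgSpWith (AlgSp.LocP @LocallyOfFinitePresentation) w)
    (hw₃ : AlgSt.RepByAlgSpWith AlgSp.IsSurjectiveMor w)
    (hw₄ : AlgSt.RepByAlgSpWith (AlgSp.LocP R) w)
    (hk : AlgSt.RepByAlgSpWith Q (BasedFunctor.comp w f)) :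
    AlgSt.RepByAlgSpWith (AlgSp.LocP R) (FibCat.diag f) := by
  have hg := h𝒳.isStack.1
  have hy := h𝒴.isStack.1
  refine with_of_fpFst_cover (z := pair (Iso.refl (BasedFunctor.comp w f)) (Iso.refl (BasedFunctor.comp w f)))
    pbP_locP hR hg (fp_isFibGrpd hg hg hy _ _)
    (fp_isFibGrpd hz hz hy _ _) (rep1_diag h𝒳 h𝒴 f)
    (with_fp_map_gen goodP_locP hg hy f f hz hz hw₁ hw₁)
    (with_fp_map_gen goodP_locP hg hy f f hz hz hw₂ hw₂)
    (with_fp_map_gen goodP_surjective hg hy f f hz hz hw₃ hw₃)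
    ((with_cmp_iff (wrIso (FibCat.fpIso w w) f) (fun _ => rfl)).2 ?_)
  exact with_of_comp (g := FibCat.fpFst (BasedFunctor.comp w f) (BasedFunctor.comp w f)) goodP_locP
    (fp_isFibGrpd hz hz hg _ _) (fp_isFibGrpd hz hz hy _ _) hz
    (with_of_iso (Iso.refl _) (with_fpFst w hw₄))
    (with_diag_of_rep1 pbP_locP (with_fpFst _ hk) hd)

theorem locP_lfp_diagonal {X : AlgSp.Sp S} (hX : AlgSp.IsAlgSpace X) {U : Over S} (a : X ⟶ (AlgSp.yon S).obj U)
    (ha : AlgSp.LocP @LocallyOfFiniteType a) : AlgSp.LocP @LocallyOfFinitePresentation (pullback.diagonal a) :=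
  AlgSpace.locP_of_repWith (AlgSpace.isAlgSpace_pullback (AlgSp.IsAlgSpace.yon_obj U) hX hX (IsPullback.of_hasPullback a a))
    (AlgSpace.repWith_diagonal_lfp_of_lft hX (AlgSp.IsAlgSpace.yon_obj U) ha)

end Groth.Agent.StAlg16
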