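import Groth.Agent.Lib.StAlg16.LocQApps
import Groth.Agent.Lib.StAlg16.QC
import Groth.Agent.Lib.CI2.RImmSmooth
import Groth.Agent.Lib.CI2.KoszulComp
import Groth.Agent.Lib.PCMor4.Smooth
import Groth.Prelude.Def_AlgSpMor6

/-! Cancellation of smooth morphisms from local complete intersection morphisms of stacks. -/

universe u

open CategoryTheory CategoryTheory.Functor CategoryTheory.Limits AlgebraicGeometry Opposite

set_option linter.style.haveILetI false
set_option backward.isDefEq.respectTransparency.types false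

namespace Groth.Agent.StAlg16

open Groth.Agent.FC16 Groth.Agent.StAlg AlgSt

theorem lci_of_comp_smooth {X Y Z : Scheme.{u}} (k : X ⟶ Y) (b : Y ⟶ Z) [Smooth b]
    (h : ∀ x, Synt.IsKoszulAt (k ≫ b) x) (x : X) : Synt.IsKoszulAt k x := by
  obtain ⟨O, P, i₀, π₀, hxO, hft, hi₀, hπ₀, hcomp⟩ := h x
  haveI := hπ₀
  haveI := hi₀.1
  have hw : i₀ ≫ π₀ = (O.ι ≫ k) ≫ b := by rw [hcomp, Category.assoc]
  let i := pullback.lift i₀ (O.ι ≫ k) hw
  haveI : IsImmersion i := by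
    haveI : IsImmersion (i ≫ pullback.fst π₀ b) := by rw [pullback.lift_fst]; infer_instance
    exact IsImmersion.of_comp i (pullback.fst π₀ b)
  haveI : Smooth (pullback.fst π₀ b) := inferInstance
  haveI : Smooth (pullback.snd π₀ b) := inferInstance
  have hi := (CI2.koszul_iff_of_smooth_comp i₀ i (pullback.fst π₀ b) (pullback.lift_fst _ _ _)).1 hi₀
  refine ⟨O, pullback π₀ b, i, pullback.snd π₀ b, hxO, ?_, hi, inferInstance, pullback.lift_snd _ _ _⟩
  haveI : LocallyOfFiniteType ((O.ι ≫ k) ≫ b) := by rw [Category.assoc]; exact hft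
  exact locallyOfFiniteType_of_comp (O.ι ≫ k) b

theorem lci_precomp_smooth {X Y Z : Scheme.{u}} (a : X ⟶ Y) [Smooth a] (g : Y ⟶ Z)
    (h : ∀ y, Synt.IsKoszulAt g y) (x : X) : Synt.IsKoszulAt (a ≫ g) x := by
  refine CI2.isKoszulAt_comp a g (fun x => ?_) h x
  refine ⟨⊤, (⊤ : X.Opens).toScheme, 𝟙 _, (⊤ : X.Opens).ι ≫ a, trivial, inferInstance, ?_, inferInstance,
    Category.id_comp _⟩
  refine CI2.isRegularImmersion_of_forall_isKR (𝟙 _) fun z => ?_
  obtain ⟨O, hO, hzO, -⟩ := exists_isAffineOpen_mem_and_subset (X := (⊤ : X.Opens).toScheme) (x := z) (U := ⊤) trivial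
  refine ⟨O, hO, hzO, IsZariskiLocalAtTarget.restrict (inferInstance : IsClosedImmersion (𝟙 _)) O, ?_⟩
  rw [show RingHom.ker (Scheme.Hom.app (𝟙 (⊤ : X.Opens).toScheme) O).hom = ⊥ from
    (RingHom.injective_iff_ker_eq_bot _).1
      (ConcreteCategory.bijective_of_isIso (Scheme.Hom.app (𝟙 (⊤ : X.Opens).toScheme) O)).1]
  exact PCMor4.isKR_bot _

variable {S : Scheme.{u}}

theorem locP_lci_of_smooth_comp {U W V : Over S} (k : U ⟶ W) (b : W ⟶ V) [Smooth b.left]
    (h : AlgSp.lci (k ≫ b).left) : AlgSp.LocP AlgSp.lci ((AlgSp.yon S).map k) := by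
  intro U' W' a c m ha hc hw
  obtain ⟨a', rfl⟩ := (AlgSp.yon S).map_surjective a
  obtain ⟨c', rfl⟩ := (AlgSp.yon S).map_surjective c
  rw [← Functor.map_comp, ← Functor.map_comp] at hw
  have hw' : a' ≫ k = m ≫ c' := (AlgSp.yon S).map_injective hw
  haveI : Etale a'.left := (AlgSp.repWith_yon_map_iff _ _).1 ha
  haveI : Etale c'.left := (AlgSp.repWith_yon_map_iff _ _).1 hc
  haveI : Smooth (c'.left ≫ b.left) := inferInstance
  intro x
  refine lci_of_comp_smooth m.left (c'.left ≫ b.left) (fun x => ?_) x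
  rw [← Category.assoc, show m.left ≫ c'.left = a'.left ≫ k.left from (congrArg (fun z => z.left) hw').symm,
    Category.assoc]
  exact lci_precomp_smooth a'.left (k.left ≫ b.left) h x

theorem locQ_lci_of_comp_smooth {𝒳 𝒴 𝒵 : AlgSt.Cat S} (h𝒳 : IsAlgStack Scheme.fppfPrecoverage 𝒳)
    (h𝒴 : IsAlgStack Scheme.fppfPrecoverage 𝒴) (h𝒵 : IsAlgStack Scheme.fppfPrecoverage 𝒵)
    (f : 𝒳 ⥤ᵇ 𝒴) (q : 𝒴 ⥤ᵇ 𝒵) (p : 𝒳 ⥤ᵇ 𝒵) (e : BasedFunctor.comp f q ≅ p)
    (hq : AlgSt.LocQ (AlgSp.LocP @Smooth) q) (hp : AlgSt.LocQ AlgSp.IsLCIMor p) :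
    AlgSt.LocQ AlgSp.IsLCIMor f := by
  have gX := h𝒳.isStack.1
  have gY := h𝒴.isStack.1
  have gZ := h𝒵.isStack.1
  obtain ⟨U, V, x, z, h, ex, hx, hxs, hz, hh⟩ := hp
  obtain ⟨W, b, c, ⟨jb⟩, hc, hcs⟩ := exists_good h𝒴 h𝒵 q z
  haveI : Smooth b.left := (locP_yon_iff b).1 (of_locQ isSmoothLocalST_smooth gY gZ hq hz jb hc)
  have hfp := fp_isFibGrpd (overCat_isFibGrpd V) gY gZ z q
  let μ : FibCat.overCat U ⥤ᵇ FibCat.fp z q :=
    FibCat.fpLift (AlgSt.overMap h) (BasedFunctor.comp x f) (ex.symm ≪≫ (wlIso x e).symm)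
  obtain ⟨T, l, k, ⟨i⟩, hsq, hP⟩ := exists_chart_square hfp (repByAlgSp1_of_with hc) U μ
  haveI hl : Smooth l.left := (hP @Smooth).1 hc
  have key : k ≫ b = l ≫ h := eq_of_overMap_iso
    ((overMapComp k b).symm ≪≫ wlIso (AlgSt.overMap k) jb.symm ≪≫ wrIso i.symm (FibCat.fpFst z q) ≪≫
      overMapComp l h)
  have hlci : AlgSp.lci (k ≫ b).left := by
    rw [key]
    exact fun t => lci_precomp_smooth l.left h.left (AlgSp.locP_yon_map hh) t
  have hx' : AlgSt.RepByAlgSpWith (AlgSp.LocP @Smooth) (BasedFunctor.comp (AlgSt.overMap l) x) :=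
    with_comp goodP_locP (overCat_isFibGrpd T) (overCat_isFibGrpd U) (with_locP_overMap l hl) hx
  have hsurj : Function.Surjective (Points.ofChart (BasedFunctor.comp (AlgSt.overMap l) x)) := fun z₀ => by
    obtain ⟨u, rfl⟩ := surjective_ofChart gX hxs z₀
    obtain ⟨t, ht⟩ := surjective_ofChart hfp hcs (Points.ofChart μ u)
    obtain ⟨w, hw, -⟩ := hsq u t ht.symm
    exact ⟨w, by rw [ofChart_overMap, hw]⟩
  exact ⟨T, W, BasedFunctor.comp (AlgSt.overMap l) x, BasedFunctor.comp c (FibCat.fpSnd z q), k,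
    (Iso.refl _ : BasedFunctor.comp (BasedFunctor.comp (AlgSt.overMap l) x) f ≅
        BasedFunctor.comp (BasedFunctor.comp (AlgSt.overMap l) μ) (FibCat.fpSnd z q)) ≪≫ wrIso i (FibCat.fpSnd z q),
    hx', with_surjective_of_isSurjective (overCat_isFibGrpd T) gX (repByAlgSp1_of_with hx')
      (isSurjective_of_surjective_ofChart hsurj),
    with_fpSnd_chart goodP_locP gY gZ hc hz, locP_lci_of_smooth_comp k b hlci⟩

end Groth.Agent.StAlg16
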