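import Groth.Agent.Lib.StAlg16.OpenCover
import Groth.Agent.Lib.StAlg16.Mono
import Groth.Agent.Lib.AlgSpace.SchemeLocus

/-! An algebraic stack covered by open substacks which are schemes is a scheme. -/

universe u w

open CategoryTheory CategoryTheory.Functor CategoryTheory.Limits AlgebraicGeometry Opposite

set_option linter.style.haveILetI false
set_option linter.unusedSectionVars false
set_option backward.isDefEq.respectTransparency false
set_option backward.isDefEq.respectTransparency.types false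

namespace Groth.Agent.StAlg16

open Groth.Agent.FC16 Groth.Agent.StAlg AlgSt

variable {S : Scheme.{u}} {𝒳 : AlgSt.Cat S}

theorem repWith_of_repBySpWith {P : MorphismProperty Scheme.{u}} [P.IsStableUnderBaseChange] {F G : AlgSp.Sp S} (a : F ⟶ G)
    (h : AlgSp.RepBySpWith (AlgSp.RepWith P) a.hom) : AlgSp.RepWith P a := by
  refine ⟨fun {T} g => ?_, fun {T W} g fst snd sq => ?_⟩
  · have sq₀ := IsPullback.of_hasPullback a.hom g.hom
    obtain ⟨hs, -, hq⟩ := h g.hom _ _ sq₀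
    let F' : AlgSp.Sp S := ⟨_, hs⟩
    let q : F' ⟶ (AlgSp.yon S).obj T := ObjectProperty.homMk (pullback.snd a.hom g.hom)
    let p : F' ⟶ F := ObjectProperty.homMk (pullback.fst a.hom g.hom)
    have sqF : IsPullback p q a g :=
      IsPullback.of_map (sheafToPresheaf (AlgSp.J S) (Type (u + 1))) (ObjectProperty.hom_ext _ sq₀.w) sq₀
    have sq1 := hq.1.isPullback (𝟙 ((AlgSp.yon S).obj T))
    refine ⟨_, hq.1.snd (𝟙 _), hq.1.fst (𝟙 _) ≫ p, ?_⟩
    have := sq1.paste_horiz sqF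
    rwa [Category.id_comp] at this
  · obtain ⟨hs, -, hq⟩ := h g.hom fst.hom ((AlgSp.yon S).map snd).hom
      (sq.map (sheafToPresheaf (AlgSp.J S) (Type (u + 1))))
    exact (AlgSp.repWith_yon_map_iff P snd).1 hq

theorem isRepresentable_of_open_substack_cover (h𝒳 : IsAlgStack Scheme.fppfPrecoverage 𝒳) {ι : Type w}
    (Q : ι → 𝒳.obj → Prop) (hQ : ∀ i, AlgSt.IsOpenSubstack 𝒳 (Q i) Scheme.fppfPrecoverage)
    (hcov : ⋃ i, Set.range (Points.map (AlgSt.subIncl 𝒳 (Q i))) = Set.univ)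
    (hsch : ∀ i, FibCat.IsRepresentable (fullSub 𝒳 (Q i))) : FibCat.IsRepresentable 𝒳 := by
  have hrep : ∀ i, AlgSt.RepByAlgSp (fullSub 𝒳 (Q i)) := fun i => by
    obtain ⟨U, G, hG⟩ := hsch i
    obtain ⟨G', hG', -, -⟩ := exists_inverse hG
    exact ⟨⟨(AlgSp.yon S).obj U, AlgSp.IsAlgSpace.yon_obj U⟩, BasedFunctor.comp (AlgSt.toOverCat U) G',
      isEquivOver_comp (toOverCat_isEquivOver U) hG'⟩
  obtain ⟨F, e, he⟩ := rep_of_open_substack_cover h𝒳 Q hQ hcov hrep
  obtain ⟨e', he', -, ⟨β⟩⟩ := exists_inverse he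
  choose U G hG using hsch
  choose E hE hE₁ hE₂ using fun i => exists_inverse (hG i)
  let Φ : ∀ i, AlgSt.ofSch (U i) ⥤ᵇ AlgSt.ofSp F.obj := fun i =>
    BasedFunctor.comp (BasedFunctor.comp (BasedFunctor.comp (AlgSt.toOverCat (U i)) (E i))
      (AlgSt.subIncl 𝒳 (Q i))) e'
  let w : ∀ i, (AlgSp.yon S).obj (U i) ⟶ F.obj := fun i => ObjectProperty.homMk (mapOf (Φ i))
  haveI : (AlgSp.RepWith (S := S) @IsOpenImmersion).RespectsIso := inferInstance
  have hw : ∀ i, AlgSp.RepWith @IsOpenImmersion (w i) := fun i => by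
    refine repWith_of_repBySpWith _ (repBySpWith_of_with (preIso_of_respectsIso _)
      ((with_congr (f := AlgSt.subIncl 𝒳 (Q i)) (f' := Stk.ofPshMap (mapOf (Φ i)))
        (a := BasedFunctor.comp (AlgSt.toOverCat (U i)) (E i)) (b := e)
        (isEquivOver_comp (toOverCat_isEquivOver _) (hE i)) he ?_).1 (hQ i).2.2))
    exact wrIso (isoMapOf (Φ i)).symm e ≪≫
      wlIso (BasedFunctor.comp (BasedFunctor.comp (AlgSt.toOverCat (U i)) (E i)) (AlgSt.subIncl 𝒳 (Q i))) β
  have hbe := map_bijective he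
  have hcover : ∀ z : AlgSp.Points F.obj, ∃ i, z ∈ Set.range (AlgSp.Points.map (w i)) := fun z => by
    obtain ⟨z', rfl⟩ := spPts_bijective.2 z
    obtain ⟨i, y, hy⟩ := Set.mem_iUnion.1
      (show Points.map e z' ∈ ⋃ i, Set.range (Points.map (AlgSt.subIncl 𝒳 (Q i))) by rw [hcov]; trivial)
    obtain ⟨y', rfl⟩ := (map_bijective (isEquivOver_comp (toOverCat_isEquivOver (U i)) (hE i))).2 y
    refine ⟨i, spPts y', ?_⟩
    rw [← spPts_map]
    congr 1
    apply hbe.1
    rw [← hy, show Points.map (AlgSt.ofSpMap (w i)) y' = Points.map (Φ i) y' from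
      congrFun (map_eq_map_of_iso (isoMapOf (Φ i)).symm) y', map_comp_apply, ← map_comp_apply e' e,
      map_eq_map_of_iso β, map_id_apply, map_comp_apply]
  obtain ⟨A, p, -, hps⟩ := F.property.atlas
  choose i hi using fun t : ↥A.left => hcover (AlgSp.Points.ofPt p t)
  obtain ⟨H, ⟨ψ⟩⟩ := AlgSpace.exists_iso_yon_of_points_cover (U := fun t => U (i t)) (w := fun t => w (i t))
    (fun t => hw _) fun z => by
      obtain ⟨t, rfl⟩ := AlgSpace.surjective_ofPt hps z
      exact ⟨t, hi t⟩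
  haveI : IsIso ψ.inv.hom := inferInstanceAs (IsIso ((sheafToPresheaf (AlgSp.J S) (Type (u + 1))).map ψ.inv))
  exact ⟨H, BasedFunctor.comp (BasedFunctor.comp e' (AlgSt.ofSpMap ψ.inv)) (AlgSt.toOverCat H),
    isEquivOver_comp (isEquivOver_comp he' (ofPshMap_isEquivOver ψ.inv.hom)) (toOverCat_isEquivOver H)⟩

end Groth.Agent.StAlg16
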