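import Groth.Agent.Lib.StAlg.Descent
import Groth.Prelude.Def_AlgSt4

/-! Points of categories over `(Sch/S)`: the relation, functoriality, points of fibre products. -/

universe v₄ u₄ v₃ u₃ v₂ u₂ u

open CategoryTheory CategoryTheory.Functor CategoryTheory.Limits AlgebraicGeometry Opposite

set_option linter.style.haveILetI false
set_option linter.unusedSectionVars false
set_option backward.isDefEq.respectTransparency false
set_option backward.isDefEq.respectTransparency.types false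

namespace Groth.Agent.StAlg16

open Groth.Agent.FC16 Groth.Agent.StAlg AlgSt

variable {S : Scheme.{u}} {𝒳 : BasedCategory.{v₂, u₂} (Over S)} {𝒴 : BasedCategory.{v₃, u₃} (Over S)}
  {𝒵 : BasedCategory.{v₄, u₄} (Over S)}

/-- the morphism of bases under a morphism between field-valued points -/
noncomputable def baseHom {p q : FPt 𝒳} (α : p.obj ⟶ q.obj) : Over.mk p.str ⟶ Over.mk q.str :=
  eqToHom p.lies.symm ≫ 𝒳.p.map α ≫ eqToHom q.lies

theorem baseHom_lift {p q : FPt 𝒳} (α : p.obj ⟶ q.obj) : 𝒳.p.IsHomLift (baseHom α) α :=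
  IsHomLift.of_fac' 𝒳.p _ _ p.lies q.lies (by simp [baseHom])

theorem rel_trans (h : FibCat.IsFibGrpd 𝒳.p) {p q r : FPt 𝒳} : FPt.Rel p q → FPt.Rel q r → FPt.Rel p r := by
  rintro ⟨a, α₁, α₂, -⟩ ⟨b, β₁, β₂, -⟩
  haveI := baseHom_lift α₂
  haveI := baseHom_lift β₁
  obtain ⟨Ω, _, i₁, i₂, hi⟩ :=
    AlgSp.FieldPt.exists_amalgamation (Spec.preimage (baseHom α₂).left).hom (Spec.preimage (baseHom β₁).left).hom
  have hL : Spec.map (CommRingCat.ofHom i₁) ≫ (baseHom α₂).left =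
      Spec.map (CommRingCat.ofHom i₂) ≫ (baseHom β₁).left := by
    conv_lhs => rw [← Spec.map_preimage (baseHom α₂).left]
    conv_rhs => rw [← Spec.map_preimage (baseHom β₁).left]
    rw [← Spec.map_comp, ← Spec.map_comp]
    congr 1
    exact CommRingCat.hom_ext hi
  let w : Spec (CommRingCat.of Ω) ⟶ S := Spec.map (CommRingCat.ofHom i₁) ≫ a.str
  let d₁ : Over.mk w ⟶ Over.mk a.str := Over.homMk (Spec.map (CommRingCat.ofHom i₁)) rfl
  have e₁ : (baseHom α₂).left ≫ q.str = a.str := Over.w (baseHom α₂)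
  have e₂ : (baseHom β₁).left ≫ q.str = b.str := Over.w (baseHom β₁)
  have hw : Spec.map (CommRingCat.ofHom i₂) ≫ b.str = w := by
    change _ = Spec.map (CommRingCat.ofHom i₁) ≫ a.str
    rw [← e₁, ← e₂, ← Category.assoc, ← Category.assoc, hL]
  let d₂ : Over.mk w ⟶ Over.mk b.str := Over.homMk (Spec.map (CommRingCat.ofHom i₂)) hw
  have hd : d₂ ≫ baseHom β₁ = d₁ ≫ baseHom α₂ := Over.OverMorphism.ext (by simpa [d₁, d₂] using hL.symm)
  obtain ⟨a', φ, hφ⟩ := FC16.exists_lift h a.lies d₁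
  obtain ⟨b', ψ, hψ⟩ := FC16.exists_lift h b.lies d₂
  haveI := hφ; haveI := hψ
  haveI : 𝒳.p.IsHomLift (d₁ ≫ baseHom α₂) (ψ ≫ β₁) := hd ▸ inferInstance
  obtain ⟨e, -, -⟩ := exists_iso_of_lifts h (d₁ ≫ baseHom α₂) (φ ≫ α₂) (ψ ≫ β₁)
  let o : FPt 𝒳 := { K := Ω, str := w, obj := a', lies := IsHomLift.domain_eq 𝒳.p d₁ φ }
  exact ⟨o, φ ≫ α₁, e.hom ≫ ψ ≫ β₂, trivial⟩

theorem rel_equivalence (h : FibCat.IsFibGrpd 𝒳.p) : _root_.Equivalence (@FPt.Rel S 𝒳) :=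
  ⟨fun p => ⟨p, 𝟙 _, 𝟙 _, trivial⟩, fun ⟨r, a, b, _⟩ => ⟨r, b, a, trivial⟩, rel_trans h⟩

theorem rel_of_mk_eq (h : FibCat.IsFibGrpd 𝒳.p) {p q : FPt 𝒳} (e : Points.mk p = Points.mk q) : FPt.Rel p q :=
  (rel_equivalence h).quot_mk_eq_iff p q |>.1 e

theorem map_eq_map_of_iso {f g : 𝒳 ⥤ᵇ 𝒴} (e : f ≅ g) : Points.map f = Points.map g := by
  funext x
  obtain ⟨p, rfl⟩ := Points.mk_surjective x
  exact Points.sound ⟨p.map f, 𝟙 _, (appIso e p.obj).hom, trivial⟩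

theorem map_comp_apply (f : 𝒳 ⥤ᵇ 𝒴) (g : 𝒴 ⥤ᵇ 𝒵) (x : Points 𝒳) :
    Points.map (BasedFunctor.comp f g) x = Points.map g (Points.map f x) := by
  obtain ⟨p, rfl⟩ := Points.mk_surjective x
  rfl

theorem map_id_apply (x : Points 𝒳) : Points.map (BasedFunctor.id 𝒳) x = x := by
  obtain ⟨p, rfl⟩ := Points.mk_surjective x
  rfl

theorem map_bijective {f : 𝒳 ⥤ᵇ 𝒴} (hf : FibCat.IsEquivOver f) : Function.Bijective (Points.map f) := by
  obtain ⟨g, hg, ⟨e₁⟩, ⟨e₂⟩⟩ := exists_inverse hf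
  refine Function.bijective_iff_has_inverse.2 ⟨Points.map g, fun x => ?_, fun y => ?_⟩
  · rw [← map_comp_apply, map_eq_map_of_iso e₁, map_id_apply]
  · rw [← map_comp_apply, map_eq_map_of_iso e₂, map_id_apply]

/-- a point on either side with the same image gives a point of the fibre product -/
theorem exists_fp_point (h𝒳 : FibCat.IsFibGrpd 𝒳.p) (h𝒴 : FibCat.IsFibGrpd 𝒴.p) (h𝒵 : FibCat.IsFibGrpd 𝒵.p)
    (f : 𝒳 ⥤ᵇ 𝒴) (g : 𝒵 ⥤ᵇ 𝒴) (z : Points 𝒵) (x : Points 𝒳) (h : Points.map g z = Points.map f x) :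
    ∃ w : Points (FibCat.fp g f),
      Points.map (FibCat.fpFst g f) w = z ∧ Points.map (FibCat.fpSnd g f) w = x := by
  obtain ⟨p, rfl⟩ := Points.mk_surjective z
  obtain ⟨q, rfl⟩ := Points.mk_surjective x
  obtain ⟨r, α, β, -⟩ := rel_of_mk_eq h𝒴 h
  haveI := baseHom_lift (p := r) (q := p.map g) α
  haveI := baseHom_lift (p := r) (q := q.map f) β
  obtain ⟨z', φ, hφ⟩ := FC16.exists_lift h𝒵 p.lies (baseHom (p := r) (q := p.map g) α)
  obtain ⟨x', ψ, hψ⟩ := FC16.exists_lift h𝒳 q.lies (baseHom (p := r) (q := q.map f) β)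
  haveI := hφ; haveI := hψ
  haveI : 𝒴.p.IsHomLift (baseHom (p := r) (q := p.map g) α) (g.map φ) := BasedFunctor.preserves_isHomLift g _ φ
  haveI : 𝒴.p.IsHomLift (baseHom (p := r) (q := q.map f) β) (f.map ψ) := BasedFunctor.preserves_isHomLift f _ ψ
  obtain ⟨e₁, he₁, -⟩ := exists_iso_of_lifts h𝒴 (baseHom (p := r) (q := p.map g) α) (g.map φ) α
  obtain ⟨e₂, he₂, -⟩ := exists_iso_of_lifts h𝒴 (baseHom (p := r) (q := q.map f) β) β (f.map ψ)
  have hz : 𝒵.p.obj z' = Over.mk r.str := IsHomLift.domain_eq 𝒵.p (baseHom (p := r) (q := p.map g) α) φ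
  haveI := he₁; haveI := he₂
  let A : (FibCat.fp g f).obj := fpObj z' x' (e₁ ≪≫ e₂) (U := Over.mk r.str) hz
    (inferInstanceAs (𝒴.p.IsHomLift (𝟙 (Over.mk r.str)) (e₁.hom ≫ e₂.hom)))
  let w : FPt (FibCat.fp g f) := { K := r.K, str := r.str, obj := A, lies := hz }
  exact ⟨Points.mk w, Points.sound ⟨w.map (FibCat.fpFst g f), 𝟙 _, φ, trivial⟩,
    Points.sound ⟨w.map (FibCat.fpSnd g f), 𝟙 _, ψ, trivial⟩⟩

theorem isSurjective_fpFst (h𝒳 : FibCat.IsFibGrpd 𝒳.p) (h𝒴 : FibCat.IsFibGrpd 𝒴.p) (h𝒵 : FibCat.IsFibGrpd 𝒵.p)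
    {f : 𝒳 ⥤ᵇ 𝒴} (g : 𝒵 ⥤ᵇ 𝒴) (hf : IsSurjective f) : IsSurjective (FibCat.fpFst g f) := fun z => by
  obtain ⟨x, hx⟩ := hf (Points.map g z)
  obtain ⟨w, hw, -⟩ := exists_fp_point h𝒳 h𝒴 h𝒵 f g z x hx.symm
  exact ⟨w, hw⟩

end Groth.Agent.StAlg16
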