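import Groth.Agent.Lib.StAlg16.SpectralQuot
import Groth.Agent.Lib.StAlg16.QSBase
import Groth.Agent.Lib.StAlg16.Squares
import Mathlib.RingTheory.Spectrum.Prime.Topology

/-! Spectral neighbourhoods in the space of points of a stack with quasi-compact diagonal. -/

universe u

open CategoryTheory CategoryTheory.Functor CategoryTheory.Limits AlgebraicGeometry Opposite

set_option linter.style.haveILetI false
set_option backward.isDefEq.respectTransparency false
set_option backward.isDefEq.respectTransparency.types false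

namespace Groth.Agent.StAlg16

open Groth.Agent.FC16 Groth.Agent.StAlg AlgSt

variable {S : Scheme.{u}}

theorem spectralSpace_affine (X : Scheme.{u}) [IsAffine X] : SpectralSpace X := by
  haveI : SpectralSpace ↥(Spec Γ(X, ⊤)) := inferInstanceAs (SpectralSpace (PrimeSpectrum Γ(X, ⊤)))
  exact X.isoSpec.hom.homeomorph.isOpenEmbedding.spectralSpace

theorem spectralSpace_range_ofChart [QuasiSeparatedSpace S] {𝒳 : AlgSt.Cat S}
    (h𝒳 : AlgSt.IsAlgStack Scheme.fppfPrecoverage 𝒳)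
    (hΔ : AlgSt.RepByAlgSpWith AlgSp.IsQuasiCompactMor (FibCat.diag (FibCat.toSelf 𝒳)))
    {U : Over S} [IsAffine U.left] (x : FibCat.overCat U ⥤ᵇ 𝒳) (ho : IsOpenMap (Points.ofChart x)) :
    SpectralSpace (Set.range (Points.ofChart x)) := by
  have hU := isAlgStack_overCat U
  have hqU : AlgSt.IsQuasiCompact (FibCat.overCat U) :=
    (isQuasiCompact_iff hU).2 (compactSpace_of_chart hU (BasedFunctor.id _) fun z =>
      ⟨ptOf z, by rw [ofChart_eq, mk_chartPt_ptOf, map_id_apply]⟩)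
  have hR : AlgSt.IsQuasiCompact (FibCat.fp x x) := isQuasiCompactMor_of_qc_of_qs hU h𝒳 x hqU hΔ _ hU hqU x
  obtain ⟨W, c, hW, -, hcs⟩ := hR
  haveI := hW
  obtain ⟨k₁, ⟨j₁⟩⟩ := exists_overMap_iso (BasedFunctor.comp c (FibCat.fpFst x x))
  obtain ⟨k₂, ⟨j₂⟩⟩ := exists_overMap_iso (BasedFunctor.comp c (FibCat.fpSnd x x))
  haveI := spectralSpace_affine U.left
  haveI := spectralSpace_affine W.left
  have hcs' := surjective_ofChart (isAlgStack_fp' hU hU h𝒳 x x).isStack.1 hcs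
  have hk₁ : ∀ w : W.left, Points.map (FibCat.fpFst x x) (Points.ofChart c w) =
      Points.mk (chartPt U (k₁.left w)) := fun w => by
    rw [ofChart_eq, ← map_comp_apply, map_eq_map_of_iso j₁, map_overMap_chartPt]
  have hk₂ : ∀ w : W.left, Points.map (FibCat.fpSnd x x) (Points.ofChart c w) =
      Points.mk (chartPt U (k₂.left w)) := fun w => by
    rw [ofChart_eq, ← map_comp_apply, map_eq_map_of_iso j₂, map_overMap_chartPt]
  refine spectralSpace_of_openQuotient (Set.rangeFactorization (Points.ofChart x))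
    ((continuous_ofChart h𝒳 x).subtype_mk _) (fun O hO => ?_) Set.rangeFactorization_surjective
    k₁.left k₂.left (Scheme.Hom.isSpectralMap k₁.left) (Scheme.Hom.isSpectralMap k₂.left) fun a b => ?_
  · have e : Set.rangeFactorization (Points.ofChart x) '' O = Subtype.val ⁻¹' (Points.ofChart x '' O) := by
      ext ⟨z, hz⟩
      exact ⟨fun ⟨a, ha, e⟩ => ⟨a, ha, congrArg Subtype.val e⟩, fun ⟨a, ha, e⟩ => ⟨a, ha, Subtype.ext e⟩⟩
    rw [e]
    exact (ho O hO).preimage continuous_subtype_val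
  rw [Set.rangeFactorization, Subtype.ext_iff]
  change Points.ofChart x a = Points.ofChart x b ↔ _
  constructor
  · intro h
    obtain ⟨z, hz₁, hz₂⟩ := exists_fp_point (overCat_isFibGrpd U) h𝒳.isStack.1 (overCat_isFibGrpd U) x x
      (Points.mk (chartPt U a)) (Points.mk (chartPt U b)) (by rw [← ofChart_eq, ← ofChart_eq, h])
    obtain ⟨w, rfl⟩ := hcs' z
    refine ⟨w, ?_, ?_⟩
    · rw [hk₁] at hz₁
      rw [← ptOf_chartPt (U := U) (k₁.left w), hz₁, ptOf_chartPt]
    · rw [hk₂] at hz₂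
      rw [← ptOf_chartPt (U := U) (k₂.left w), hz₂, ptOf_chartPt]
  · rintro ⟨w, rfl, rfl⟩
    rw [ofChart_eq, ofChart_eq, ← hk₁, ← hk₂, ← map_comp_apply, ← map_comp_apply,
      map_eq_map_of_iso (FibCat.fpIso x x)]

theorem exists_spectral_nhd [QuasiSeparatedSpace S] {𝒳 : AlgSt.Cat S}
    (h𝒳 : AlgSt.IsAlgStack Scheme.fppfPrecoverage 𝒳)
    (hΔ : AlgSt.RepByAlgSpWith AlgSp.IsQuasiCompactMor (FibCat.diag (FibCat.toSelf 𝒳))) (z : Points 𝒳) :
    ∃ V : Set (Points 𝒳), IsOpen V ∧ z ∈ V ∧ SpectralSpace V := by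
  obtain ⟨U, x, hsm, hsu⟩ := h𝒳.atlas
  obtain ⟨t, rfl⟩ := surjective_ofChart h𝒳.isStack.1 hsu z
  obtain ⟨_, ⟨A, hA, rfl⟩, ht, -⟩ :=
    U.left.isBasis_affineOpens.exists_subset_of_mem_open (Set.mem_univ t) isOpen_univ
  let A' : U.left.Opens := A
  haveI : IsAffine (Over.mk (A'.ι ≫ U.hom)).left := hA
  let k : Over.mk (A'.ι ≫ U.hom) ⟶ U := Over.homMk A'.ι
  have hsm' := with_comp goodP_locP (overCat_isFibGrpd _) (overCat_isFibGrpd _)
    (with_locP_overMap (P := @Smooth) k (inferInstanceAs (Smooth A'.ι))) hsm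
  have ho := isOpenMap_ofChart h𝒳.isStack.1 (with_locP_mono smooth_le_flat hsm')
    (with_locP_mono smooth_le_lfp hsm')
  refine ⟨_, ho.isOpen_range, ⟨⟨t, ht⟩, ?_⟩, spectralSpace_range_ofChart h𝒳 hΔ _ ho⟩
  rw [ofChart_overMap]
  rfl

theorem quasiSober_t0_of_qc_diag [QuasiSeparatedSpace S] {𝒳 : AlgSt.Cat S}
    (h𝒳 : AlgSt.IsAlgStack Scheme.fppfPrecoverage 𝒳)
    (hΔ : AlgSt.RepByAlgSpWith AlgSp.IsQuasiCompactMor (FibCat.diag (FibCat.toSelf 𝒳))) :
    QuasiSober (Points 𝒳) ∧ T0Space (Points 𝒳) := by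
  choose V hV hzV hs using exists_spectral_nhd h𝒳 hΔ
  refine ⟨?_, T0Space.of_open_cover fun z => ⟨V z, hzV z, hV z, (hs z).toT0Space⟩⟩
  haveI : ∀ s : Set.range V, QuasiSober (s : Set (Points 𝒳)) := by
    rintro ⟨_, z, rfl⟩
    exact (hs z).toQuasiSober
  exact quasiSober_of_open_cover (Set.range V) (by rintro ⟨_, z, rfl⟩; exact hV z)
    (Set.eq_univ_of_forall fun z => ⟨V z, ⟨z, rfl⟩, hzV z⟩)

end Groth.Agent.StAlg16
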