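import Groth.Agent.Lib.PtSet.Spectral

/-! Open quotients of spectral spaces by spectral relations. -/

open Set Topology TopologicalSpace

universe u

namespace Groth.Agent.StAlg16

open Groth.Agent.PtSet

variable {U W X : Type*} [TopologicalSpace U] [TopologicalSpace W] [TopologicalSpace X]

/-- The image of a spectral space under an open map whose equivalence relation is the image of a
spectral space under spectral maps is spectral. -/
theorem spectralSpace_of_openQuotient [SpectralSpace U] [SpectralSpace W] (π : U → X) (hc : Continuous π)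
    (ho : IsOpenMap π) (hs : Function.Surjective π) (q₁ q₂ : W → U) (h₁ : IsSpectralMap q₁)
    (h₂ : IsSpectralMap q₂) (hrel : ∀ a b, π a = π b ↔ ∃ w, q₁ w = a ∧ q₂ w = b) : SpectralSpace X := by
  have hsat : ∀ O : Set U, π ⁻¹' (π '' O) = q₂ '' (q₁ ⁻¹' O) := by
    intro O
    ext b
    constructor
    · rintro ⟨a, ha, e⟩
      obtain ⟨w, rfl, hw⟩ := (hrel a b).1 e
      exact ⟨w, ha, hw⟩
    · rintro ⟨w, hw, rfl⟩
      exact ⟨q₁ w, hw, (hrel _ _).2 ⟨w, rfl, rfl⟩⟩
  have horb : ∀ u : U, IsClosed (toPatch (π ⁻¹' {π u})) := by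
    intro u
    rw [← image_singleton, hsat]
    refine isClosed_toPatch_image h₂ (isClosed_toPatch_preimage h₁ ?_)
    have : toPatch ({u} : Set U) = {WithTopology.toTopology _ u} := by
      ext a
      exact ⟨fun h => WithTopology.ofTopology_injective _ h, fun h => by rw [h]; rfl⟩
    rw [this]
    exact isClosed_singleton
  have : T0Space X := by
    refine ⟨fun x y hxy => ?_⟩
    obtain ⟨u, rfl⟩ := hs x
    obtain ⟨v, rfl⟩ := hs y
    have hsub : ∀ a b : U, Inseparable (π a) (π b) → π ⁻¹' {π b} ⊆ closure (π ⁻¹' {π a}) := by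
      intro a b h b' hb'
      rw [mem_closure_iff]
      intro O hO hbO
      obtain ⟨a', ha', e⟩ := (h.symm.mem_open_iff (ho O hO)).1 ⟨b', hbO, hb'⟩
      exact ⟨a', ha', e⟩
    have hcl : closure (π ⁻¹' {π u}) = closure (π ⁻¹' {π v}) :=
      subset_antisymm (closure_minimal (hsub v u hxy.symm) isClosed_closure)
        (closure_minimal (hsub u v hxy) isClosed_closure)
    obtain ⟨Z, hZ, huZ⟩ : ∃ Z ∈ irreducibleComponents (closure (π ⁻¹' {π u}) : Set U),
        (⟨u, subset_closure rfl⟩ : closure (π ⁻¹' {π u})) ∈ Z :=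
      ⟨_, irreducibleComponent_mem_irreducibleComponents _, mem_irreducibleComponent⟩
    haveI : QuasiSober (closure (π ⁻¹' {π u}) : Set U) :=
      isClosed_closure.isClosedEmbedding_subtypeVal.quasiSober
    have hZc := isClosed_of_mem_irreducibleComponents _ hZ
    obtain ⟨g, hg⟩ := QuasiSober.sober hZ.1 hZc
    have key : ∀ w : U, closure (π ⁻¹' {π u}) = closure (π ⁻¹' {π w}) → π g.1 = π w := by
      intro w hw
      obtain ⟨o, ho', hog⟩ := exists_specializes_of_mem_closure (horb w) (show g.1 ∈ closure (π ⁻¹' {π w}) from hw.le g.2)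
      let o' : closure (π ⁻¹' {π u}) := ⟨o, hw.ge (subset_closure ho')⟩
      have hsp : o' ⤳ g := (IsInducing.subtypeVal.specializes_iff).1 hog
      have hirr : IsIrreducible (closure ({o'} : Set (closure (π ⁻¹' {π u})))) :=
        isIrreducible_singleton.closure
      have hle : Z ⊆ closure {o'} := by
        rw [← hg.def]
        exact closure_minimal (singleton_subset_iff.2 (specializes_iff_mem_closure.1 hsp)) isClosed_closure
      have hgo : g = o' := by
        have e : closure {o'} = closure {g} := (subset_antisymm (hZ.2 hirr hle) hle).trans hg.def.symm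
        exact ((specializes_iff_closure_subset.2 e.le).antisymm (specializes_iff_closure_subset.2 e.ge)).eq
      rw [hgo]
      exact ho'
    exact (key u rfl).symm.trans (key v hcl)
  refine spectralSpace_of_patch (p := fun a : WithConstructibleTopology U => π a.ofTopology)
    (hs.comp (WithTopology.ofTopology_surjective _))
    (B := {V | ∃ O : Set U, (IsOpen O ∧ IsCompact O) ∧ V = π '' O}) ?_ ?_
  · refine isTopologicalBasis_of_isOpen_of_nhds ?_ fun x O hx hO => ?_
    · rintro _ ⟨O, hO, rfl⟩
      exact ho O hO.1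
    · obtain ⟨u, rfl⟩ := hs x
      obtain ⟨V, hV, huV, hVO⟩ :=
        PrespectralSpace.isTopologicalBasis.exists_subset_of_mem_open (show u ∈ π ⁻¹' O from hx) (hO.preimage hc)
      exact ⟨_, ⟨V, hV, rfl⟩, ⟨u, huV, rfl⟩, image_subset_iff.2 hVO⟩
  · rintro _ ⟨O, hO, rfl⟩
    refine isClopen_toPatch ((ho O hO.1).preimage hc) ?_
    rw [hsat]
    exact (h₁.isCompact_preimage_of_isOpen hO.1 hO.2).image h₂.toContinuous

end Groth.Agent.StAlg16
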