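import Groth.Agent.Lib.AlgSpace.Glue
import Groth.Agent.Lib.Quot16.Factor
import Groth.Agent.Lib.StAlg16.LocPInst
import Groth.Prelude.Def_StCoarse

/-! Uniform categorical moduli spaces, tested on flat affine base changes. -/

universe u

open CategoryTheory CategoryTheory.Functor CategoryTheory.Limits AlgebraicGeometry Opposite

set_option linter.style.haveILetI false
set_option backward.isDefEq.respectTransparency false
set_option backward.isDefEq.respectTransparency.types false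

namespace Groth.Agent.StAlg16.UnifModuli

open Groth.Agent.FC16 Groth.Agent.StAlg AlgSt

variable {S : Scheme.{u}} {𝒳 : AlgSt.Cat S} {Y M N : AlgSp.Sp S} {g : M ⟶ Y} {f : 𝒳 ⥤ᵇ ofSp Y}

/-- `χ` is the factorisation of `φ` over the test scheme `h`. -/
def Char (φ : FibCat.fp (ofSpMap g) f ⥤ᵇ ofSp N) {T : Over S} (h : (AlgSp.yon S).obj T ⟶ M)
    (χ : (AlgSp.yon S).obj T ⟶ N) : Prop :=
  ∀ (Q : (FibCat.fp (ofSpMap g) f).obj) (t : ((AlgSp.yon S).obj T).obj.obj (op ((FibCat.fp (ofSpMap g) f).p.obj Q))),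
    pval (FibCat.fpFst (ofSpMap g) f) Q = h.hom.app _ t → pval φ Q = χ.hom.app _ t

theorem char_comp {φ : FibCat.fp (ofSpMap g) f ⥤ᵇ ofSp N} {T T' : Over S} {h : (AlgSp.yon S).obj T ⟶ M}
    {χ : (AlgSp.yon S).obj T ⟶ N} (hχ : Char φ h χ) (v : T' ⟶ T) :
    Char φ ((AlgSp.yon S).map v ≫ h) ((AlgSp.yon S).map v ≫ χ) :=
  fun Q t ht => hχ Q (((AlgSp.yon S).map v).hom.app _ t) ht

/-- Base change along a test scheme. -/
noncomputable def res (g : M ⟶ Y) (f : 𝒳 ⥤ᵇ ofSp Y) {T : Over S} (h : (AlgSp.yon S).obj T ⟶ M) :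
    FibCat.fp (ofSpMap (h ≫ g)) f ⥤ᵇ FibCat.fp (ofSpMap g) f :=
  FibCat.fpLift (BasedFunctor.comp (FibCat.fpFst (ofSpMap (h ≫ g)) f) (ofSpMap h))
    (FibCat.fpSnd (ofSpMap (h ≫ g)) f)
    ((eqToIso (by rfl) : BasedFunctor.comp (BasedFunctor.comp (FibCat.fpFst (ofSpMap (h ≫ g)) f) (ofSpMap h))
        (ofSpMap g) ≅ BasedFunctor.comp (FibCat.fpFst (ofSpMap (h ≫ g)) f) (ofSpMap (h ≫ g))) ≪≫
      FibCat.fpIso (ofSpMap (h ≫ g)) f)

theorem pval_fst (Q : (FibCat.fp (ofSpMap g) f).obj) :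
    pval (FibCat.fpFst (ofSpMap g) f) Q = Q.obj.fst.sec := by
  unfold pval
  show M.obj.map (eqToHom rfl).op Q.obj.fst.sec = _
  simp

theorem existsUnique_char (φ : FibCat.fp (ofSpMap g) f ⥤ᵇ ofSp N) (hN : AlgSp.IsAlgSpace N) {T : Over S}
    (h : (AlgSp.yon S).obj T ⟶ M) (hT : IsCatModuli (FibCat.fpFst (ofSpMap (h ≫ g)) f)) :
    ∃! χ : (AlgSp.yon S).obj T ⟶ N, Char φ h χ := by
  obtain ⟨χ, ⟨iχ⟩, hu⟩ := hT.2 N hN (BasedFunctor.comp (res g f h) φ)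
  refine ⟨χ, fun Q t ht => ?_, fun χ' hχ' => hu χ' ⟨eqToIso ?_⟩⟩
  · let z : (ofSp ((AlgSp.yon S).obj T)).obj := ⟨(FibCat.fp (ofSpMap g) f).p.obj Q, t⟩
    have hz : (ofSpMap (h ≫ g)).obj z = (ofSpMap g).obj Q.obj.fst := by
      show (⟨_, g.hom.app _ (h.hom.app _ t)⟩ : (ofSp Y).obj) = ⟨_, g.hom.app _ Q.obj.fst.sec⟩
      rw [← ht, pval_fst]
      rfl
    have hl : (ofSp Y).p.IsHomLift (𝟙 ((FibCat.fp (ofSpMap g) f).p.obj Q)) Q.obj.iso.hom := Q.property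
    haveI := hl
    haveI : (ofSp Y).p.IsHomLift (𝟙 ((FibCat.fp (ofSpMap g) f).p.obj Q)) (eqToHom hz) :=
      IsHomLift.eqToHom_domain_lift_id hz rfl
    let P : (FibCat.fp (ofSpMap (h ≫ g)) f).obj :=
      fpObj z Q.obj.snd (eqToIso hz ≪≫ Q.obj.iso) (U := (FibCat.fp (ofSpMap g) f).p.obj Q) rfl
        (inferInstanceAs ((ofSp Y).p.IsHomLift _ (eqToHom hz ≫ Q.obj.iso.hom)))
    let m : (res g f h).obj P ⟶ Q := fpHom
      (⟨𝟙 ((FibCat.fp (ofSpMap g) f).p.obj Q), by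
        show M.obj.map (𝟙 _ : (FibCat.fp (ofSpMap g) f).p.obj Q ⟶ _).op Q.obj.fst.sec = h.hom.app _ t
        rw [← ht, pval_fst, op_id, Functor.map_id_apply]⟩)
      (𝟙 Q.obj.snd) (by
        apply Stk.EltObj.hom_ext
        show 𝟙 _ ≫ Q.obj.iso.hom.hom = ((((𝟙 _ : _ ⟶ _) ≫ (eqToIso hz ≪≫ Q.obj.iso).hom)) ≫ f.map (𝟙 Q.obj.snd)).hom
        rw [CategoryTheory.Functor.map_id, Category.comp_id, Category.id_comp, Category.id_comp]
        show Q.obj.iso.hom.hom = (ofSp Y).p.map (eqToHom hz ≫ Q.obj.iso.hom)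
        rw [Functor.map_comp, eqToHom_map, eqToHom_refl, Category.id_comp]
        rfl)
    have e := pval_nat φ m
    have e' := pval_hom iχ.hom P
    rw [pval_ofPshMap] at e'
    have e₀ : pval (FibCat.fpFst (ofSpMap (h ≫ g)) f) P = t := pval_fst P
    rw [e₀] at e'
    refine Eq.trans ?_ e'.symm
    refine Eq.trans ?_ e
    show _ = N.obj.map (𝟙 ((FibCat.fp (ofSpMap g) f).p.obj Q)).op _
    simp
  · refine Quot16.ofPsh_functor_ext _ _ fun P => ?_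
    rw [pval_ofPshMap]
    refine (hχ' ((res g f h).obj P) (pval (FibCat.fpFst (ofSpMap (h ≫ g)) f) P) ?_).symm
    rw [pval_fst, pval_fst]
    rfl

/-- sections of a sheaf agreeing on a covering sieve agree -/
theorem sheaf_ext {U : Over S} {a b : N.obj.obj (op U)} (R : Sieve U) (hR : R ∈ AlgSp.J S U)
    (h : ∀ ⦃W : Over S⦄ (v : W ⟶ U), R v → N.obj.map v.op a = N.obj.map v.op b) : a = b :=
  ((((isSheaf_iff_isSheaf_of_type _ _).1 N.property) R hR).isSeparatedFor).ext h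

theorem char_of_locally (hG : FibCat.IsFibGrpd (FibCat.fp (ofSpMap g) f).p)
    {φ : FibCat.fp (ofSpMap g) f ⥤ᵇ ofSp N} {T : Over S} {h : (AlgSp.yon S).obj T ⟶ M}
    {χ : (AlgSp.yon S).obj T ⟶ N}
    (hloc : ∀ (U : Over S) (t : ((AlgSp.yon S).obj T).obj.obj (op U)), ∃ R ∈ AlgSp.J S U,
      ∀ ⦃W : Over S⦄ (v : W ⟶ U), R v → ∃ (T' : Over S) (a : T' ⟶ T)
        (t' : ((AlgSp.yon S).obj T').obj.obj (op W)),
        ((AlgSp.yon S).map a).hom.app _ t' = ((AlgSp.yon S).obj T).obj.map v.op t ∧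
        Char φ ((AlgSp.yon S).map a ≫ h) ((AlgSp.yon S).map a ≫ χ)) : Char φ h χ := by
  intro Q t ht
  obtain ⟨R, hR, hR'⟩ := hloc _ t
  refine sheaf_ext R hR fun W v hv => ?_
  obtain ⟨Q', m, hm⟩ := hG.exists_lift v
  obtain rfl : W = (FibCat.fp (ofSpMap g) f).p.obj Q' :=
    (IsHomLift.domain_eq (FibCat.fp (ofSpMap g) f).p v m).symm
  obtain rfl : v = (FibCat.fp (ofSpMap g) f).p.map m :=
    IsHomLift.eq_of_isHomLift (FibCat.fp (ofSpMap g) f).p v m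
  obtain ⟨T', a, t', ht', hc⟩ := hR' _ hv
  have e := hc Q' t' (by
    show _ = h.hom.app _ (((AlgSp.yon S).map a).hom.app _ t')
    rw [ht', ← pval_nat, ht]
    exact (NatTrans.naturality_apply h.hom _ t).symm)
  rw [pval_nat, e]
  show χ.hom.app _ (((AlgSp.yon S).map a).hom.app _ t') = _
  rw [ht']
  exact NatTrans.naturality_apply χ.hom _ t

theorem flat_comp (hY : AlgSp.IsAlgSpace Y) {T' T : Over S} (v : T' ⟶ T) [Flat v.left]
    {h : (AlgSp.yon S).obj T ⟶ M} (hh : AlgSp.LocP @Flat (h ≫ g)) :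
    AlgSp.LocP @Flat (((AlgSp.yon S).map v ≫ h) ≫ g) := by
  rw [Category.assoc]
  exact AlgSpace.locP_comp (AlgSp.IsAlgSpace.yon_obj _) (AlgSp.IsAlgSpace.yon_obj _) hY
    ((locP_yon_iff v).2 inferInstance) hh

variable (hf : ∀ (T : Over S), IsAffine T.left → ∀ (k : (AlgSp.yon S).obj T ⟶ Y), AlgSp.LocP @Flat k →
  IsCatModuli (FibCat.fpFst (ofSpMap k) f))

include hf in
theorem char_ext {φ : FibCat.fp (ofSpMap g) f ⥤ᵇ ofSp N} (hN : AlgSp.IsAlgSpace N) (hY : AlgSp.IsAlgSpace Y)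
    {T : Over S} {h : (AlgSp.yon S).obj T ⟶ M} (hh : AlgSp.LocP @Flat (h ≫ g))
    {χ χ' : (AlgSp.yon S).obj T ⟶ N} (c : Char φ h χ) (c' : Char φ h χ') : χ = χ' := by
  refine AlgSpace.hom_ext_glue (κ := {B : T.left.Opens // IsAffineOpen B})
    (T' := fun k => Over.mk (k.1.ι ≫ T.hom))
    (fun k => Over.homMk k.1.ι rfl) (fun k => inferInstanceAs (IsOpenImmersion k.1.ι))
    (fun t => by
      obtain ⟨B, hB, htB, -⟩ := exists_isAffineOpen_mem_and_subset (X := T.left) (x := t) (U := ⊤) trivial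
      exact ⟨⟨B, hB⟩, ⟨t, htB⟩, rfl⟩) fun k => ?_
  let u : Over.mk (k.1.ι ≫ T.hom) ⟶ T := Over.homMk k.1.ι rfl
  haveI : Flat u.left := inferInstanceAs (Flat k.1.ι)
  exact (existsUnique_char φ hN _ (hf (Over.mk (k.1.ι ≫ T.hom)) k.2 _ (flat_comp hY u hh))).unique (char_comp c u) (char_comp c' u)

include hf in
theorem exists_glue (hG : FibCat.IsFibGrpd (FibCat.fp (ofSpMap g) f).p)
    (φ : FibCat.fp (ofSpMap g) f ⥤ᵇ ofSp N) (hN : AlgSp.IsAlgSpace N) (hY : AlgSp.IsAlgSpace Y)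
    {T : Over S} (h : (AlgSp.yon S).obj T ⟶ M) (hh : AlgSp.LocP @Flat (h ≫ g)) :
    ∃ χ : (AlgSp.yon S).obj T ⟶ N, Char φ h χ := by
  let κ := {B : T.left.Opens // IsAffineOpen B}
  let T' : κ → Over S := fun k => Over.mk (k.1.ι ≫ T.hom)
  let π : ∀ k, T' k ⟶ T := fun k => Over.homMk k.1.ι rfl
  have hπ : ∀ k, IsOpenImmersion (π k).left := fun k => inferInstanceAs (IsOpenImmersion k.1.ι)
  have hc : ∀ t : ↥T.left, ∃ k v, (π k).left v = t := fun t => by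
    obtain ⟨B, hB, htB, -⟩ := exists_isAffineOpen_mem_and_subset (X := T.left) (x := t) (U := ⊤) trivial
    exact ⟨⟨B, hB⟩, ⟨t, htB⟩, rfl⟩
  choose l hl using fun k : κ => ((existsUnique_char φ hN ((AlgSp.yon S).map (π k) ≫ h)
    (by haveI := hπ k; exact hf (T' k) k.2 _ (flat_comp hY (π k) hh))).exists)
  have hcomp : ∀ i j (W : Over S) (a : W ⟶ T' i) (b : W ⟶ T' j), a ≫ π i = b ≫ π j →
      (AlgSp.yon S).map a ≫ l i = (AlgSp.yon S).map b ≫ l j := by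
    intro i j W a b hab
    haveI := hπ i
    haveI := hπ j
    let R : Over S := Over.mk (pullback.fst (π i).left (π j).left ≫ (T' i).hom)
    let r₁ : R ⟶ T' i := Over.homMk (pullback.fst (π i).left (π j).left) rfl
    let r₂ : R ⟶ T' j := Over.homMk (pullback.snd (π i).left (π j).left) (by
      show pullback.snd _ _ ≫ (T' j).hom = pullback.fst _ _ ≫ (T' i).hom
      rw [← Over.w (π i), ← Over.w (π j), pullback.condition_assoc])
    have h12 : r₁ ≫ π i = r₂ ≫ π j := Over.OverMorphism.ext pullback.condition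
    haveI : Flat r₁.left := inferInstanceAs (Flat (pullback.fst (π i).left (π j).left))
    have c₂ := char_comp (hl j) r₂
    rw [← Functor.map_comp_assoc, ← h12, Functor.map_comp_assoc] at c₂
    have key := char_ext hf hN hY (flat_comp hY r₁ (flat_comp hY (π i) hh)) (char_comp (hl i) r₁) c₂
    let q : W ⟶ R := Over.homMk (pullback.lift a.left b.left congr($(hab).left)) (by
      show pullback.lift _ _ _ ≫ pullback.fst _ _ ≫ (T' i).hom = W.hom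
      rw [pullback.lift_fst_assoc, Over.w a])
    have q₁ : q ≫ r₁ = a := Over.OverMorphism.ext (pullback.lift_fst ..)
    have q₂ : q ≫ r₂ = b := Over.OverMorphism.ext (pullback.lift_snd ..)
    rw [← q₁, ← q₂, Functor.map_comp, Functor.map_comp, Category.assoc, Category.assoc, key]
  obtain ⟨χ, hχ, -⟩ := AlgSpace.existsUnique_glue π hπ hc l hcomp
  refine ⟨χ, char_of_locally hG fun U t => ⟨_,
    (AlgSp.J S).pullback_stable t.down (AlgSpace.mem_J_of_openImmersions π hπ hc), fun W v hv => ?_⟩⟩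
  obtain ⟨_, a, _, ⟨k⟩, e⟩ := hv
  refine ⟨T' k, π k, ⟨a⟩, congrArg ULift.up e, ?_⟩
  rw [hχ k]
  exact hl k

include hf in
theorem isCatModuli_fpFst (h𝒳 : FibCat.IsFibGrpd 𝒳.p) (hY : AlgSp.IsAlgSpace Y) (hM : AlgSp.IsAlgSpace M)
    (hg : AlgSp.LocP @Flat g) : IsCatModuli (FibCat.fpFst (ofSpMap g) f) := by
  have hG : FibCat.IsFibGrpd (FibCat.fp (ofSpMap g) f).p :=
    fp_isFibGrpd (isStack_ofSp M).1 h𝒳 (isStack_ofSp Y).1 _ _
  refine ⟨hM, fun N hN φ => ?_⟩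
  obtain ⟨U, p, hpe, hps⟩ := hM.atlas
  have hU := AlgSp.IsAlgSpace.yon_obj U
  have hp : AlgSp.LocP @Flat (p ≫ g) := AlgSpace.locP_comp hU hM hY
    (AlgSpace.locP_of_repWith hM (AlgSpace.repWith_mono AlgSpace.etale_le_flat hpe)) hg
  obtain ⟨χ, hχ⟩ := exists_glue hf hG φ hN hY p hp
  have sq := hpe.1.isPullback p
  obtain ⟨r₁, hr₁⟩ := (AlgSp.yon S).map_surjective (hpe.1.fst p)
  rw [← hr₁] at sq
  let r₂ : hpe.1.pullback p ⟶ U := hpe.1.snd p
  haveI he₁ : Etale r₁.left := hpe.2 p _ _ sq.flip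
  have hR : (AlgSp.yon S).map r₁ ≫ χ = (AlgSp.yon S).map r₂ ≫ χ := by
    have c₂ := char_comp hχ r₂
    rw [← sq.w] at c₂
    exact char_ext hf hN hY (flat_comp hY r₁ hp) (char_comp hχ r₁) c₂
  haveI : Sheaf.IsLocallySurjective p := AlgSpace.isLocallySurjective_of_etale hpe hps
  haveI : Epi p := (CategoryTheory.Sheaf.isLocallySurjective_iff_epi _).1 ‹_›
  haveI : IsRegularEpi p := IsRegularEpiCategory.regularEpiOfEpi _
  have hc := IsKernelPair.toCoequalizer' (sq : IsKernelPair p _ _)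
  obtain ⟨ψ, hψ⟩ : ∃ ψ : M ⟶ N, p ≫ ψ = χ := ⟨_, Cofork.IsColimit.π_desc' hc χ hR⟩
  refine ⟨ψ, ⟨eqToIso (Quot16.ofPsh_functor_ext _ _ fun Q => ?_)⟩, fun ψ' hψ' => ?_⟩
  · rw [pval_ofPshMap]
    refine sheaf_ext _ (Presheaf.imageSieve_mem (AlgSp.J S) p.hom
      (pval (FibCat.fpFst (ofSpMap g) f) Q)) fun W v hv => ?_
    obtain ⟨t, ht⟩ := hv
    obtain ⟨Q', m, hm⟩ := hG.exists_lift v
    obtain rfl : W = (FibCat.fp (ofSpMap g) f).p.obj Q' :=
      (IsHomLift.domain_eq (FibCat.fp (ofSpMap g) f).p v m).symm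
    obtain rfl : v = (FibCat.fp (ofSpMap g) f).p.map m :=
      IsHomLift.eq_of_isHomLift (FibCat.fp (ofSpMap g) f).p v m
    have e := hχ Q' t ((pval_nat (FibCat.fpFst (ofSpMap g) f) m).symm.trans ht.symm)
    rw [← hψ] at e
    rw [pval_nat φ m, e]
    refine ((NatTrans.naturality_apply ψ.hom _ _).symm.trans ?_)
    exact congrArg (ψ.hom.app _) ht.symm
  · obtain ⟨i⟩ := hψ'
    refine (cancel_epi p).1 ((char_ext hf hN hY hp (fun Q t ht => ?_) hχ).trans hψ.symm)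
    have e := pval_hom i.hom Q
    rw [pval_ofPshMap, ht] at e
    exact e.symm

theorem pval_of_obj_eq {𝒜 : AlgSt.Cat S} {φ ψ : 𝒜 ⥤ᵇ ofSp N} {a : 𝒜.obj} (h : φ.obj a = ψ.obj a) :
    pval φ a = pval ψ a := by
  have key : ∀ (z z' : (ofSp N).obj), z = z' → ∀ (h : z.base = 𝒜.p.obj a) (h' : z'.base = 𝒜.p.obj a),
      N.obj.map (eqToHom h.symm).op z.sec = N.obj.map (eqToHom h'.symm).op z'.sec := by
    rintro z _ rfl h h'
    rfl
  exact key _ _ h (φ.w_obj a) (ψ.w_obj a)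

include hf in
theorem catModuli (h𝒳 : FibCat.IsFibGrpd 𝒳.p) (hY : AlgSp.IsAlgSpace Y) : IsCatModuli f := by
  have h := isCatModuli_fpFst (g := 𝟙 Y) hf h𝒳 hY hY
    (AlgSpace.locP_id hY)
  refine ⟨hY, fun N hN φ => ?_⟩
  obtain ⟨ψ, ⟨i⟩, hu⟩ := h.2 N hN (BasedFunctor.comp (FibCat.fpSnd (ofSpMap (𝟙 Y)) f) φ)
  have he := Quot16.eq_of_iso i
  refine ⟨ψ, ⟨eqToIso (Quot16.ofPsh_functor_ext _ _ fun x => pval_of_obj_eq ?_)⟩, fun ψ' hψ' => hu ψ' ?_⟩
  · have hz : (ofSpMap (𝟙 Y)).obj (f.obj x) = f.obj x := rfl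
    have hl : (ofSp Y).p.IsHomLift (𝟙 (𝒳.p.obj x)) (eqToHom hz) :=
      IsHomLift.eqToHom_domain_lift_id hz (f.w_obj x)
    exact congrArg (fun F : FibCat.fp (ofSpMap (𝟙 Y)) f ⥤ᵇ ofSp N => F.obj
      (fpObj (f.obj x) x (eqToIso hz) (f.w_obj x) hl)) he
  · obtain ⟨j⟩ := hψ'
    exact ⟨(eqToIso rfl) ≪≫ wrIso (FibCat.fpIso (ofSpMap (𝟙 Y)) f) (ofSpMap ψ') ≪≫
      wlIso (FibCat.fpSnd (ofSpMap (𝟙 Y)) f) j⟩

end Groth.Agent.StAlg16.UnifModuli
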