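import Groth.Agent.Lib.StAlg16.Topology
import Groth.Agent.Lib.StAlg16.UnivInj

/-! Universal injectivity is local on the target. -/

universe u

open CategoryTheory CategoryTheory.Functor CategoryTheory.Limits AlgebraicGeometry Opposite

set_option linter.style.haveILetI false
set_option linter.unusedSectionVars false
set_option backward.isDefEq.respectTransparency false
set_option backward.isDefEq.respectTransparency.types false

namespace Groth.Agent.StAlg16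

open Groth.Agent.FC16 Groth.Agent.StAlg AlgSt

variable {S : Scheme.{u}} {𝒳 𝒴 : AlgSt.Cat S} {f : 𝒳 ⥤ᵇ 𝒴}

section

variable {𝒵 𝒵' : AlgSt.Cat S}

theorem injective_fst_congr {g₁ g₂ : 𝒵 ⥤ᵇ 𝒴} (i : g₁ ≅ g₂)
    (h : Function.Injective (Points.map (FibCat.fpFst g₁ f))) :
    Function.Injective (Points.map (FibCat.fpFst g₂ f)) := fun a b e => by
  have hE : FibCat.IsEquivOver (fpMap (a := BasedFunctor.id 𝒵) (b := BasedFunctor.id 𝒳) (s := BasedFunctor.id 𝒴)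
      (F := g₂) (G := f) (F' := g₁) (G' := f) i (Iso.refl _)) := by
    haveI := idFun_full (𝒳 := 𝒴)
    haveI := idFun_faithful (𝒳 := 𝒴)
    exact fpMap_isEquivOver (a := BasedFunctor.id 𝒵) (b := BasedFunctor.id 𝒳) (s := BasedFunctor.id 𝒴)
      (F := g₂) (G := f) (F' := g₁) (G' := f) i (Iso.refl _) isEquivOver_id isEquivOver_id
  apply (map_bijective hE).1
  apply h
  rw [← map_comp_apply, ← map_comp_apply]
  exact e

theorem injective_fst_paste (c : 𝒵' ⥤ᵇ 𝒵) (g : 𝒵 ⥤ᵇ 𝒴)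
    (h : Function.Injective (Points.map (FibCat.fpFst (BasedFunctor.comp c g) f))) :
    Function.Injective (Points.map (FibCat.fpFst c (FibCat.fpFst g f))) := fun a b e => by
  apply (map_bijective (pasteL_isEquivOver c g f)).1
  apply h
  rw [← map_comp_apply, ← map_comp_apply]
  exact e

theorem injective_fst_unpaste (c : 𝒵' ⥤ᵇ 𝒵) (g : 𝒵 ⥤ᵇ 𝒴)
    (h : Function.Injective (Points.map (FibCat.fpFst c (FibCat.fpFst g f)))) :
    Function.Injective (Points.map (FibCat.fpFst (BasedFunctor.comp c g) f)) := fun a b e => by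
  obtain ⟨a', rfl⟩ := (map_bijective (pasteL_isEquivOver c g f)).2 a
  obtain ⟨b', rfl⟩ := (map_bijective (pasteL_isEquivOver c g f)).2 b
  rw [← map_comp_apply, ← map_comp_apply] at e
  exact congrArg _ (h e)

/-- injectivity of a base change can be checked above each point -/
theorem injective_fst_of_forall (h𝒳 : FibCat.IsFibGrpd 𝒳.p) (h𝒴 : FibCat.IsFibGrpd 𝒴.p)
    (h𝒵 : FibCat.IsFibGrpd 𝒵.p) (g : 𝒵 ⥤ᵇ 𝒴)
    (H : ∀ z : Points 𝒵, ∃ (𝒵' : AlgSt.Cat S) (c : 𝒵' ⥤ᵇ 𝒵), FibCat.IsFibGrpd 𝒵'.p ∧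
      z ∈ Set.range (Points.map c) ∧ Function.Injective (Points.map (FibCat.fpFst (BasedFunctor.comp c g) f))) :
    Function.Injective (Points.map (FibCat.fpFst g f)) := fun a b e => by
  obtain ⟨𝒲, c, hW, ⟨z', hz'⟩, hi⟩ := H (Points.map (FibCat.fpFst g f) a)
  have hQ := fp_isFibGrpd h𝒵 h𝒳 h𝒴 g f
  obtain ⟨a', ha₁, ha₂⟩ := exists_fp_point hQ h𝒵 hW (FibCat.fpFst g f) c z' a hz'
  obtain ⟨b', hb₁, hb₂⟩ := exists_fp_point hQ h𝒵 hW (FibCat.fpFst g f) c z' b (hz'.trans e)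
  have := injective_fst_paste c g hi (ha₁.trans hb₁.symm)
  rw [← ha₂, ← hb₂, this]

end

theorem isUnivInjective_of_forall_affine (h𝒳 : FibCat.IsFibGrpd 𝒳.p) (h𝒴 : FibCat.IsFibGrpd 𝒴.p)
    (h : ∀ (Z : Over S) [IsAffine Z.left] (z : FibCat.overCat Z ⥤ᵇ 𝒴),
      AlgSt.IsUnivInjective Scheme.fppfPrecoverage (FibCat.fpFst z f)) :
    AlgSt.IsUnivInjective Scheme.fppfPrecoverage f := fun 𝒵 h𝒵 g =>
  injective_fst_of_forall h𝒳 h𝒴 h𝒵.isStack.1 g fun z => by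
    obtain ⟨p, rfl⟩ := Points.mk_surjective z
    haveI := FC16.isFibered h𝒵.isStack.1
    let Z : Over S := Over.mk p.str
    haveI : IsAffine Z.left := isAffine_Spec _
    let c : AlgSt.ofSch Z ⥤ᵇ 𝒵 := BasedFunctor.comp (AlgSt.toOverCat Z) (ofObj p.lies)
    refine ⟨AlgSt.ofSch Z, c, (isStack_ofSp _).1, ?_, ?_⟩
    · let q : FPt (FibCat.overCat Z) := { K := p.K, str := p.str, obj := Over.mk (𝟙 _), lies := rfl }
      obtain ⟨w, hw⟩ := (map_bijective (toOverCat_isEquivOver Z)).2 (Points.mk q)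
      refine ⟨w, ?_⟩
      rw [map_comp_apply, hw]
      exact Points.sound ⟨q.map (ofObj p.lies), 𝟙 _, (ofObjIso p.lies).hom, trivial⟩
    · have hZ : IsAlgStack Scheme.fppfPrecoverage (AlgSt.ofSch Z) :=
        (isDM_of_rep (𝒳 := AlgSt.ofSch Z) ⟨⟨_, AlgSp.IsAlgSpace.yon_obj Z⟩, BasedFunctor.id _, isEquivOver_id⟩).1
      have h1 := h Z (BasedFunctor.comp (ofObj p.lies) g) (AlgSt.ofSch Z) hZ (AlgSt.toOverCat Z)
      intro a b e
      obtain ⟨a', rfl⟩ := (map_bijective (pasteL_isEquivOver (AlgSt.toOverCat Z) (BasedFunctor.comp (ofObj p.lies) g) f)).2 a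
      obtain ⟨b', rfl⟩ := (map_bijective (pasteL_isEquivOver (AlgSt.toOverCat Z) (BasedFunctor.comp (ofObj p.lies) g) f)).2 b
      rw [← map_comp_apply, ← map_comp_apply] at e
      exact congrArg _ (h1 e)

theorem isUnivInjective_of_cover (h𝒳 : FibCat.IsFibGrpd 𝒳.p) (h𝒴 : IsAlgStack Scheme.fppfPrecoverage 𝒴)
    {𝒲 : AlgSt.Cat S} (h𝒲 : IsAlgStack Scheme.fppfPrecoverage 𝒲) (w : 𝒲 ⥤ᵇ 𝒴) (hw : IsSurjective w)
    (h : AlgSt.IsUnivInjective Scheme.fppfPrecoverage (FibCat.fpFst w f)) :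
    AlgSt.IsUnivInjective Scheme.fppfPrecoverage f := fun 𝒵 h𝒵 g =>
  injective_fst_of_forall h𝒳 h𝒴.isStack.1 h𝒵.isStack.1 g fun z => by
    have hA := StAlg.isAlgStack_fp h𝒴.isStack h𝒴.diag h𝒵 h𝒲 g w
    refine ⟨FibCat.fp g w, FibCat.fpFst g w, hA.isStack.1, ?_, ?_⟩
    · exact isSurjective_fpFst h𝒲.isStack.1 h𝒴.isStack.1 h𝒵.isStack.1 g hw z
    · exact injective_fst_congr (FibCat.fpIso g w).symm (injective_fst_unpaste _ _ (h _ hA (FibCat.fpSnd g w)))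

end Groth.Agent.StAlg16
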