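import Groth.Agent.Lib.StAlg16.QCMor
import Groth.Agent.Lib.H12.Specialization
import Mathlib.AlgebraicGeometry.ValuativeCriterion
import Mathlib.AlgebraicGeometry.Morphisms.UniversallyOpen

/-! Valuation rings witnessing specializations in algebraic stacks. -/

universe u

open CategoryTheory CategoryTheory.Functor CategoryTheory.Limits AlgebraicGeometry Opposite IsLocalRing

set_option linter.style.haveILetI false

namespace Groth.Agent.StAlg16

open Groth.Agent.FC16 Groth.Agent.StAlg AlgSt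

set_option backward.isDefEq.respectTransparency.types false in
/-- A specialization of an image point is witnessed by a valuation ring. -/
theorem exists_valuationRing_of_specializes {W V : Scheme.{u}} (h : W ⟶ V) (w : W) (v : V) (hv : h w ⤳ v) :
    ∃ (A : Type u) (_ : CommRing A) (_ : IsDomain A) (_ : ValuationRing A) (a : Spec (CommRingCat.of A) ⟶ V)
      (b : Spec (CommRingCat.of (FractionRing A)) ⟶ W),
      b ≫ h = Spec.map (CommRingCat.ofHom (algebraMap A (FractionRing A))) ≫ a ∧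
      a (closedPoint A) = v ∧ b (closedPoint (FractionRing A)) = w := by
  let s : V.presheaf.stalk v ⟶ W.residueField w := V.presheaf.stalkSpecializes hv ≫ h.stalkMap w ≫ W.residue w
  obtain ⟨A, hA, hA_local⟩ := exists_factor_valuationRing s.hom
  let sA : V.presheaf.stalk v ⟶ .of A := CommRingCat.ofHom (s.hom.codRestrict _ hA)
  let e : W.residueField w ⟶ CommRingCat.of (FractionRing A) :=
    CommRingCat.ofHom ((FractionRing.algEquiv A (W.residueField w)).symm.toRingEquiv.toRingHom)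
  have he : CommRingCat.ofHom (algebraMap A (W.residueField w)) ≫ e =
      CommRingCat.ofHom (algebraMap A (FractionRing A)) :=
    CommRingCat.hom_ext (RingHom.ext fun a => (FractionRing.algEquiv A (W.residueField w)).symm.commutes a)
  refine ⟨A, inferInstance, inferInstance, inferInstance, Spec.map sA ≫ V.fromSpecStalk v,
    Spec.map e ≫ W.fromSpecResidueField w, ?_, ?_, ?_⟩
  · have hw : W.fromSpecResidueField w ≫ h =
        Spec.map (CommRingCat.ofHom (algebraMap A (W.residueField w))) ≫ Spec.map sA ≫ V.fromSpecStalk v := by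
      rw [Scheme.fromSpecResidueField, Category.assoc, ← Scheme.SpecMap_stalkMap_fromSpecStalk,
        ← Scheme.SpecMap_stalkSpecializes_fromSpecStalk hv]
      simp_rw [← Spec.map_comp_assoc]
      rfl
    rw [Category.assoc, hw, ← Spec.map_comp_assoc, he]
  · have : Spec.map sA (closedPoint A) = closedPoint (V.presheaf.stalk v) :=
      comap_closedPoint (S := A) (s.hom.codRestrict A.toSubring hA)
    rw [Scheme.Hom.comp_apply]
    exact (congrArg _ this).trans (V.fromSpecStalk_closedPoint)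
  · rw [Scheme.Hom.comp_apply]
    exact W.fromSpecResidueField_apply w _

variable {S : Scheme.{u}} {𝒳 𝒴 : AlgSt.Cat S}

set_option backward.isDefEq.respectTransparency.types false in
theorem exists_valuationRing_witness (h𝒳 : IsAlgStack Scheme.fppfPrecoverage 𝒳)
    (h𝒴 : IsAlgStack Scheme.fppfPrecoverage 𝒴) (f : 𝒳 ⥤ᵇ 𝒴)
    (hf : AlgSt.IsQuasiCompactMor Scheme.fppfPrecoverage f) (y : AlgSt.Points 𝒴)
    (hy : y ∈ closure (Set.range (AlgSt.Points.map f))) :
    ∃ (A : Type u) (_ : CommRing A) (_ : IsDomain A) (_ : ValuationRing A) (sA : Spec (CommRingCat.of A) ⟶ S)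
      (a : FibCat.overCat (Over.mk sA) ⥤ᵇ 𝒴)
      (x : FibCat.overCat (Over.mk (Spec.map (CommRingCat.ofHom (algebraMap A (FractionRing A))) ≫ sA)) ⥤ᵇ 𝒳),
      Nonempty (BasedFunctor.comp x f ≅
        BasedFunctor.comp (AlgSt.overMap (Over.homMk (Spec.map (CommRingCat.ofHom (algebraMap A (FractionRing A)))) rfl :
          Over.mk (Spec.map (CommRingCat.ofHom (algebraMap A (FractionRing A))) ≫ sA) ⟶ Over.mk sA)) a) ∧
      AlgSt.Points.ofChart a (IsLocalRing.closedPoint A) = y := by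
  obtain ⟨V₀, y₀, hsm, hsu⟩ := h𝒴.atlas
  obtain ⟨v₀, hv₀⟩ := surjective_ofChart h𝒴.isStack.1 hsu y
  obtain ⟨O, hO, hvO, -⟩ := exists_isAffineOpen_mem_and_subset (X := V₀.left) (x := v₀) (U := ⊤) trivial
  let V : Over S := Over.mk (O.ι ≫ V₀.hom)
  haveI : IsAffine V.left := hO
  let ι : V ⟶ V₀ := Over.homMk O.ι rfl
  let av : FibCat.overCat V ⥤ᵇ 𝒴 := BasedFunctor.comp (AlgSt.overMap ι) y₀
  have hav : Points.ofChart av = Points.ofChart y₀ ∘ ι.left := funext fun t => ofChart_overMap ι y₀ t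
  have hopen : IsOpenMap (Points.ofChart av) := by
    rw [hav]
    exact (isOpenMap_ofChart h𝒴.isStack.1 (with_locP_mono smooth_le_flat hsm)
      (with_locP_mono smooth_le_lfp hsm)).comp O.ι.isOpenEmbedding.isOpenMap
  let v : V.left := ⟨v₀, hvO⟩
  have hv : Points.ofChart av v = y := by rw [hav]; exact hv₀
  have hvcl : v ∈ closure (Points.ofChart av ⁻¹' Set.range (Points.map f)) :=
    hopen.preimage_closure_subset_closure_preimage (by rw [Set.mem_preimage, hv]; exact hy)
  have hP := isAlgStack_fp' (isAlgStack_overCat V) h𝒳 h𝒴 av f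
  obtain ⟨W, c, hW, -, hcs⟩ := (isQuasiCompact_iff_scheme_chart hP).1
    (hf _ (isAlgStack_overCat V) (isQuasiCompact_overCat V) av)
  obtain ⟨h, ⟨jh⟩⟩ := exists_overMap_iso (BasedFunctor.comp c (FibCat.fpFst av f))
  have hsub : Points.ofChart av ⁻¹' Set.range (Points.map f) ⊆ Set.range h.left := by
    rintro t ⟨x₁, hx₁⟩
    obtain ⟨p, hp₁, -⟩ := exists_fp_point h𝒳.isStack.1 h𝒴.isStack.1 (overCat_isFibGrpd V) f av
      (Points.mk (chartPt V t)) x₁ hx₁.symm
    obtain ⟨w, rfl⟩ := surjective_ofChart hP.isStack.1 hcs p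
    refine ⟨w, ?_⟩
    rw [ofChart_eq, ← map_comp_apply, map_eq_map_of_iso jh, map_overMap_chartPt] at hp₁
    simpa only [ptOf_chartPt] using congrArg ptOf hp₁
  haveI := hW
  haveI : QuasiCompact h.left := HasAffineProperty.iff_of_isAffine.mpr hW
  obtain ⟨w, hw⟩ := H12.exists_specializes_of_mem_closure_range h.left v (closure_mono hsub hvcl)
  obtain ⟨A, i1, i2, i3, a, b, hab, ha, -⟩ := exists_valuationRing_of_specializes h.left w v hw
  letI := i1; haveI := i2; haveI := i3
  let sA : Spec (CommRingCat.of A) ⟶ S := a ≫ V.hom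
  let q : Spec (CommRingCat.of (FractionRing A)) ⟶ Spec (CommRingCat.of A) :=
    Spec.map (CommRingCat.ofHom (algebraMap A (FractionRing A)))
  let a' : Over.mk sA ⟶ V := Over.homMk a rfl
  let b' : Over.mk (q ≫ sA) ⟶ W := Over.homMk b (by
    show b ≫ W.hom = q ≫ a ≫ V.hom
    rw [← Over.w h, ← Category.assoc, hab, Category.assoc])
  let q' : Over.mk (q ≫ sA) ⟶ Over.mk sA := Over.homMk q rfl
  refine ⟨A, i1, i2, i3, sA, BasedFunctor.comp (AlgSt.overMap a') av,
    BasedFunctor.comp (BasedFunctor.comp (AlgSt.overMap b') c) (FibCat.fpSnd av f), ⟨?_⟩, ?_⟩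
  · have e : q' ≫ a' = b' ≫ h := Over.OverMorphism.ext hab.symm
    exact wlIso (AlgSt.overMap b') (wlIso c (FibCat.fpIso av f).symm ≪≫ wrIso jh av) ≪≫
      wrIso (overMapComp b' h ≪≫ eqToIso (by rw [e]) ≪≫ (overMapComp q' a').symm) av
  · rw [ofChart_overMap]
    exact (congrArg (Points.ofChart av) ha).trans hv

set_option backward.isDefEq.respectTransparency.types false in
theorem exists_valuationRing_lift (h𝒳 : IsAlgStack Scheme.fppfPrecoverage 𝒳)
    (h𝒴 : IsAlgStack Scheme.fppfPrecoverage 𝒴) (f : 𝒳 ⥤ᵇ 𝒴) (hf : AlgSt.LocQ (AlgSp.LocP @Flat) f)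
    (A : Type u) [CommRing A] [IsDomain A] [ValuationRing A] (sA : Spec (CommRingCat.of A) ⟶ S)
    (a : FibCat.overCat (Over.mk sA) ⥤ᵇ 𝒴)
    (ha : AlgSt.Points.ofChart a (IsLocalRing.closedPoint A) ∈ Set.range (AlgSt.Points.map f)) :
    ∃ (A' : Type u) (_ : CommRing A') (_ : IsDomain A') (_ : ValuationRing A') (φ : A →+* A'),
      Function.Injective φ ∧ IsLocalHom φ ∧
      ∃ x : FibCat.overCat (Over.mk (Spec.map (CommRingCat.ofHom φ) ≫ sA)) ⥤ᵇ 𝒳,
        Nonempty (BasedFunctor.comp x f ≅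
          BasedFunctor.comp (AlgSt.overMap (Over.homMk (Spec.map (CommRingCat.ofHom φ)) rfl :
            Over.mk (Spec.map (CommRingCat.ofHom φ) ≫ sA) ⟶ Over.mk sA)) a) := by
  obtain ⟨U, V, x, y, h, e, -, hxs, hy, hh⟩ := hf
  let T : Over S := Over.mk sA
  let c₀ : T.left := closedPoint A
  obtain ⟨x₀, hx₀⟩ := ha
  obtain ⟨u, hu⟩ := surjective_ofChart h𝒳.isStack.1 hxs x₀
  have hflat : Flat h.left := (AlgSp.repWith_yon_map_iff @Flat h).1 (AlgSpace.repWith_of_locP
    (AlgSp.IsAlgSpace.yon_obj V) ((AlgSp.repWith_yon_map_iff ⊤ h).2 (by trivial)).1 hh)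
  obtain ⟨W, h₁, c, ⟨j⟩, hc, hcs⟩ := exists_good (isAlgStack_overCat V) h𝒴 y a
  have hh₁ : Smooth h₁.left := of_with_locP_overMap h₁ (with_of_iso j
    (with_comp goodP_locP (overCat_isFibGrpd W)
      (fp_isFibGrpd (overCat_isFibGrpd T) (overCat_isFibGrpd V) h𝒴.isStack.1 a y) hc (with_fpFst a hy)))
  obtain ⟨l, ⟨jl⟩⟩ := exists_overMap_iso (BasedFunctor.comp c (FibCat.fpSnd a y))
  have key : Points.map a (Points.mk (chartPt T c₀)) = Points.map y (Points.mk (chartPt V (h.left u))) := by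
    show Points.ofChart a c₀ = Points.ofChart y (h.left u)
    rw [← ofChart_overMap h y, ← ofChart_congr e]
    exact hx₀.symm.trans (congrArg (Points.map f) hu.symm)
  obtain ⟨p, hp₁, hp₂⟩ := exists_fp_point (overCat_isFibGrpd V) h𝒴.isStack.1 (overCat_isFibGrpd T) y a
    (Points.mk (chartPt T c₀)) (Points.mk (chartPt V (h.left u))) key
  obtain ⟨w₁, rfl⟩ := surjective_ofChart
    (fp_isFibGrpd (overCat_isFibGrpd T) (overCat_isFibGrpd V) h𝒴.isStack.1 a y) hcs p
  rw [ofChart_eq, ← map_comp_apply, map_eq_map_of_iso j, map_overMap_chartPt] at hp₁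
  rw [ofChart_eq, ← map_comp_apply, map_eq_map_of_iso jl, map_overMap_chartPt] at hp₂
  have hw₁ : h₁.left w₁ = c₀ :=
    (ptOf_chartPt (h₁.left w₁)).symm.trans ((congrArg ptOf hp₁).trans (ptOf_chartPt c₀))
  have hl₁ : l.left w₁ = h.left u := by simpa only [ptOf_chartPt] using congrArg ptOf hp₂
  obtain ⟨m, hm₁, hm₂⟩ := Scheme.Pullback.exists_preimage_pullback (f := h.left) (g := l.left) u w₁ hl₁.symm
  let π : pullback h.left l.left ⟶ T.left := pullback.snd h.left l.left ≫ h₁.left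
  haveI : Flat π := inferInstance
  have hπm : π m = c₀ := by rw [Scheme.Hom.comp_apply, hm₂, hw₁]
  let η : T.left := (⟨⊥, Ideal.isPrime_bot⟩ : PrimeSpectrum A)
  have hη : η ⤳ π m := by
    rw [hπm]
    exact (PrimeSpectrum.le_iff_specializes _ _).1 bot_le
  obtain ⟨m', hm', hπ'⟩ := Flat.generalizingMap π hη
  obtain ⟨A', i1, i2, i3, g, g₀, hg, hgc, hg₀⟩ := exists_valuationRing_of_specializes (𝟙 _) m' m hm'
  letI := i1; haveI := i2; haveI := i3
  obtain ⟨φ', hφ'⟩ : ∃ φ' : CommRingCat.of A ⟶ CommRingCat.of A', Spec.map φ' = g ≫ π :=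
    ⟨Spec.preimage (g ≫ π), Spec.map_preimage _⟩
  refine ⟨A', i1, i2, i3, φ'.hom, ?_, ?_, ?_⟩
  · have h0 : (Spec.map φ') (Spec.map (CommRingCat.ofHom (algebraMap A' (FractionRing A')))
        (closedPoint (FractionRing A'))) = (⟨⊥, Ideal.isPrime_bot⟩ : PrimeSpectrum A) := by
      rw [hφ', Scheme.Hom.comp_apply, ← Scheme.Hom.comp_apply _ g, ← hg, Category.comp_id, hg₀, hπ']
    have h1 : Ideal.comap φ'.hom (Ideal.comap (algebraMap A' (FractionRing A')) (maximalIdeal (FractionRing A'))) = ⊥ :=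
      congrArg PrimeSpectrum.asIdeal h0
    rw [injective_iff_map_eq_zero]
    intro t ht
    have : t ∈ (⊥ : Ideal A) := h1 ▸ (by simp [Ideal.mem_comap, ht])
    exact this
  · have h0 : (Spec.map φ') (closedPoint A') = closedPoint A := by
      rw [hφ', Scheme.Hom.comp_apply, hgc, hπm]
    exact ((IsLocalRing.local_hom_TFAE φ'.hom).out 0 4).2 (congrArg PrimeSpectrum.asIdeal h0)
  let G : Over.mk (Spec.map φ' ≫ sA) ⟶ U := Over.homMk (g ≫ pullback.fst h.left l.left) (by
    show (g ≫ pullback.fst h.left l.left) ≫ U.hom = Spec.map φ' ≫ sA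
    rw [hφ', ← Over.w h]
    show (g ≫ pullback.fst h.left l.left) ≫ h.left ≫ V.hom = (g ≫ pullback.snd h.left l.left ≫ h₁.left) ≫ T.hom
    rw [Category.assoc, pullback.condition_assoc, Over.w l, Category.assoc, Category.assoc, Over.w h₁])
  let M : Over.mk (Spec.map φ' ≫ sA) ⟶ W := Over.homMk (g ≫ pullback.snd h.left l.left) (by
    show (g ≫ pullback.snd h.left l.left) ≫ W.hom = Spec.map φ' ≫ sA
    rw [hφ', ← Over.w h₁]
    show (g ≫ pullback.snd h.left l.left) ≫ h₁.left ≫ T.hom = (g ≫ pullback.snd h.left l.left ≫ h₁.left) ≫ T.hom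
    simp only [Category.assoc])
  let q : Over.mk (Spec.map φ' ≫ sA) ⟶ T := Over.homMk (Spec.map φ') rfl
  have e₁ : G ≫ h = M ≫ l := Over.OverMorphism.ext (by
    show (g ≫ pullback.fst h.left l.left) ≫ h.left = (g ≫ pullback.snd h.left l.left) ≫ l.left
    rw [Category.assoc, Category.assoc, pullback.condition])
  have e₂ : M ≫ h₁ = q := Over.OverMorphism.ext (by
    show (g ≫ pullback.snd h.left l.left) ≫ h₁.left = Spec.map φ'
    rw [hφ', Category.assoc])
  exact ⟨BasedFunctor.comp (AlgSt.overMap G) x, ⟨wlIso (AlgSt.overMap G) e ≪≫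
    wrIso (overMapComp G h ≪≫ eqToIso (by rw [e₁]) ≪≫ (overMapComp M l).symm) y ≪≫
    wlIso (AlgSt.overMap M) (wrIso jl.symm y ≪≫ wlIso c (FibCat.fpIso a y).symm ≪≫ wrIso j a) ≪≫
    wrIso (overMapComp M h₁ ≪≫ eqToIso (congrArg AlgSt.overMap e₂)) a⟩⟩

end Groth.Agent.StAlg16
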